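import Groth.Agent.Lib.Lambda.Split
import Mathlib.LinearAlgebra.TensorProduct.Basic
import Mathlib.LinearAlgebra.Eigenspace.Basic
import Mathlib.RingTheory.Coprime.Lemmas

/-!
The eigenspaces of the Adams operations on ℚ ⊗ K.
-/

universe u

open Finset

namespace Groth.Agent.Lambda

open LambdaRing (LambdaOps adamsOp gamma PosStructure HasSplitting gammaFiltration)
open scoped TensorProduct

section Abstract

variable {V : Type u} [AddCommGroup V] [Module ℚ V]

/-- The product of the Ψ - c for c in a list. -/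
def annih (Ψ : V →ₗ[ℚ] V) : List ℚ → (V →ₗ[ℚ] V)
  | [] => LinearMap.id
  | c :: cs => (annih Ψ cs).comp (Ψ - c • LinearMap.id)

lemma annih_eigen (Ψ : V →ₗ[ℚ] V) (μ : ℚ) (v : V) (hv : Ψ v = μ • v) :
    ∀ cs, annih Ψ cs v = (cs.map fun c => μ - c).prod • v
  | [] => by simp [annih]
  | c :: cs => by
    simp [annih, hv, ← sub_smul, map_smul, annih_eigen Ψ μ v hv cs, smul_smul, mul_comm]

lemma annih_comm (Ψ : V →ₗ[ℚ] V) : ∀ cs x, annih Ψ cs (Ψ x) = Ψ (annih Ψ cs x)
  | [], x => by simp [annih]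
  | c :: cs, x => by
    simp only [annih, LinearMap.comp_apply, LinearMap.sub_apply, LinearMap.smul_apply,
      LinearMap.id_apply]
    rw [← annih_comm Ψ cs]
    simp only [map_sub, map_smul]

variable {Ψ : V →ₗ[ℚ] V} {Q : ℕ → Submodule ℚ V} {c : ℕ → ℚ} {d : ℕ}

lemma annih_mem (hΨ : ∀ m, ∀ x ∈ Q m, Ψ x - c m • x ∈ Q (m + 1)) :
    ∀ (N k : ℕ) (x : V), x ∈ Q k → annih Ψ ((List.range' k N).map c) x ∈ Q (k + N)
  | 0, k, x, hx => by simpa [annih] using hx
  | N + 1, k, x, hx => by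
    rw [List.range'_succ, List.map_cons, annih, show k + (N + 1) = k + 1 + N by omega]
    exact annih_mem hΨ N (k + 1) _ (by simpa using hΨ k x hx)

variable (hanti : ∀ m, Q (m + 1) ≤ Q m) (hΨ : ∀ m, ∀ x ∈ Q m, Ψ x - c m • x ∈ Q (m + 1))
  (htop : Q 0 = ⊤) (hbot : Q (d + 1) = ⊥) (hc : Function.Injective c)

include hanti hbot in
lemma Q_eq_bot : ∀ m, d + 1 ≤ m → Q m = ⊥ := by
  intro m hm
  induction m, hm using Nat.le_induction with
  | base => exact hbot
  | succ n hn ih => exact le_bot_iff.1 (ih ▸ hanti n)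

omit hanti hΨ htop hbot in
include hc in
lemma prod_ne_zero_of {k N m : ℕ} (hm : m < k ∨ k + N ≤ m) :
    ((List.range' k N).map c |>.map fun e => c m - e).prod ≠ 0 := by
  rw [Ne, List.prod_eq_zero_iff]
  simp only [List.map_map, List.mem_map, Function.comp_apply, List.mem_range'_1, not_exists, not_and]
  intro i hi he
  have := hc (sub_eq_zero.1 he)
  omega

include hanti hΨ htop hbot hc in
theorem eigen_sup_inf (m : ℕ) :
    Module.End.eigenspace Ψ (c m) ⊔ Q (m + 1) = Q m ∧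
      Module.End.eigenspace Ψ (c m) ⊓ Q (m + 1) = ⊥ := by
  have hsub : ∀ v, Ψ v = c m • v → v ∈ Q m := by
    intro v hv
    have h := annih_mem hΨ m 0 v (by rw [htop]; trivial)
    rw [annih_eigen Ψ _ v hv, zero_add] at h
    exact (Submodule.smul_mem_iff _ (prod_ne_zero_of hc (Or.inr (by omega)))).1 h
  have hinf : Module.End.eigenspace Ψ (c m) ⊓ Q (m + 1) = ⊥ := by
    rw [eq_bot_iff]
    rintro v ⟨hv, hv'⟩
    rw [SetLike.mem_coe, Module.End.mem_eigenspace_iff] at hv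
    have h := annih_mem hΨ (d + 1) (m + 1) v hv'
    rw [annih_eigen Ψ _ v hv, Q_eq_bot hanti hbot _ (by omega), Submodule.mem_bot, smul_eq_zero] at h
    exact h.resolve_left (prod_ne_zero_of hc (Or.inl (by omega)))
  refine ⟨le_antisymm (sup_le (fun v hv => hsub v (Module.End.mem_eigenspace_iff.1 hv)) (hanti m)) ?_,
    hinf⟩
  intro x hx
  set cs := (List.range' (m + 1) (d + 1)).map c
  set a := (cs.map fun e => c m - e).prod with ha
  have ha0 : a ≠ 0 := prod_ne_zero_of hc (Or.inl (by omega))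
  have hy : annih Ψ cs x ∈ Module.End.eigenspace Ψ (c m) := by
    rw [Module.End.mem_eigenspace_iff, ← sub_eq_zero, ← annih_comm, ← map_smul, ← map_sub]
    have h := annih_mem hΨ (d + 1) (m + 1) _ (hΨ m x hx)
    rwa [Q_eq_bot hanti hbot _ (by omega), Submodule.mem_bot] at h
  have hcong : ∀ (es : List ℕ), annih Ψ (es.map c) x - ((es.map c).map fun e => c m - e).prod • x ∈
      Q (m + 1) := by
    intro es
    induction es with
    | nil => simp [annih]
    | cons e es ih =>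
      simp only [List.map_cons, annih, List.prod_cons, LinearMap.comp_apply, LinearMap.sub_apply,
        LinearMap.smul_apply, LinearMap.id_apply]
      rw [show annih Ψ (es.map c) (Ψ x - c e • x) = annih Ψ (es.map c) (Ψ x - c m • x) +
          (c m - c e) • annih Ψ (es.map c) x by simp [map_sub, map_smul, sub_smul],
        mul_smul, add_sub_assoc, ← smul_sub]
      refine add_mem ?_ (Submodule.smul_mem _ _ ih)
      have hh : ∀ (fs : List ℕ) (y : V), y ∈ Q (m + 1) → annih Ψ (fs.map c) y ∈ Q (m + 1) := by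
        intro fs
        induction fs with
        | nil => exact fun y hy => by simpa [annih] using hy
        | cons f fs ihf =>
          intro y hy
          refine ihf _ ?_
          have := hanti (m + 1) (hΨ (m + 1) y hy)
          have h2 : Ψ y - c f • y = (Ψ y - c (m + 1) • y) + (c (m + 1) - c f) • y := by
            simp [sub_smul]
          simpa [h2] using add_mem this (Submodule.smul_mem _ (c (m + 1) - c f) hy)
      exact hh es _ (hΨ m x hx)
  have h1 : x = a⁻¹ • annih Ψ cs x + a⁻¹ • (a • x - annih Ψ cs x) := by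
    rw [smul_sub, inv_smul_smul₀ ha0]; abel
  rw [h1]
  refine Submodule.add_mem_sup (Submodule.smul_mem _ _ hy) (Submodule.smul_mem _ _ ?_)
  rw [← neg_sub]
  exact neg_mem (hcong _)

include hanti hΨ htop hbot hc in
theorem iSup_eigen_eq_top :
    (⨆ m ∈ range (d + 1), Module.End.eigenspace Ψ (c m)) = ⊤ := by
  rw [eq_top_iff, ← htop]
  suffices h : ∀ k, k ≤ d + 1 → Q (d + 1 - k) ≤ ⨆ m ∈ range (d + 1), Module.End.eigenspace Ψ (c m) by
    simpa using h (d + 1) le_rfl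
  intro k hk
  induction k with
  | zero => rw [Nat.sub_zero, hbot]; exact bot_le
  | succ k ih =>
    rw [← (eigen_sup_inf hanti hΨ htop hbot hc (d + 1 - (k + 1))).1]
    refine sup_le (le_biSup (fun m => Module.End.eigenspace Ψ (c m)) (Finset.mem_range.2 (by omega))) ?_
    rw [show d + 1 - (k + 1) + 1 = d + 1 - k by omega]
    exact ih (by omega)

end Abstract

section Concrete

variable (K : Type u) [CommRing K] [LambdaOps K] (P : PosStructure K)

/-- The ℚ-span of the n-th term of the γ-filtration. -/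
noncomputable def QF (n : ℕ) : Submodule ℚ (ℚ ⊗[ℤ] K) :=
  Submodule.span ℚ ((fun x : K => (1 : ℚ) ⊗ₜ[ℤ] x) '' (gammaFiltration P n : Set K))

lemma QF_anti (m : ℕ) : QF K P (m + 1) ≤ QF K P m :=
  Submodule.span_mono (Set.image_mono (gammaFiltration_anti P (Nat.le_succ m)))

lemma QF_zero : QF K P 0 = ⊤ := by
  rw [eq_top_iff]
  intro z _
  induction z using TensorProduct.induction_on with
  | zero => exact zero_mem _
  | tmul q x =>
    rw [show q ⊗ₜ[ℤ] x = q • ((1 : ℚ) ⊗ₜ[ℤ] x) by rw [TensorProduct.smul_tmul', smul_eq_mul, mul_one]]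
    refine Submodule.smul_mem _ _ (Submodule.subset_span ⟨x, ?_, rfl⟩)
    simp [gammaFiltration_zero]
  | add a b ha hb => exact add_mem (ha trivial) (hb trivial)

variable {K P}

lemma natCast_pow_smul_tmul (j n : ℕ) (x : K) :
    ((j : ℚ) ^ n) • ((1 : ℚ) ⊗ₜ[ℤ] x) = (1 : ℚ) ⊗ₜ[ℤ] ((j : K) ^ n * x) := by
  rw [← Nat.cast_pow, ← Nat.cast_pow, Nat.cast_smul_eq_nsmul, ← nsmul_eq_mul]
  exact (map_nsmul (TensorProduct.mk ℤ ℚ K 1) _ x).symm

lemma QF_step (hK : HasSplitting K P) (j : ℕ) (hj : 1 ≤ j) (Ψ : ℚ ⊗[ℤ] K →ₗ[ℚ] ℚ ⊗[ℤ] K)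
    (hΨ : ∀ x : K, Ψ (1 ⊗ₜ[ℤ] x) = 1 ⊗ₜ[ℤ] LambdaRing.adams P j x) (m : ℕ) :
    ∀ x ∈ QF K P m, Ψ x - ((j : ℚ) ^ m) • x ∈ QF K P (m + 1) := by
  intro x hx
  refine Submodule.span_induction
    (p := fun x _ => Ψ x - ((j : ℚ) ^ m) • x ∈ QF K P (m + 1)) ?_ ?_ ?_ ?_ hx
  · rintro _ ⟨x, hx, rfl⟩
    rw [hΨ, natCast_pow_smul_tmul, ← TensorProduct.tmul_sub]
    exact Submodule.subset_span ⟨_, adams_sub_mem hK j hj m x hx, rfl⟩
  · simp
  · intro a b _ _ ha hb; rw [map_add, smul_add, add_sub_add_comm]; exact add_mem ha hb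
  · intro q a _ ha; rw [map_smul, smul_comm, ← smul_sub]; exact Submodule.smul_mem _ q ha

lemma QF_bot (d : ℕ) (hd : gammaFiltration P (d + 1) = ⊥) : QF K P (d + 1) = ⊥ := by
  rw [QF, hd]; simp

lemma pow_injective_of_two_le {j : ℕ} (hj : 2 ≤ j) : Function.Injective fun m : ℕ => (j : ℚ) ^ m :=
  (pow_right_strictMono₀ (by exact_mod_cast hj : (1 : ℚ) < j)).injective

theorem eigenspace_indep (hK : HasSplitting K P) (d : ℕ) (hd : gammaFiltration P (d + 1) = ⊥)
    (j l : ℕ) (hj : 2 ≤ j) (hl : 2 ≤ l) (Ψj Ψl : ℚ ⊗[ℤ] K →ₗ[ℚ] ℚ ⊗[ℤ] K)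
    (hΨj : ∀ x : K, Ψj (1 ⊗ₜ[ℤ] x) = 1 ⊗ₜ[ℤ] LambdaRing.adams P j x)
    (hΨl : ∀ x : K, Ψl (1 ⊗ₜ[ℤ] x) = 1 ⊗ₜ[ℤ] LambdaRing.adams P l x) (m : ℕ) :
    Module.End.eigenspace Ψj ((j : ℚ) ^ m) ≤ Module.End.eigenspace Ψl ((l : ℚ) ^ m) := by
  intro v hv
  rw [Module.End.mem_eigenspace_iff] at hv ⊢
  have h := eigen_sup_inf (c := fun m => (j : ℚ) ^ m) (QF_anti K P)
    (QF_step hK j (by omega) Ψj hΨj) (QF_zero K P) (QF_bot d hd) (pow_injective_of_two_le hj) m
  have hvQ : v ∈ QF K P m := h.1 ▸ Submodule.mem_sup_left (Module.End.mem_eigenspace_iff.2 hv)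
  have hw : Ψl v - ((l : ℚ) ^ m) • v ∈ QF K P (m + 1) := QF_step hK l (by omega) Ψl hΨl m v hvQ
  have hcomm : ∀ z, Ψj (Ψl z) = Ψl (Ψj z) := by
    intro z
    induction z using TensorProduct.induction_on with
    | zero => simp
    | tmul q x =>
      rw [show q ⊗ₜ[ℤ] x = q • ((1 : ℚ) ⊗ₜ[ℤ] x) by
        rw [TensorProduct.smul_tmul', smul_eq_mul, mul_one]]
      simp only [map_smul, hΨl, hΨj, adams_adams hK, mul_comm j l]
    | add a b ha hb => simp only [map_add, ha, hb]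
  have hw2 : Ψl v - ((l : ℚ) ^ m) • v ∈ Module.End.eigenspace Ψj ((j : ℚ) ^ m) := by
    rw [Module.End.mem_eigenspace_iff, map_sub, map_smul, hcomm, hv, map_smul, smul_sub, smul_comm]
  have := Submodule.mem_inf.2 ⟨hw2, hw⟩
  rw [h.2, Submodule.mem_bot, sub_eq_zero] at this
  exact this

end Concrete

end Groth.Agent.Lambda
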