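import Mathlib.LinearAlgebra.Lagrange
import Mathlib.RingTheory.Polynomial.Vieta
import Mathlib.RingTheory.Localization.FractionRing
import Mathlib.Algebra.Ring.GeomSum
import Mathlib.RingTheory.MvPolynomial.Basic
import Mathlib.Tactic.LinearCombination
import Mathlib.Tactic.Ring

/-!
The residue identity behind the Adams–Riemann–Roch formula for an elementary projection.
-/

universe u v

open Finset Polynomial

namespace Groth.Agent.Lambda.Residue

variable {L : Type u} [CommRing L] {r : ℕ}

/-- The split polynomial. -/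
noncomputable def splitPoly (u : Fin (r + 1) → L) : L[X] := ∏ a, (X - C (u a))

/-- The quotient of the split polynomial of the powers, evaluated at `X ^ j`, by the split polynomial. -/
noncomputable def bottB (j : ℕ) (u : Fin (r + 1) → L) : L[X] :=
  ∏ a, ∑ k ∈ range j, X ^ (j - 1 - k) * C (u a) ^ k

lemma splitPoly_monic (u : Fin (r + 1) → L) : (splitPoly u).Monic :=
  monic_prod_of_monic _ _ fun a _ => monic_X_sub_C (u a)

lemma natDegree_splitPoly [Nontrivial L] (u : Fin (r + 1) → L) : (splitPoly u).natDegree = r + 1 := by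
  rw [splitPoly, natDegree_prod_of_monic _ _ fun a _ => monic_X_sub_C (u a)]
  simp

lemma map_splitPoly {L' : Type v} [CommRing L'] (φ : L →+* L') (u : Fin (r + 1) → L) :
    (splitPoly u).map φ = splitPoly (φ ∘ u) := by
  simp [splitPoly, Polynomial.map_prod]

lemma map_bottB {L' : Type v} [CommRing L'] (φ : L →+* L') (j : ℕ) (u : Fin (r + 1) → L) :
    (bottB j u).map φ = bottB j (φ ∘ u) := by
  simp [bottB, Polynomial.map_prod, Polynomial.map_sum]

/-- The coefficient of `X ^ r` of the remainder. -/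
noncomputable def tau (u : Fin (r + 1) → L) : L[X] →ₗ[L] L :=
  (lcoeff L r) ∘ₗ modByMonicHom (splitPoly u)

lemma tau_apply (u : Fin (r + 1) → L) (g : L[X]) : tau u g = (g %ₘ splitPoly u).coeff r := rfl

lemma tau_congr (u : Fin (r + 1) → L) {g g' : L[X]} (h : splitPoly u ∣ g - g') : tau u g = tau u g' := by
  rw [tau_apply, tau_apply, modByMonic_eq_of_dvd_sub (splitPoly_monic u) h]

lemma tau_C_mul (u : Fin (r + 1) → L) (c : L) (g : L[X]) : tau u (C c * g) = c * tau u g := by
  rw [← smul_eq_C_mul, map_smul, smul_eq_mul]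

lemma tau_of_lt [Nontrivial L] (u : Fin (r + 1) → L) {g : L[X]} (h : g.degree < (r + 1 : ℕ)) :
    tau u g = g.coeff r := by
  rw [tau_apply, (modByMonic_eq_self_iff (splitPoly_monic u)).2]
  rwa [degree_eq_natDegree (splitPoly_monic u).ne_zero, natDegree_splitPoly]

lemma tau_X_pow [Nontrivial L] (u : Fin (r + 1) → L) {k : ℕ} (hk : k ≤ r) :
    tau u (X ^ k) = if k = r then 1 else 0 := by
  rw [tau_of_lt u (by rw [degree_X_pow]; exact_mod_cast Nat.lt_succ_of_le hk), coeff_X_pow]
  simp [eq_comm]

lemma map_tau {L' : Type v} [CommRing L'] (φ : L →+* L') (u : Fin (r + 1) → L) (g : L[X]) :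
    φ (tau u g) = tau (φ ∘ u) (g.map φ) := by
  rw [tau_apply, tau_apply, ← map_splitPoly, ← map_modByMonic φ (splitPoly_monic u), coeff_map]

lemma geom_sum_mul_sub (x y : L) (j : ℕ) :
    (∑ k ∈ range j, x ^ (j - 1 - k) * y ^ k) * (x - y) = x ^ j - y ^ j := by
  rw [← geom_sum₂_mul x y j, ← Finset.sum_range_reflect (fun k => x ^ k * y ^ (j - 1 - k)) j]
  congr 1
  refine Finset.sum_congr rfl fun k hk => ?_
  rw [mem_range] at hk
  congr 2
  omega

lemma bottB_mul_splitPoly (j : ℕ) (u : Fin (r + 1) → L) :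
    bottB j u * splitPoly u = (splitPoly fun a => u a ^ j).comp (X ^ j) := by
  rw [bottB, splitPoly, ← prod_mul_distrib, splitPoly, Polynomial.prod_comp]
  refine Finset.prod_congr rfl fun a _ => ?_
  rw [geom_sum_mul_sub, sub_comp, X_comp, C_comp, map_pow]

lemma exists_adj (j : ℕ) (u : Fin (r + 1) → L) :
    ∃ C0 : L[X], splitPoly u ∣ bottB j u * C0 - C (∏ a, -(bottB j u).eval (u a)) := by
  have h1 : splitPoly u ∣ ∏ a, (bottB j u - C ((bottB j u).eval (u a))) :=
    Finset.prod_dvd_prod_of_dvd _ _ fun a _ => X_sub_C_dvd_sub_C_eval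
  have h2 : bottB j u ∣ ∏ a, (bottB j u - C ((bottB j u).eval (u a))) - C (∏ a, -(bottB j u).eval (u a)) := by
    rw [← Ideal.mem_span_singleton, ← Ideal.Quotient.eq, map_prod, map_prod, map_prod]
    refine Finset.prod_congr rfl fun a _ => ?_
    rw [map_sub, map_neg, map_neg, Ideal.Quotient.eq_zero_iff_mem.2 (Ideal.mem_span_singleton_self _), zero_sub]
  obtain ⟨Q, hQ⟩ := h2
  refine ⟨-Q, ?_⟩
  rw [mul_neg, ← hQ, neg_sub, sub_sub_cancel_left]
  exact dvd_neg.2 h1

/-- The identity in the universal case. -/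
lemma tau_adj_of_domain [IsDomain L] (j : ℕ) (u : Fin (r + 1) → L)
    (hu : Function.Injective fun a => u a ^ j) (C0 : L[X])
    (hC0 : splitPoly u ∣ bottB j u * C0 - C (∏ a, -(bottB j u).eval (u a))) {k : ℕ} (hk : k ≤ r) :
    tau u (C (j : L) * X ^ (j - 1) * X ^ (j * k) * C0) =
      (∏ a, -(bottB j u).eval (u a)) * if k = r then 1 else 0 := by
  classical
  let F := FractionRing L
  let φ : L →+* F := algebraMap L F
  have hφ : Function.Injective φ := IsFractionRing.injective L F
  apply hφ
  let w : Fin (r + 1) → F := φ ∘ u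
  have hw : Function.Injective w := hφ.comp fun a b h => hu (by simp only [h])
  have hwj : Function.Injective fun a => w a ^ j := fun a b h => hu (hφ (by simpa [w] using h))
  have hdvd := Polynomial.map_dvd φ hC0
  simp only [map_splitPoly, Polynomial.map_sub, Polynomial.map_mul, map_bottB, Polynomial.map_C] at hdvd
  rw [map_tau, map_mul φ]
  simp only [Polynomial.map_mul, Polynomial.map_pow, Polynomial.map_X, Polynomial.map_C, map_natCast, Polynomial.map_natCast]
  generalize hN : φ (∏ a, -(bottB j u).eval (u a)) = N at hdvd ⊢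
  generalize C0.map φ = D at hdvd ⊢
  generalize hg : (j : F[X]) * X ^ (j - 1) * X ^ (j * k) * D = g
  change (splitPoly w) ∣ _ at hdvd
  show tau w g = _
  have hdeg : (g %ₘ splitPoly w).degree < (#(univ : Finset (Fin (r + 1))) : ℕ) := by
    rw [card_univ, Fintype.card_fin, ← natDegree_splitPoly w,
      ← degree_eq_natDegree (splitPoly_monic w).ne_zero]
    exact degree_modByMonic_lt _ (splitPoly_monic w)
  have h := Lagrange.coeff_eq_sum (v := w) (hw.injOn) hdeg
  simp only [card_univ, Fintype.card_fin, Nat.add_sub_cancel] at h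
  rw [tau_apply, h]
  have hX : ((X : F[X]) ^ k).degree < (#(univ : Finset (Fin (r + 1))) : ℕ) := by
    rw [card_univ, Fintype.card_fin, degree_X_pow]; exact_mod_cast Nat.lt_succ_of_le hk
  have h' := Lagrange.coeff_eq_sum (v := fun a => w a ^ j) hwj.injOn hX
  simp only [card_univ, Fintype.card_fin, Nat.add_sub_cancel, coeff_X_pow, eval_pow, eval_X] at h'
  have e : φ (if k = r then (1 : L) else 0) = if r = k then (1 : F) else 0 := by
    split_ifs with h1 h2 h3
    · exact map_one _
    · exact absurd h1.symm h2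
    · exact absurd h3.symm h1
    · exact map_zero _
  rw [e, h', Finset.mul_sum]
  refine Finset.sum_congr rfl fun a _ => ?_
  have hroot : (splitPoly w).IsRoot (w a) := by
    rw [IsRoot, splitPoly, eval_prod]
    exact Finset.prod_eq_zero (mem_univ a) (by simp)
  have hne : ∏ b ∈ univ.erase a, (w a - w b) ≠ 0 := Finset.prod_ne_zero_iff.2 fun b hb =>
    sub_ne_zero.2 fun h => (Finset.ne_of_mem_erase hb).symm (hw h)
  have hne' : ∏ b ∈ univ.erase a, (w a ^ j - w b ^ j) ≠ 0 := Finset.prod_ne_zero_iff.2 fun b hb =>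
    sub_ne_zero.2 fun h => (Finset.ne_of_mem_erase hb).symm (hwj h)
  have hBD : (bottB j w).eval (w a) * D.eval (w a) = N := by
    obtain ⟨Q, hQ⟩ := hdvd
    have := congrArg (Polynomial.eval (w a)) hQ
    simp only [eval_sub, eval_mul, eval_C, hroot.eq_zero, zero_mul] at this
    exact sub_eq_zero.1 this
  have hB : (bottB j w).eval (w a) * ∏ b ∈ univ.erase a, (w a - w b) =
      (j : F) * w a ^ (j - 1) * ∏ b ∈ univ.erase a, (w a ^ j - w b ^ j) := by
    rw [bottB, eval_prod, ← Finset.mul_prod_erase _ _ (mem_univ a), mul_assoc, ← prod_mul_distrib]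
    congr 1
    · simp only [eval_finsetSum, eval_mul, eval_pow, eval_X, eval_C]
      rw [Finset.sum_congr rfl fun i hi => by
        rw [← pow_add, Nat.sub_add_cancel (by rw [mem_range] at hi; omega)], sum_const, card_range, nsmul_eq_mul]
    · refine Finset.prod_congr rfl fun b _ => ?_
      simp only [eval_finsetSum, eval_mul, eval_pow, eval_X, eval_C]
      exact geom_sum_mul_sub _ _ _
  have hev : (g %ₘ splitPoly w).eval (w a) = g.eval (w a) := by
    conv_rhs => rw [← modByMonic_add_div g (splitPoly w), eval_add, eval_mul, hroot.eq_zero, zero_mul, add_zero]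
  rw [hev, ← hg]
  simp only [eval_mul, eval_natCast, eval_pow, eval_X]
  rw [pow_mul, mul_div_assoc', div_eq_div_iff hne hne', ← hBD]
  linear_combination -((w a ^ j) ^ k * D.eval (w a)) * hB

/-- The residue identity. -/
theorem tau_mul_X_pow [Nontrivial L] (j : ℕ) (hj : 1 ≤ j) (u : Fin (r + 1) → L) (hju : IsUnit (j : L))
    (hu : ∀ a, IsUnit (u a)) (z : L[X]) (hz : splitPoly u ∣ z * bottB j u - C (j : L) * X ^ (j - 1))
    {k : ℕ} (hk : k ≤ r) : tau u (z * X ^ (j * k)) = if k = r then 1 else 0 := by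
  let A := MvPolynomial (Fin (r + 1)) ℤ
  let φ : A →+* L := MvPolynomial.eval₂Hom (Int.castRingHom L) u
  let x : Fin (r + 1) → A := fun a => MvPolynomial.X a
  have hx : φ ∘ x = u := by
    funext a
    exact MvPolynomial.eval₂Hom_X' (Int.castRingHom L) u a
  have hinj : Function.Injective fun a => x a ^ j := by
    intro a b hab
    by_contra hne
    have := congrArg (MvPolynomial.eval (fun c => if c = a then (2 : ℤ) else 1)) hab
    simp only [x, map_pow, MvPolynomial.eval_X, if_true, if_neg (Ne.symm hne), one_pow] at this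
    exact absurd this (one_lt_pow₀ (by norm_num : (1 : ℤ) < 2) (by omega)).ne'
  obtain ⟨C0, hC0⟩ := exists_adj j x
  have h := congrArg φ (tau_adj_of_domain j x hinj C0 hC0 hk)
  rw [map_tau, map_mul φ, apply_ite φ, map_one, map_zero, hx] at h
  simp only [Polynomial.map_mul, Polynomial.map_pow, Polynomial.map_X, Polynomial.map_C, map_natCast, Polynomial.map_natCast] at h
  have hdvd := Polynomial.map_dvd φ hC0
  simp only [map_splitPoly, Polynomial.map_sub, Polynomial.map_mul, map_bottB, Polynomial.map_C, hx] at hdvd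
  generalize hN : φ (∏ a, -(bottB j x).eval (x a)) = N at hdvd h
  generalize C0.map φ = D at hdvd h
  have hNu : IsUnit N := by
    rw [← hN, map_prod]
    refine IsUnit.prod_univ_iff.2 fun a => ?_
    rw [map_neg, IsUnit.neg_iff, ← Polynomial.eval_map_apply, map_bottB, hx, show φ (x a) = u a from congrFun hx a]
    obtain ⟨Q, hQ⟩ := hz
    have h1 := congrArg (Polynomial.eval (u a)) hQ
    have h0 : (splitPoly u).eval (u a) = 0 := by
      rw [splitPoly, eval_prod]; exact Finset.prod_eq_zero (mem_univ a) (by simp)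
    simp only [eval_sub, eval_mul, eval_C, eval_pow, eval_X, h0, zero_mul, sub_eq_zero] at h1
    exact isUnit_of_mul_isUnit_right (h1 ▸ hju.mul ((hu a).pow _))
  rw [map_natCast] at hz
  refine hNu.mul_left_cancel ?_
  rw [← h, ← tau_C_mul]
  refine tau_congr u ?_
  have e : C N * (z * X ^ (j * k)) - (j : L[X]) * X ^ (j - 1) * X ^ (j * k) * D =
      -(z * X ^ (j * k)) * (bottB j u * D - C N) + D * X ^ (j * k) * (z * bottB j u - (j : L[X]) * X ^ (j - 1)) := by
    ring
  rw [e]
  exact dvd_add (hdvd.mul_left _) (hz.mul_left _)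

/-- The residue identity for every power. -/
theorem tau_mul_X_pow' [Nontrivial L] (j : ℕ) (hj : 1 ≤ j) (u : Fin (r + 1) → L) (hju : IsUnit (j : L))
    (hu : ∀ a, IsUnit (u a)) (z : L[X]) (hz : splitPoly u ∣ z * bottB j u - C (j : L) * X ^ (j - 1))
    (n : ℕ) : tau u (z * X ^ (j * n)) = tau (fun a => u a ^ j) (X ^ n) := by
  let v : Fin (r + 1) → L := fun a => u a ^ j
  show _ = tau v (X ^ n)
  rw [tau_apply v]
  generalize hρ : (X ^ n : L[X]) %ₘ splitPoly v = ρ
  have h1 : splitPoly u ∣ z * X ^ (j * n) - z * ρ.comp (X ^ j) := by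
    have e : (X : L[X]) ^ (j * n) = ρ.comp (X ^ j) + (bottB j u * splitPoly u) * ((X ^ n /ₘ splitPoly v).comp (X ^ j)) := by
      rw [bottB_mul_splitPoly, ← mul_comp, ← add_comp, ← hρ, modByMonic_add_div, X_pow_comp, pow_mul]
    rw [e]
    exact ⟨z * bottB j u * ((X ^ n /ₘ splitPoly v).comp (X ^ j)), by ring⟩
  have hdeg : ρ.natDegree < r + 1 := by
    rw [← hρ, ← natDegree_splitPoly v]
    refine natDegree_modByMonic_lt _ (splitPoly_monic v) ?_
    intro h
    have := natDegree_splitPoly v
    rw [h] at this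
    simp at this
  rw [tau_congr u h1]
  conv_lhs => rw [ρ.as_sum_range' (r + 1) hdeg]
  simp only [Polynomial.sum_comp, mul_sum, map_sum]
  rw [Finset.sum_eq_single_of_mem r (self_mem_range_succ r)]
  · rw [← C_mul_X_pow_eq_monomial, mul_comp, C_comp, X_pow_comp, mul_left_comm, tau_C_mul, ← pow_mul,
      tau_mul_X_pow j hj u hju hu z hz le_rfl, if_pos rfl, mul_one]
  · intro k hk hne
    rw [mem_range] at hk
    rw [← C_mul_X_pow_eq_monomial, mul_comp, C_comp, X_pow_comp, mul_left_comm, tau_C_mul, ← pow_mul,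
      tau_mul_X_pow j hj u hju hu z hz (by omega), if_neg hne, mul_zero]

/-- The recursion satisfied by the residues of powers. -/
theorem tau_recursion [Nontrivial L] (u : Fin (r + 1) → L) (n : ℕ) :
    ∑ i ∈ range (n + 1), (-1) ^ i * ((univ : Finset (Fin (r + 1))).val.map u).esymm i * tau u (X ^ (r + (n - i))) =
      if n = 0 then 1 else 0 := by
  rcases Nat.eq_zero_or_pos n with rfl | hn
  · simp [tau_X_pow, Multiset.esymm]
  rw [if_neg (by omega)]
  let c : ℕ → L := fun i => (-1) ^ i * ((univ : Finset (Fin (r + 1))).val.map u).esymm i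
  have hP : splitPoly u = ∑ i ∈ range (r + 2), C (c i) * X ^ (r + 1 - i) := by
    have h := Multiset.prod_X_sub_X_eq_sum_esymm ((univ : Finset (Fin (r + 1))).val.map u)
    simp only [Multiset.map_map, Multiset.card_map, Finset.card_val, card_univ, Fintype.card_fin] at h
    refine Eq.trans ?_ (h.trans (Finset.sum_congr rfl fun i _ => ?_))
    · rw [splitPoly, Finset.prod_eq_multiset_prod]; rfl
    · simp [c, mul_assoc]
  have h0 : tau u (X ^ (n - 1) * splitPoly u) = 0 := by
    rw [tau_congr u (g' := 0) (by simp), map_zero]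
  rw [hP, mul_sum, map_sum] at h0
  simp only [mul_left_comm (X ^ (n - 1) : L[X]), ← pow_add, tau_C_mul] at h0
  have hzero : ∀ i, r + 1 < i → ((univ : Finset (Fin (r + 1))).val.map u).esymm i = 0 := by
    intro i hi
    rw [Multiset.esymm, Multiset.powersetCard_eq_empty _ (by simpa using hi)]
    simp
  rcases le_or_gt n (r + 1) with hle | hle
  · rw [← h0]
    refine Eq.trans (Finset.sum_congr rfl fun i hi => ?_) (Finset.sum_subset (range_mono (by omega)) ?_)
    · rw [mem_range] at hi
      rw [show n - 1 + (r + 1 - i) = r + (n - i) by omega]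
    · intro i hi hi'
      rw [mem_range] at hi hi'
      rw [tau_X_pow u (by omega), if_neg (by omega), mul_zero]
  · rw [← h0]
    refine ((Finset.sum_subset (range_mono (show r + 2 ≤ n + 1 by omega)) ?_).symm).trans
      (Finset.sum_congr rfl fun i hi => ?_)
    · intro i hi hi'
      rw [mem_range] at hi hi'
      rw [hzero i (by omega), mul_zero, zero_mul]
    · rw [mem_range] at hi
      rw [show n - 1 + (r + 1 - i) = r + (n - i) by omega]

end Groth.Agent.Lambda.Residue
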