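import Groth.Agent.Lib.Lambda.Newton
import Groth.Prelude.Def_KGr

/-!
The Chern character polynomial through Newton's identities.
-/

universe u v

open Finset

namespace Groth.Agent.Lambda

variable {R : Type u} [CommRing R]

/-- Power sums from elementary symmetric functions. -/
def powSums (f : ℕ → R) : ℕ → R
  | 0 => 0
  | m + 1 => (-1) ^ m * (((m + 1 : ℕ) : R) * f (m + 1) -
      ∑ a : Fin m, (-1) ^ (a : ℕ) * powSums f (a + 1) * f (m - a))

lemma powSums_succ (f : ℕ → R) (m : ℕ) : powSums f (m + 1) = (-1) ^ m * (((m + 1 : ℕ) : R) * f (m + 1) -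
    ∑ a : Fin m, (-1) ^ (a : ℕ) * powSums f (a + 1) * f (m - a)) := by
  rw [powSums]

lemma map_powSums {S : Type v} [CommRing S] (φ : R →+* S) (f : ℕ → R) (m : ℕ) :
    φ (powSums f m) = powSums (fun n => φ (f n)) m := by
  induction m using Nat.strong_induction_on with
  | _ m ih =>
    cases m with
    | zero => simp [powSums]
    | succ m =>
      rw [powSums_succ, powSums_succ]
      simp only [map_mul, map_sub, map_pow, map_neg, map_one, map_natCast, map_sum]
      congr 2
      exact Finset.sum_congr rfl fun a _ => by rw [ih (a + 1) (by omega)]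

lemma powSums_of_E [Algebra ℚ R] (u f : ℕ → R) (N : ℕ) (h : ∀ n ≤ N, f n = E u n) :
    ∀ k, k + 1 ≤ N → powSums f (k + 1) = u (k + 1) := by
  intro k
  induction k using Nat.strong_induction_on with
  | _ k ih =>
    intro hk
    rw [powSums_succ]
    have hs : ∑ a : Fin k, (-1) ^ (a : ℕ) * powSums f (a + 1) * f (k - a) =
        ∑ a ∈ range k, (-1) ^ a * u (a + 1) * E u (k - a) := by
      rw [← Fin.sum_univ_eq_sum_range (fun a => (-1) ^ a * u (a + 1) * E u (k - a)) k]
      refine Finset.sum_congr rfl fun a _ => ?_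
      rw [ih a a.2 (by omega), h (k - a) (by omega)]
    rw [hs, h (k + 1) hk, E_succ, Finset.sum_range_succ, Nat.sub_self, E_zero, mul_one, add_sub_cancel_left,
      ← mul_assoc, ← pow_add, ← two_mul, pow_mul, neg_one_sq, one_pow, one_mul]

/-- The extension of `d` values to a sequence starting with `1`. -/
def extSeq {R : Type u} [CommRing R] {d : ℕ} (c : Fin d → R) (n : ℕ) : R :=
  if n = 0 then 1 else if h : n - 1 < d then c ⟨n - 1, h⟩ else 0

lemma map_extSeq {S : Type v} [CommRing S] (φ : R →+* S) {d : ℕ} (c : Fin d → R) (n : ℕ) :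
    φ (extSeq c n) = extSeq (fun i => φ (c i)) n := by
  simp only [extSeq]
  split_ifs <;> simp

open MvPolynomial in
lemma chPoly_eq (d : ℕ) :
    KGr.chPoly d = C (d : ℚ) + ∑ a ∈ range d,
      C (1 / ((a + 1).factorial : ℚ)) * powSums (extSeq (fun i : Fin d => (X i : MvPolynomial (Fin d) ℚ))) (a + 1) := by
  apply (esymmAlgEquiv (Fin d) ℚ (Fintype.card_fin d)).injective
  rw [KGr.chPoly, AlgEquiv.apply_symm_apply]
  apply Subtype.ext
  show _ = (esymmAlgHom (Fin d) ℚ d _).val
  rw [esymmAlgHom_apply]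
  have hpow : ∀ a ∈ range d, aeval (fun i : Fin d => esymm (Fin d) ℚ (i + 1))
      (powSums (extSeq (fun i : Fin d => (X i : MvPolynomial (Fin d) ℚ))) (a + 1)) = psum (Fin d) ℚ (a + 1) := by
    intro a ha
    rw [← AlgHom.coe_toRingHom, map_powSums]
    refine powSums_of_E _ _ d (fun n hn => ?_) a (mem_range.1 ha)
    rw [map_extSeq]
    rcases Nat.eq_zero_or_pos n with rfl | hn0
    · simp [extSeq, E_zero]
    · rw [← esymm_eq_E, extSeq, if_neg hn0.ne', dif_pos (by omega)]
      simp only [AlgHom.toRingHom_eq_coe, RingHom.coe_coe, aeval_X]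
      rw [Nat.sub_add_cancel hn0]
  simp only [map_add, map_sum, map_mul, MvPolynomial.aeval_C, MvPolynomial.algebraMap_eq]
  rw [Finset.sum_congr rfl (g := fun a => C (1 / ((a + 1).factorial : ℚ)) * psum (Fin d) ℚ (a + 1))
    (fun a ha => by rw [hpow a ha])]
  simp only [KGr.expTrunc, map_sum, map_mul, Polynomial.aeval_C, map_pow, Polynomial.aeval_X,
    MvPolynomial.algebraMap_eq]
  rw [Finset.sum_comm, Finset.sum_range_succ', add_comm]
  simp only [← Finset.mul_sum, pow_zero, Finset.sum_const, Finset.card_univ, Fintype.card_fin, nsmul_eq_mul,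
    mul_one, Nat.factorial_zero, Nat.cast_one, div_one, map_one, map_natCast, MvPolynomial.psum]

/-- The value of the Chern character polynomial on a sequence with known power sums. -/
theorem aeval_chPoly {S : Type v} [CommRing S] [Algebra ℚ S] {d : ℕ} (c : Fin d → S) (u : ℕ → S)
    (h : ∀ n ≤ d, extSeq c n = E u n) :
    MvPolynomial.aeval c (KGr.chPoly d) =
      algebraMap ℚ S (d : ℚ) + ∑ a ∈ range d, (1 / ((a + 1).factorial : ℚ)) • u (a + 1) := by
  rw [chPoly_eq]
  simp only [map_add, map_sum, map_mul, MvPolynomial.aeval_C]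
  congr 1
  refine Finset.sum_congr rfl fun a ha => ?_
  rw [← Algebra.smul_def, ← AlgHom.coe_toRingHom, map_powSums]
  congr 1
  refine powSums_of_E u _ d (fun n hn => ?_) a (mem_range.1 ha)
  rw [map_extSeq, ← h n hn]
  simp

end Groth.Agent.Lambda
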