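import Groth.Agent.Lib.Lambda.KRRSigma
import Groth.Agent.Lib.Lambda.ChPoly
import Groth.Agent.Lib.Lambda.BottResidue
import Mathlib.RingTheory.AdjoinRoot
import Mathlib.RingTheory.Flat.Localization
import Mathlib.RingTheory.Localization.Away.Basic

/-!
The Adams–Riemann–Roch formula for an elementary projection.
-/

universe u

open Finset
open scoped TensorProduct

namespace Groth.Agent.Lambda

open LambdaRing (LambdaOps adamsOp gamma PosStructure HasSplitting IsExtension IsSpecial IsMulPoly)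

lemma E_powSums {R : Type u} [CommRing R] [Algebra ℚ R] (f : ℕ → R) (h0 : f 0 = 1) (n : ℕ) :
    E (powSums f) n = f n := by
  refine (eq_E (powSums f) f n h0 (fun m _ => ?_) n le_rfl).symm
  rw [Finset.sum_range_succ, Nat.sub_self, h0, mul_one, powSums_succ, ← mul_assoc, ← mul_pow, neg_mul_neg, one_mul,
    one_pow, one_mul, ← Fin.sum_univ_eq_sum_range (fun a => (-1) ^ a * powSums f (a + 1) * f (m - a)) m]
  exact (add_sub_cancel _ _).symm

lemma powSums_scale {R : Type u} [CommRing R] (f : ℕ → R) (y : R) (k : ℕ) :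
    powSums (fun m => f m * y ^ m) k = powSums f k * y ^ k := by
  induction k using Nat.strong_induction_on with
  | _ k ih =>
    cases k with
    | zero => simp [powSums]
    | succ m =>
      rw [powSums_succ, powSums_succ, mul_assoc, sub_mul, Finset.sum_mul]
      congr 1
      congr 1
      · ring
      · refine Finset.sum_congr rfl fun a _ => ?_
        rw [ih (a + 1) (by omega), show m + 1 = (a : ℕ) + 1 + (m - a) by omega, pow_add]
        ring

/-- λ-operations of a product with a line. -/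
theorem lam_mul_line {A : Type u} [CommRing A] [LambdaOps A] (hA : IsSpecial A) (x y : A)
    (hy : ∀ i, 2 ≤ i → LambdaOps.lam i y = 0) (n : ℕ) :
    LambdaOps.lam n (x * y) = LambdaOps.lam n x * y ^ n := by
  rcases Nat.eq_zero_or_pos n with rfl | hn
  · simp [LambdaOps.lam_zero]
  obtain ⟨P, hP⟩ := exists_isMulPoly n
  rw [hA.lam_mul n P hP x y]
  let ι : MvPolynomial (Option (Fin n)) ℤ →+* MvPolynomial (Option (Fin n)) ℚ := MvPolynomial.map (Int.castRingHom ℚ)
  let sec : Fin n → MvPolynomial (Option (Fin n)) ℤ := fun k => if (k : ℕ) = 0 then MvPolynomial.X none else 0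
  let f : ℕ → MvPolynomial (Option (Fin n)) ℚ := fun k => extSeq (fun i : Fin n => (MvPolynomial.X (some i) : MvPolynomial (Option (Fin n)) ℚ)) k
  let v : ℕ → MvPolynomial (Option (Fin n)) ℚ := fun k => (MvPolynomial.X none : MvPolynomial (Option (Fin n)) ℚ) ^ k
  have hv : ∀ k, E v k = if k = 0 then 1 else if k = 1 then MvPolynomial.X none else 0 := by
    intro k
    have h := esymm_map_eq_E (R := MvPolynomial (Option (Fin n)) ℚ) (ι := Unit) (fun _ => MvPolynomial.X none) k
    simp only [Finset.univ_unique, Finset.sum_singleton, Finset.singleton_val, Multiset.map_singleton] at h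
    rw [← h]
    rcases k with _ | _ | k
    · simp [Multiset.esymm]
    · rw [Multiset.esymm, Multiset.powersetCard_one]
      simp
    · rw [Multiset.esymm, Multiset.powersetCard_eq_empty _ (by simp)]
      simp
  have key : MvPolynomial.aeval (Sum.elim (fun k : Fin n => (MvPolynomial.X (some k) : MvPolynomial (Option (Fin n)) ℤ)) sec) P =
      MvPolynomial.X (some ⟨n - 1, by omega⟩) * MvPolynomial.X none ^ n := by
    apply MvPolynomial.map_injective (Int.castRingHom ℚ) Int.cast_injective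
    show ι _ = ι _
    rw [map_mul, map_pow, aeval_int_comm]
    simp only [ι, MvPolynomial.map_X]
    have h := mul_identity hP (powSums f) v
    refine Eq.trans ?_ (h.trans ?_)
    · refine aeval_int_congr (fun k => ?_) _
      rcases k with k | k
      · rw [Sum.elim_inl, Sum.elim_inl, MvPolynomial.map_X, E_powSums f (by simp [f, extSeq])]
        simp [f, extSeq, k.2]
      · rw [Sum.elim_inr, Sum.elim_inr, hv, if_neg (by omega)]
        by_cases hk : (k : ℕ) = 0 <;> simp [sec, hk]
    · rw [show (fun k => powSums f k * v k) = fun k => powSums (fun m => f m * (MvPolynomial.X none : MvPolynomial (Option (Fin n)) ℚ) ^ m) k from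
        funext fun k => (powSums_scale f (MvPolynomial.X none : MvPolynomial (Option (Fin n)) ℚ) k).symm,
        E_powSums _ (by simp [f, extSeq])]
      simp [f, extSeq, show n ≠ 0 by omega, show n - 1 < n by omega, MvPolynomial.map_X]
  let φ : MvPolynomial (Option (Fin n)) ℤ →+* A := MvPolynomial.eval₂Hom (Int.castRingHom A)
    (fun o => o.elim y (fun k => LambdaOps.lam (k.val + 1) x))
  have h := congrArg φ key
  rw [aeval_int_comm, map_mul, map_pow] at h
  simp only [φ, MvPolynomial.eval₂Hom_X', Option.elim_some, Option.elim_none] at h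
  rw [show n - 1 + 1 = n by omega] at h
  refine (aeval_int_congr (fun k => ?_) P).trans h
  rcases k with k | k
  · simp
  · simp only [Sum.elim_inr, sec]
    split_ifs with hk
    · simp [hk, LambdaOps.lam_one]
    · simp [hy ((k : ℕ) + 1) (by omega)]

lemma seq_unique {S : Type u} [CommRing S] (c s t : ℕ → S) (hc : c 0 = 1)
    (hs : ∀ n, ∑ i ∈ range (n + 1), c i * s (n - i) = if n = 0 then 1 else 0)
    (ht : ∀ n, ∑ i ∈ range (n + 1), c i * t (n - i) = if n = 0 then 1 else 0) : s = t := by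
  funext n
  induction n using Nat.strong_induction_on with
  | _ n ih =>
    have h1 := hs n
    rw [← ht n, Finset.sum_range_succ', Finset.sum_range_succ', hc, one_mul, one_mul, Nat.sub_zero] at h1
    rw [Finset.sum_congr rfl fun i hi => by rw [ih (n - (i + 1)) (by rw [mem_range] at hi; omega)]] at h1
    exact add_left_cancel h1

variable {K : Type u} [CommRing K] [LambdaOps K] {P : PosStructure K}

lemma bott_eq (j : ℕ) (x : K) (m : ℕ) (h : (P.aug x).toNat = m) :
    KRR.bott P j x = MvPolynomial.aeval (fun i : Fin m => LambdaOps.lam (i.1 + 1) x) (KRR.bottPoly j m) := by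
  subst h
  rfl

lemma lam_split {L : LambdaRing.PosLambdaRing.{u}} {f : K →+* L.carrier} (hf : IsExtension P L.posStr f)
    {m : ℕ} {u : Fin m → L.carrier} (hu : ∀ a, L.posStr.IsLine (u a)) {e : K} (hsum : ∑ a, u a = f e) (i : ℕ) :
    f (LambdaOps.lam i e) = ((univ : Finset (Fin m)).val.map u).esymm i := by
  rw [hf.isLambdaHom, ← hsum, lam_sum_lines L.posStr u hu, Finset.esymm_map_val]

lemma isLine_prod {L : Type u} [CommRing L] [LambdaOps L] (Q : PosStructure L) {m : ℕ} {u : Fin m → L}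
    (hu : ∀ a, Q.IsLine (u a)) (t : Finset (Fin m)) : Q.IsLine (∏ a ∈ t, u a) := by
  induction t using Finset.induction_on with
  | empty => simpa using isLine_one Q
  | insert a t ha ih => rw [prod_insert ha]; exact IsLine.mul' (hu a) ih

lemma adamsOp_esymm_lines {L : Type u} [CommRing L] [LambdaOps L] (Q : PosStructure L) {m : ℕ} {u : Fin m → L}
    (hu : ∀ a, Q.IsLine (u a)) (j : ℕ) (hj : 1 ≤ j) (i : ℕ) :
    adamsOp j (((univ : Finset (Fin m)).val.map u).esymm i) =
      ((univ : Finset (Fin m)).val.map fun a => u a ^ j).esymm i := by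
  rw [Finset.esymm_map_val, Finset.esymm_map_val, adamsOp_sum]
  exact Finset.sum_congr rfl fun t _ => by
    rw [adamsOp_of_line (line_lam Q (isLine_prod Q hu t)) j hj, prod_pow]

open Polynomial in
lemma map_extPoly {S : Type u} [CommRing S] (φ : K →+* S) (e : K) (r : ℕ) (hm : (P.aug e).toNat = r + 1)
    (v : Fin (r + 1) → S) (hv : ∀ i, φ (LambdaOps.lam i e) = ((univ : Finset (Fin (r + 1))).val.map v).esymm i) :
    (KRR.extPoly P e).map φ = Residue.splitPoly v := by
  have h := Multiset.prod_X_sub_X_eq_sum_esymm ((univ : Finset (Fin (r + 1))).val.map v)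
  simp only [Multiset.map_map, Multiset.card_map, Finset.card_val, card_univ, Fintype.card_fin] at h
  rw [KRR.extPoly, hm, Polynomial.map_sum, Residue.splitPoly, Finset.prod_eq_multiset_prod]
  refine Eq.trans (Finset.sum_congr rfl fun i _ => ?_) h.symm
  simp [hv, mul_assoc]

/-- The Adams–Riemann–Roch formula for an elementary projection. -/
theorem bott_arr (hK : HasSplitting K P) (e : K) (he : e ∈ P.pos) (r : ℕ) (hr : P.aug e = r + 1)
    (inst : LambdaOps (AdjoinRoot (KRR.extPoly P e))) (Pe : @PosStructure _ _ inst)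
    (hext : @IsExtension K _ _ _ _ inst P Pe (AdjoinRoot.of (KRR.extPoly P e)))
    (hroot : ∀ i : ℕ, 2 ≤ i → @LambdaOps.lam _ _ inst i (AdjoinRoot.root (KRR.extPoly P e)) = 0)
    (hline : @PosStructure.IsLine _ _ inst Pe (AdjoinRoot.root (KRR.extPoly P e)))
    (hsplit : @HasSplitting _ _ inst Pe)
    (fK : AdjoinRoot (KRR.extPoly P e) →ₗ[K] K)
    (hfK : ∀ i : ℕ, i ≤ r → fK (AdjoinRoot.root (KRR.extPoly P e) ^ i) = KRR.sigma i e)
    (linv : AdjoinRoot (KRR.extPoly P e)) (hlinv : linv * AdjoinRoot.root (KRR.extPoly P e) = 1)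
    (j : ℕ) (hj : 1 ≤ j) (R : Type) [CommRing R] [Module.Flat ℤ R] (hjR : IsUnit (j : R)) (aQ : R →+* ℚ)
    (w : TensorProduct ℤ R (AdjoinRoot (KRR.extPoly P e)))
    (hw : w * ((1 : R) ⊗ₜ[ℤ]
      @KRR.bott _ _ inst Pe j (AdjoinRoot.of (KRR.extPoly P e) e * linv)) = 1)
    (x : AdjoinRoot (KRR.extPoly P e)) :
    (1 : R) ⊗ₜ[ℤ] LambdaRing.adams P j (fK x) =
      LinearMap.lTensor R fK.toAddMonoidHom.toIntLinearMap
        ((j : TensorProduct ℤ R (AdjoinRoot (KRR.extPoly P e))) * w *
          ((1 : R) ⊗ₜ[ℤ] @LambdaRing.adams _ _ inst Pe j x)) := by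
  classical
  let := inst
  have hm : (P.aug e).toNat = r + 1 := by omega
  obtain ⟨L, f, u₀, hf, hu₀, hsum₀⟩ := exists_lines hK e he
  let u : Fin (r + 1) → L.carrier := fun a => u₀ (Fin.cast hm.symm a)
  have hu : ∀ a, L.posStr.IsLine (u a) := fun a => hu₀ _
  have hsum : ∑ a, u a = f e := by
    rw [← hsum₀]; exact Fintype.sum_equiv (finCongr hm.symm) _ _ fun a => rfl
  have hlam := lam_split hf hu hsum
  let ι : L.carrier →+* R ⊗[ℤ] L.carrier :=
    (Algebra.TensorProduct.includeRight : L.carrier →ₐ[ℤ] R ⊗[ℤ] L.carrier).toRingHom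
  let ιR : R →+* R ⊗[ℤ] L.carrier := Algebra.TensorProduct.includeLeftRingHom
  have hjL : IsUnit (j : R ⊗[ℤ] L.carrier) := by simpa using hjR.map ιR
  haveI : Nontrivial (R ⊗[ℤ] L.carrier) :=
    (Algebra.TensorProduct.lift aQ.toIntAlgHom ((Int.castRingHom ℚ).comp L.posStr.aug).toIntAlgHom
      fun _ _ => Commute.all _ _).toRingHom.domain_nontrivial
  let v : Fin (r + 1) → (R ⊗[ℤ] L.carrier) := ι ∘ u
  have hv : ∀ i, ι.comp f (LambdaOps.lam i e) = ((univ : Finset (Fin (r + 1))).val.map v).esymm i := by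
    intro i
    rw [RingHom.comp_apply, hlam, Finset.esymm_map_val, Finset.esymm_map_val, map_sum]
    exact Finset.sum_congr rfl fun t _ => map_prod ι _ _
  have hvu : ∀ a, IsUnit (v a) := fun a => (isUnit_line (hu a)).map ι
  have hmap := map_extPoly (ι.comp f) e r hm v hv
  let ξ : (AdjoinRoot (Residue.splitPoly v)) := AdjoinRoot.root _
  let g : AdjoinRoot (KRR.extPoly P e) →+* (AdjoinRoot (Residue.splitPoly v)) :=
    AdjoinRoot.lift ((AdjoinRoot.of _).comp (ι.comp f)) ξ (by
      rw [← Polynomial.eval₂_map, hmap]; exact AdjoinRoot.eval₂_root _)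
  have hgof : ∀ c, g (AdjoinRoot.of _ c) = AdjoinRoot.of _ (ι (f c)) := fun c => AdjoinRoot.lift_of _
  have hgroot : g (AdjoinRoot.root _) = ξ := AdjoinRoot.lift_root _
  let G : R ⊗[ℤ] AdjoinRoot (KRR.extPoly P e) →+* (AdjoinRoot (Residue.splitPoly v)) :=
    (Algebra.TensorProduct.lift ((AdjoinRoot.of _).comp ιR).toIntAlgHom g.toIntAlgHom
      fun _ _ => Commute.all _ _).toRingHom
  have hG : ∀ (a : R) y, G (a ⊗ₜ[ℤ] y) = AdjoinRoot.of _ (ιR a) * g y := fun a y => by
    simp [G]
  let τ : (AdjoinRoot (Residue.splitPoly v)) →ₗ[(R ⊗[ℤ] L.carrier)] (R ⊗[ℤ] L.carrier) :=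
    (Polynomial.lcoeff (R ⊗[ℤ] L.carrier) r) ∘ₗ AdjoinRoot.modByMonicHom (Residue.splitPoly_monic v)
  have hτmk : ∀ p, τ (AdjoinRoot.mk _ p) = Residue.tau v p := fun p => by
    simp [τ, AdjoinRoot.modByMonicHom_mk, Residue.tau_apply]
  have hτof : ∀ c y, τ (AdjoinRoot.of _ c * y) = c * τ y := fun c y => by
    rw [← AdjoinRoot.algebraMap_eq, ← Algebra.smul_def, map_smul, smul_eq_mul]
  have hτpow : ∀ n, τ (ξ ^ n) = Residue.tau v (Polynomial.X ^ n) := fun n => by
    rw [← hτmk]
    congr 1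
  -- the functional
  have hσ : ∀ n, ι (f (KRR.sigma n e)) = Residue.tau v (Polynomial.X ^ (r + n)) := by
    refine congrFun (seq_unique (fun i => (-1) ^ i * ι (f (LambdaOps.lam i e))) _ _
      (by simp [LambdaOps.lam_zero]) (fun n => ?_) (fun n => ?_))
    · have h := congrArg (ι.comp f) (sum_lam_mul_sigma e n)
      rw [map_sum, apply_ite (ι.comp f), map_one, map_zero] at h
      rw [← h]
      simp [RingHom.comp_apply]
    · rw [← Residue.tau_recursion v n]
      exact Finset.sum_congr rfl fun i _ => by rw [← hv]; rfl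
  have hgσ : ∀ y, τ (g y * ξ ^ r) = ι (f (fK y)) := by
    intro y
    induction y using AdjoinRoot.induction_on with
    | ih p =>
      induction p using Polynomial.induction_on' with
      | add p q hp hq => simp only [map_add, add_mul, hp, hq]
      | monomial n c =>
        rw [← Polynomial.C_mul_X_pow_eq_monomial, map_mul (AdjoinRoot.mk _), map_pow (AdjoinRoot.mk _),
          AdjoinRoot.mk_C, AdjoinRoot.mk_X, map_mul g, map_pow g, hgof, hgroot, mul_assoc, ← pow_add, hτof, hτpow,
          add_comm n r, ← hσ, of_mul_eq_smul, map_smul, functional_pow he r hr fK hfK, smul_eq_mul, map_mul, map_mul]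
  -- the Adams operation
  have hS : IsSpecial K := isSpecial_of_hasSplitting hK
  have hSe : IsSpecial (AdjoinRoot (KRR.extPoly P e)) := isSpecial_of_hasSplitting hsplit
  have hψσ : ∀ n, ι (f (adamsOp j (KRR.sigma n e))) =
      Residue.tau (fun a => v a ^ j) (Polynomial.X ^ (r + n)) := by
    refine congrFun (seq_unique (fun i => (-1) ^ i * ι (f (adamsOp j (LambdaOps.lam i e)))) _ _
      (by simp [LambdaOps.lam_zero, adamsOp_apply_one (pos_lam_one P) j hj]) (fun n => ?_) (fun n => ?_))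
    · have h := congrArg (fun z => ι (f (adamsOp j z))) (sum_lam_mul_sigma e n)
      simp only [adamsOp_sum, map_sum, apply_ite (adamsOp j), adamsOp_apply_one (pos_lam_one P) j hj,
        adamsOp_zero_right, apply_ite f, apply_ite ι, map_one, map_zero] at h
      rw [← h]
      refine Finset.sum_congr rfl fun i _ => ?_
      have hsgn : adamsOp j ((-1 : K) ^ i) = (-1) ^ i := by
        rcases neg_one_pow_eq_or K i with h' | h' <;> rw [h']
        · exact adamsOp_apply_one (pos_lam_one P) j hj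
        · rw [adamsOp_neg, adamsOp_apply_one (pos_lam_one P) j hj]
      rw [adamsOp_mul hS j hj, adamsOp_mul hS j hj, hsgn]
      simp only [map_mul, map_pow, map_neg, map_one, mul_assoc]
    · rw [← Residue.tau_recursion (fun a => v a ^ j) n]
      refine Finset.sum_congr rfl fun i _ => ?_
      rw [adamsOp_map f hf.isLambdaHom, hlam, adamsOp_esymm_lines L.posStr hu j hj, Finset.esymm_map_val,
        Finset.esymm_map_val, map_sum]
      congr 2
      exact Finset.sum_congr rfl fun t _ => by simp [v]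
  -- the Bott class
  have hG1 : ∀ y, G ((1 : R) ⊗ₜ[ℤ] y) = g y := fun y => by rw [hG, map_one, map_one, one_mul]
  let η : (AdjoinRoot (Residue.splitPoly v)) := g linv
  have hηξ : η * ξ = 1 := by rw [← hgroot, ← map_mul, hlinv, map_one]
  have haug : (Pe.aug (AdjoinRoot.of (KRR.extPoly P e) e * linv)).toNat = r + 1 := by
    have h1 : Pe.aug linv = 1 := by
      have := congrArg Pe.aug hlinv
      rwa [map_mul, hline.2, map_one, mul_one] at this
    rw [map_mul, h1, mul_one, hext.aug_comp, hm]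
  have hlamw : ∀ i, LambdaOps.lam i (AdjoinRoot.of (KRR.extPoly P e) e * linv) =
      AdjoinRoot.of (KRR.extPoly P e) (LambdaOps.lam i e) * linv ^ i := by
    intro i
    have h := lam_mul_line hSe (AdjoinRoot.of (KRR.extPoly P e) e * linv) _ hroot i
    rw [mul_assoc, hlinv, mul_one, ← hext.isLambdaHom] at h
    rw [h, mul_assoc, ← mul_pow, mul_comm (AdjoinRoot.root _) linv, hlinv, one_pow, mul_one]
  let y' : Fin (r + 1) → (AdjoinRoot (Residue.splitPoly v)) := fun a => AdjoinRoot.of _ (v a) * η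
  have hθ : G ((1 : R) ⊗ₜ[ℤ] @KRR.bott _ _ inst Pe j (AdjoinRoot.of (KRR.extPoly P e) e * linv)) *
      ξ ^ ((j - 1) * (r + 1)) = AdjoinRoot.mk _ (Residue.bottB j v) := by
    rw [hG1, bott_eq j _ (r + 1) haug, aeval_int_comm]
    let φ : MvPolynomial (Fin (r + 1)) ℤ →+* (AdjoinRoot (Residue.splitPoly v)) := MvPolynomial.eval₂Hom (Int.castRingHom _) y'
    have h := congrArg φ (aeval_esymm_bottPoly j (r + 1))
    rw [aeval_int_comm] at h
    rw [(aeval_int_congr (fun i => ?_) (KRR.bottPoly j (r + 1))).trans h]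
    · simp only [φ, KRR.bottSym, Residue.bottB, map_prod, map_sum, map_mul, map_pow, MvPolynomial.eval₂Hom_X',
        AdjoinRoot.mk_X, AdjoinRoot.mk_C, y']
      rw [mul_comm (j - 1) (r + 1)]
      rw [show ξ ^ ((r + 1) * (j - 1)) = ∏ _a : Fin (r + 1), ξ ^ (j - 1) by
        rw [prod_const, card_univ, Fintype.card_fin, ← pow_mul, mul_comm], ← prod_mul_distrib]
      refine Finset.prod_congr rfl fun a _ => ?_
      rw [Finset.sum_mul]
      refine Finset.sum_congr rfl fun i hi => ?_
      rw [mem_range] at hi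
      rw [mul_pow, mul_assoc, show j - 1 = i + (j - 1 - i) by omega, pow_add, ← mul_assoc (η ^ i), ← mul_pow, hηξ,
        one_pow, one_mul, show i + (j - 1 - i) - i = j - 1 - i by omega, mul_comm]
    · rw [hlamw, map_mul, map_pow, hgof, show ι (f (LambdaOps.lam (i.1 + 1) e)) = _ from hv (i.1 + 1)]
      simp only [φ, MvPolynomial.esymm, map_sum, map_prod, MvPolynomial.eval₂Hom_X', Finset.esymm_map_val, y',
        Finset.sum_mul]
      refine Finset.sum_congr rfl fun t ht => ?_
      rw [prod_mul_distrib, prod_const, (Finset.mem_powersetCard.1 ht).2]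
  obtain ⟨z, hz⟩ := AdjoinRoot.mk_surjective ((j : (AdjoinRoot (Residue.splitPoly v))) * G w * ξ ^ (j - 1) * η ^ ((j - 1) * (r + 1)))
  have hGw : G w * G ((1 : R) ⊗ₜ[ℤ] @KRR.bott _ _ inst Pe j (AdjoinRoot.of (KRR.extPoly P e) e * linv)) = 1 := by
    rw [← map_mul, hw, map_one]
  have hzB : Residue.splitPoly v ∣ z * Residue.bottB j v - Polynomial.C (j : (R ⊗[ℤ] L.carrier)) * Polynomial.X ^ (j - 1) := by
    rw [← AdjoinRoot.mk_eq_mk, map_mul, map_mul, map_pow, AdjoinRoot.mk_X, AdjoinRoot.mk_C, map_natCast, hz, ← hθ]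
    calc (j : (AdjoinRoot (Residue.splitPoly v))) * G w * ξ ^ (j - 1) * η ^ ((j - 1) * (r + 1)) *
          (G ((1 : R) ⊗ₜ[ℤ] @KRR.bott _ _ inst Pe j (AdjoinRoot.of (KRR.extPoly P e) e * linv)) *
            ξ ^ ((j - 1) * (r + 1)))
        = (j : (AdjoinRoot (Residue.splitPoly v))) * ξ ^ (j - 1) * (η * ξ) ^ ((j - 1) * (r + 1)) *
          (G w * G ((1 : R) ⊗ₜ[ℤ] @KRR.bott _ _ inst Pe j (AdjoinRoot.of (KRR.extPoly P e) e * linv))) := by ring
      _ = _ := by rw [hGw, hηξ, one_pow, mul_one, mul_one]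
  have hkey : ∀ n, τ ((j : (AdjoinRoot (Residue.splitPoly v))) * G w * ξ ^ (n * j) * ξ ^ r) = ι (f (adamsOp j (KRR.sigma n e))) := by
    intro n
    have e1 : (j : (AdjoinRoot (Residue.splitPoly v))) * G w * ξ ^ (n * j) * ξ ^ r = AdjoinRoot.mk _ (z * Polynomial.X ^ (j * (r + n))) := by
      rw [map_mul, map_pow, AdjoinRoot.mk_X, hz]
      have ex : (j - 1) + j * (r + n) = n * j + r + (j - 1) * (r + 1) := by
        obtain ⟨j', rfl⟩ : ∃ j', j = j' + 1 := ⟨j - 1, by omega⟩
        simp only [Nat.add_sub_cancel]; ring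
      calc (j : (AdjoinRoot (Residue.splitPoly v))) * G w * ξ ^ (n * j) * ξ ^ r
          = (j : (AdjoinRoot (Residue.splitPoly v))) * G w * ξ ^ (n * j + r) * (η * ξ) ^ ((j - 1) * (r + 1)) := by
            rw [hηξ, one_pow, mul_one, pow_add, ← mul_assoc]
        _ = (j : (AdjoinRoot (Residue.splitPoly v))) * G w * η ^ ((j - 1) * (r + 1)) * ξ ^ ((j - 1) + j * (r + n)) := by
            rw [ex, mul_pow, pow_add]; ring
        _ = _ := by rw [pow_add]; ring
    rw [e1, hτmk, Residue.tau_mul_X_pow' j hj v hjL hvu z hzB, hψσ]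
  -- descend along the injection
  let F : R ⊗[ℤ] K →ₗ[ℤ] (R ⊗[ℤ] L.carrier) := f.toAddMonoidHom.toIntLinearMap.lTensor R
  have hFinj : Function.Injective F :=
    Module.Flat.lTensor_preserves_injective_linearMap _ hf.injective
  have hF : ∀ z, τ (G z * ξ ^ r) = F (fK.toAddMonoidHom.toIntLinearMap.lTensor R z) := by
    intro z
    induction z using TensorProduct.induction_on with
    | zero => simp
    | add p q hp hq => simp only [map_add, add_mul, hp, hq]
    | tmul a y =>
      rw [hG, mul_assoc, hτof, hgσ]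
      simp [F, ι, ιR]
      rfl
  apply hFinj
  rw [← hF, map_mul G, map_mul G, map_natCast G, hG1, adams_eq_adamsOp P hj, adams_eq_adamsOp Pe hj]
  show (1 : R) ⊗ₜ[ℤ] f (adamsOp j (fK x)) = _
  show ι (f (adamsOp j (fK x))) = _
  induction x using AdjoinRoot.induction_on with
  | ih p =>
    induction p using Polynomial.induction_on' with
    | add p q hp hq => simp only [map_add, adamsOp_add, mul_add, add_mul, hp, hq]
    | monomial n c =>
      rw [← Polynomial.C_mul_X_pow_eq_monomial, map_mul, map_pow, AdjoinRoot.mk_C, AdjoinRoot.mk_X, of_mul_eq_smul,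
        map_smul, functional_pow he r hr fK hfK, smul_eq_mul, adamsOp_mul hS j hj, map_mul, map_mul,
        ← of_mul_eq_smul, adamsOp_mul hSe j hj, ← adamsOp_map _ hext.isLambdaHom, map_mul g, hgof]
      have hpow : adamsOp j (AdjoinRoot.root (KRR.extPoly P e) ^ n) = AdjoinRoot.root (KRR.extPoly P e) ^ (n * j) := by
        rw [adamsOp_of_line (line_lam Pe (IsLine.pow' hline n)) j hj, pow_mul]
      rw [hpow, map_pow, hgroot, ← hkey n, ← hτof]
      congr 1
      ring

omit [LambdaOps K] in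
lemma pow_eq_zero_of_aug_eq_zero [LambdaOps K] (P : PosStructure K) (N : ℕ)
    (hN : LambdaRing.gammaFiltration P N = ⊥) (y : K) (hy : P.aug y = 0) : y ^ N = 0 := by
  rw [← AddSubgroup.mem_bot, ← hN, LambdaRing.gammaFiltration]
  split_ifs with h
  · trivial
  refine AddSubgroup.subset_closure ⟨List.replicate N (1, y), fun p hp => ?_, ?_, ?_⟩
  · rw [List.eq_of_mem_replicate hp]
    exact hy
  · simp
  · rw [List.map_replicate, List.prod_replicate]
    congr 1
    simp [LambdaRing.gamma, Finset.sum_range_succ, LambdaOps.lam_one]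

/-- The Bott class of the twist is invertible after inverting `j`. -/
theorem bott_isUnit (hK : HasSplitting K P) (e : K) (he : e ∈ P.pos) (r : ℕ) (hr : P.aug e = r + 1)
    (inst : LambdaOps (AdjoinRoot (KRR.extPoly P e))) (Pe : @PosStructure _ _ inst)
    (hext : @IsExtension K _ _ _ _ inst P Pe (AdjoinRoot.of (KRR.extPoly P e)))
    (hroot : ∀ i : ℕ, 2 ≤ i → @LambdaOps.lam _ _ inst i (AdjoinRoot.root (KRR.extPoly P e)) = 0)
    (hline : @PosStructure.IsLine _ _ inst Pe (AdjoinRoot.root (KRR.extPoly P e)))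
    (hsplit : @HasSplitting _ _ inst Pe) (N : ℕ) (hN : @LambdaRing.gammaFiltration _ _ inst Pe N = ⊥)
    (linv : AdjoinRoot (KRR.extPoly P e)) (hlinv : linv * AdjoinRoot.root (KRR.extPoly P e) = 1)
    (j : ℕ) (R : Type) [CommRing R] (hjR : IsUnit (j : R)) :
    IsUnit ((1 : R) ⊗ₜ[ℤ] @KRR.bott _ _ inst Pe j (AdjoinRoot.of (KRR.extPoly P e) e * linv)) := by
  classical
  let := inst
  have hm : (P.aug e).toNat = r + 1 := by omega
  have hSe : IsSpecial (AdjoinRoot (KRR.extPoly P e)) := isSpecial_of_hasSplitting hsplit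
  have h1 : Pe.aug linv = 1 := by
    have := congrArg Pe.aug hlinv
    rwa [map_mul, hline.2, map_one, mul_one] at this
  have haug : (Pe.aug (AdjoinRoot.of (KRR.extPoly P e) e * linv)).toNat = r + 1 := by
    rw [map_mul, h1, mul_one, hext.aug_comp, hm]
  obtain ⟨L, f, u₀, hf, hu₀, hsum₀⟩ := exists_lines hK e he
  let u : Fin (r + 1) → L.carrier := fun a => u₀ (Fin.cast hm.symm a)
  have hu : ∀ a, L.posStr.IsLine (u a) := fun a => hu₀ _
  have hsum : ∑ a, u a = f e := by
    rw [← hsum₀]; exact Fintype.sum_equiv (finCongr hm.symm) _ _ fun a => rfl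
  have hlam := lam_split hf hu hsum
  let φ : MvPolynomial (Fin (r + 1)) ℤ →+* ℤ := MvPolynomial.eval₂Hom (Int.castRingHom ℤ) fun _ => 1
  have hθ : Pe.aug (@KRR.bott _ _ inst Pe j (AdjoinRoot.of (KRR.extPoly P e) e * linv)) = (j : ℤ) ^ (r + 1) := by
    rw [bott_eq j _ (r + 1) haug, aeval_int_comm]
    have h := congrArg φ (aeval_esymm_bottPoly j (r + 1))
    rw [aeval_int_comm] at h
    rw [(aeval_int_congr (fun i => ?_) (KRR.bottPoly j (r + 1))).trans h]
    · simp [φ, KRR.bottSym]
    · have h := lam_mul_line hSe (AdjoinRoot.of (KRR.extPoly P e) e * linv) _ hroot (i.1 + 1)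
      rw [mul_assoc, hlinv, mul_one, ← hext.isLambdaHom] at h
      have h2 := congrArg Pe.aug h
      rw [hext.aug_comp, map_mul, map_pow, hline.2, one_pow, mul_one] at h2
      rw [← h2, ← hf.aug_comp, hlam, Finset.esymm_map_val, map_sum, MvPolynomial.esymm, map_sum]
      refine Finset.sum_congr rfl fun t _ => ?_
      rw [map_prod, map_prod]
      exact Finset.prod_congr rfl fun a _ => by rw [(hu a).2]; simp [φ]
  generalize @KRR.bott _ _ inst Pe j (AdjoinRoot.of (KRR.extPoly P e) e * linv) = θ at hθ ⊢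
  obtain ⟨y, hy, rfl⟩ : ∃ y, Pe.aug y = 0 ∧ θ = y + ((j : AdjoinRoot (KRR.extPoly P e)) ^ (r + 1)) :=
    ⟨θ - (j : AdjoinRoot (KRR.extPoly P e)) ^ (r + 1), by simp [hθ], by ring⟩
  have hyN : y ^ N = 0 := pow_eq_zero_of_aug_eq_zero Pe N hN y hy
  let ιe : AdjoinRoot (KRR.extPoly P e) →+* R ⊗[ℤ] AdjoinRoot (KRR.extPoly P e) :=
    (Algebra.TensorProduct.includeRight :
      AdjoinRoot (KRR.extPoly P e) →ₐ[ℤ] R ⊗[ℤ] AdjoinRoot (KRR.extPoly P e)).toRingHom
  let ιR : R →+* R ⊗[ℤ] AdjoinRoot (KRR.extPoly P e) := Algebra.TensorProduct.includeLeftRingHom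
  show IsUnit (ιe (y + _))
  rw [map_add, map_pow, map_natCast]
  have hju : IsUnit (j : R ⊗[ℤ] AdjoinRoot (KRR.extPoly P e)) := by simpa using hjR.map ιR
  exact IsNilpotent.isUnit_add_right_of_commute ⟨N, by rw [← map_pow, hyN, map_zero]⟩ (hju.pow _)
    (Commute.all _ _)

theorem bott_exists_inv (hK : HasSplitting K P) (e : K) (he : e ∈ P.pos) (r : ℕ) (hr : P.aug e = r + 1)
    (inst : LambdaOps (AdjoinRoot (KRR.extPoly P e))) (Pe : @PosStructure _ _ inst)
    (hext : @IsExtension K _ _ _ _ inst P Pe (AdjoinRoot.of (KRR.extPoly P e)))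
    (hroot : ∀ i : ℕ, 2 ≤ i → @LambdaOps.lam _ _ inst i (AdjoinRoot.root (KRR.extPoly P e)) = 0)
    (hline : @PosStructure.IsLine _ _ inst Pe (AdjoinRoot.root (KRR.extPoly P e)))
    (hsplit : @HasSplitting _ _ inst Pe) (N : ℕ) (hN : @LambdaRing.gammaFiltration _ _ inst Pe N = ⊥)
    (linv : AdjoinRoot (KRR.extPoly P e)) (hlinv : linv * AdjoinRoot.root (KRR.extPoly P e) = 1)
    (j : ℕ) (R : Type) [CommRing R] (hjR : IsUnit (j : R)) :
    ∃ w : R ⊗[ℤ] AdjoinRoot (KRR.extPoly P e),
      w * ((1 : R) ⊗ₜ[ℤ] @KRR.bott _ _ inst Pe j (AdjoinRoot.of (KRR.extPoly P e) e * linv)) = 1 :=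
  (bott_isUnit hK e he r hr inst Pe hext hroot hline hsplit N hN linv hlinv j R hjR).exists_left_inv

end Groth.Agent.Lambda
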