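import Groth.Agent.Lib.Lambda.Fil

/-!
Identities in special λ-rings and descriptions of γ-filtrations.
-/

universe u v w

open Finset

namespace Groth.Agent.Lambda

open LambdaRing (LambdaOps adamsOp gamma IsSpecial IsBinomial IsLambdaAlg IsAugLambdaAlg gammaFil)
open MvPolynomial

section Transfer

variable {q : ℕ}

lemma ev_eq_zero_of_mev {g : GPoly q} (h : ∀ r, mev.{v} r g = 0) {A : Type v} [CommRing A]
    [LambdaOps A] {b : A} (hb : BinElt b) (x : Fin q → A) : ev b x g = 0 := by
  rw [g.as_sum, map_sum]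
  refine Finset.sum_eq_zero fun d _ => ?_
  have hd : ModelDvd.{v} g (wt d + 1) := fun r => by rw [h r]; exact dvd_zero _
  rw [MvPolynomial.monomial_eq, map_mul, ev_C, hb _ (hd.binHom_eq_zero d (by omega)), zero_mul]

attribute [local instance] modelOps in
lemma adams_op_mev {f g : GPoly q} {n : ℕ}
    (hg : ∀ (K : Type v) [CommRing K] [LambdaOps K], IsSpecial K →
      ∀ (b : K) (x : Fin q → K), adamsOp (n + 1) (ev b x f) = ev b x g) (r : Fin q → ℕ) :
    mev.{v} r g = PowerSeries.rescale (((n + 1 : ℕ) : ModelRing.{v} r)) (mev.{v} r f) := by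
  rw [← adamsOp_model (n + 1) (by omega)]
  exact (hg (PowerSeries (ModelRing.{v} r)) isSpecial_model _ _).symm

variable {A : Type v} [CommRing A] [LambdaOps A]

theorem adamsOp_mul (hA : IsSpecial A) (k : ℕ) (hk : 1 ≤ k) (x y : A) :
    adamsOp k (x * y) = adamsOp k x * adamsOp k y := by
  obtain ⟨n, rfl⟩ : ∃ n, k = n + 1 := ⟨k - 1, by omega⟩
  let fx : GPoly 2 := X (0, 0)
  let fy : GPoly 2 := X (1, 0)
  obtain ⟨g1, h1⟩ := exists_adams_op.{v} (fx * fy) n
  obtain ⟨g2, h2⟩ := exists_adams_op.{v} fx n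
  obtain ⟨g3, h3⟩ := exists_adams_op.{v} fy n
  have hz : ∀ r, mev.{v} r (g1 - g2 * g3) = 0 := fun r => by
    rw [map_sub, map_mul, adams_op_mev h1, adams_op_mev h2, adams_op_mev h3, map_mul, map_mul,
      sub_self]
  have := ev_eq_zero_of_mev hz (binElt_one hA) ![x, y]
  rw [map_sub, map_mul, ← h1 A hA 1 ![x, y], ← h2 A hA 1 ![x, y], ← h3 A hA 1 ![x, y],
    sub_eq_zero] at this
  simpa [fx, fy, gamma_one] using this

theorem adamsOp_adamsOp (hA : IsSpecial A) (k k' : ℕ) (hk : 1 ≤ k) (hk' : 1 ≤ k') (x : A) :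
    adamsOp k (adamsOp k' x) = adamsOp (k * k') x := by
  obtain ⟨n, rfl⟩ : ∃ n, k = n + 1 := ⟨k - 1, by omega⟩
  obtain ⟨n', rfl⟩ : ∃ n', k' = n' + 1 := ⟨k' - 1, by omega⟩
  obtain ⟨m, hm⟩ : ∃ m, (n + 1) * (n' + 1) = m + 1 := ⟨n * n' + n + n', by ring⟩
  let fx : GPoly 1 := X (0, 0)
  obtain ⟨g1, h1⟩ := exists_adams_op.{v} fx n'
  obtain ⟨g2, h2⟩ := exists_adams_op.{v} g1 n
  obtain ⟨g3, h3⟩ := exists_adams_op.{v} fx m
  have hz : ∀ r, mev.{v} r (g2 - g3) = 0 := fun r => by
    rw [map_sub, adams_op_mev h2, adams_op_mev h1, adams_op_mev h3, PowerSeries.rescale_rescale,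
      ← Nat.cast_mul, mul_comm (n' + 1) (n + 1), hm, sub_self]
  have := ev_eq_zero_of_mev hz (binElt_one hA) ![x]
  rw [map_sub, ← h3 A hA 1 ![x], ← h2 A hA 1 ![x], ← h1 A hA 1 ![x], sub_eq_zero] at this
  rw [hm]
  simpa [fx, gamma_one] using this

/-- The trivial filtration. -/
noncomputable def trivFilt (A : Type v) [CommRing A] : Filt A where
  F _ := ⊤
  top := rfl
  anti _ := le_rfl
  mul _ _ := trivial

theorem lamAlt_dvd (hA : IsSpecial A) (d : ℕ) (N : A) (hN : ∀ i, d < i → LambdaOps.lam i N = 0)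
    (p : ℕ) (hp : 1 ≤ p) (x : A) :
    (∑ i ∈ range (d + 1), (-1 : A) ^ i * LambdaOps.lam i N) ∣
      LambdaOps.lam p (x * ∑ i ∈ range (d + 1), (-1 : A) ^ i * LambdaOps.lam i N) := by
  obtain ⟨hv, he⟩ := gamma_sub_rank hA.lam_one_eq_zero d N hN
  rw [he]
  rcases Nat.eq_zero_or_pos d with rfl | hd
  · simp [gamma_zero]
  set v := N - (d : A)
  have hu : IsUnit ((-1 : A) ^ d) := isUnit_one.neg.pow d
  rw [hu.mul_left_dvd, ← mul_assoc]
  set y := x * (-1 : A) ^ d
  have good : ∀ z : A, GoodElt (trivFilt A) z := fun z n => trivial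
  have hg : ∀ n, 1 ≤ n → gamma d v ∣ gamma n (y * gamma d v) := by
    intro n hn
    have h := (gamma_list_killed_mem (W := trivFilt A) hA (binElt_one hA) v (good v) d hd hv
      [(1, y)] (fun p _ => good p.2) 0 (by simp)).1 n hn
    obtain ⟨w, -, hw⟩ := h
    simp only [List.map_cons, List.map_nil, List.prod_cons, List.prod_nil, mul_one, one_mul,
      gamma_one] at hw
    exact ⟨w, hw⟩
  induction p using Nat.strong_induction_on with
  | _ p ih =>
    have h := hg p hp
    rw [LambdaRing.gamma.eq_def p (y * gamma d v), if_neg (by omega), Finset.sum_range_succ,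
      if_neg (by omega), Nat.choose_self, Nat.cast_one, one_mul] at h
    refine (dvd_add_right (Finset.dvd_sum fun j hj => ?_)).1 h
    rw [mem_range] at hj
    split_ifs with h0
    · simp
    · exact dvd_mul_of_dvd_right (ih j hj (by omega)) _

end Transfer

section Binomial

theorem isSpecial_of_isBinomial (K : Type u) [CommRing K] [LambdaOps K] [BinomialRing K]
    (hKb : IsBinomial K) : IsSpecial K := by
  obtain ⟨L, _, _, φ, hinj, hch⟩ := exists_binomial_embedding K
  let _ : LambdaOps L := lambdaOpsOfAdams L (fun _ => AddMonoidHom.id L) rfl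
  have hψ : ∀ k, 1 ≤ k → ∀ x : L, adamsOp k x = x := fun k hk x =>
    adamsOp_lambdaOpsOfAdams L (fun _ => AddMonoidHom.id L) rfl k hk x
  have hL : IsSpecial L := isSpecial_of_adamsOp (fun k hk => hψ k hk 1)
    (fun k hk x y => by rw [hψ k hk, hψ k hk, hψ k hk])
    (fun k k' hk hk' x => by rw [hψ k hk, hψ k' hk', hψ _ (Nat.mul_pos hk hk')])
  have hlam : ∀ n x, φ (LambdaOps.lam n x) = LambdaOps.lam n (φ x) := fun n x => by
    rw [hKb, hch]; rfl
  constructor
  · intro n hn
    apply hinj
    rw [hlam, map_one, map_zero, hL.lam_one_eq_zero n hn]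
  · intro n P hP x y
    apply hinj
    rw [hlam, map_mul, hL.lam_mul n P hP, aeval_int_comm]
    refine aeval_int_congr (fun k => ?_) P
    rcases k with k | k <;> simp [hlam]
  · intro i j Q hQ x
    apply hinj
    rw [hlam, hlam, hL.lam_lam i j Q hQ, aeval_int_comm]
    exact aeval_int_congr (fun k => (hlam _ x).symm) Q

end Binomial

section Span

variable {K : Type u} {A : Type v} [CommRing K] [CommRing A] [LambdaOps A]

lemma gamma_map {B : Type w} [CommRing B] [LambdaOps B] (φ : A →+* B)
    (h : ∀ n x, φ (LambdaOps.lam n x) = LambdaOps.lam n (φ x)) (n : ℕ) (x : A) :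
    φ (gamma n x) = gamma n (φ x) := by
  unfold LambdaRing.gamma
  split_ifs
  · simp
  · simp [map_sum, apply_ite φ, h]

lemma ev_monomial {q : ℕ} (b : A) (x : Fin q → A) (d : Fin q × ℕ →₀ ℕ) (c : GCoef) :
    ev b x (monomial d c) = evC b c * d.prod fun p k => gamma (p.2 + 1) (x p.1) ^ k := by
  simp [ev, eval₂Hom_monomial]

lemma goodElt_of_max {W : Filt A} {z : A} (h : ∀ n, 1 ≤ n → gamma n z ∈ W.F (max n 1)) :
    GoodElt W z := by
  intro n
  rcases Nat.eq_zero_or_pos n with rfl | hn
  · simp [W.top]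
  · exact W.anti (le_max_left _ _) (h n hn)

lemma mem_gammaFil_zero (ε : A →+* K) (a : A) : a ∈ gammaFil ε 0 := by
  have h := (gammaFilt ε).top
  change gammaFil ε 0 = ⊤ at h
  rw [h]; trivial

variable [LambdaOps K] [Algebra K A]

theorem gammaFil_restrictScalars_eq_span (ε : A →ₐ[K] K) (S : Set A)
    (hS : AddSubgroup.closure S = ⊤) (n : ℕ) :
    (gammaFil (ε : A →+* K) n).restrictScalars K =
      Submodule.span K {y : A | ∃ l : List (ℕ × A), (∀ p ∈ l, p.2 ∈ S) ∧ n ≤ (l.map Prod.fst).sum ∧
        y = (l.map fun p => gamma p.1 (p.2 - algebraMap K A (ε p.2))).prod} := by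
  let T : ℕ → Set A := fun n => {y | ∃ l : List (ℕ × A), (∀ p ∈ l, p.2 ∈ S) ∧
    n ≤ (l.map Prod.fst).sum ∧ y = (l.map fun p => gamma p.1 (p.2 - algebraMap K A (ε p.2))).prod}
  let W : Filt A := Filt.ofSets T ⟨[], by simp⟩
    (fun {m n} h y ⟨l, hl, hs, he⟩ => ⟨l, hl, h.trans hs, he⟩) (by
      rintro m n _ _ ⟨l, hl, hs, rfl⟩ ⟨l', hl', hs', rfl⟩
      refine Ideal.subset_span ⟨l ++ l', ?_, ?_, by simp⟩
      · intro p hp
        rw [List.mem_append] at hp
        exact hp.elim (hl p) (hl' p)
      · simp; omega)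
  have hgood : ∀ z : A, GoodElt W (z - algebraMap K A (ε z)) := by
    intro z
    have hz : z ∈ AddSubgroup.closure S := by rw [hS]; trivial
    refine AddSubgroup.closure_induction (p := fun z _ => GoodElt W (z - algebraMap K A (ε z)))
      ?_ ?_ ?_ ?_ hz
    · intro s hs j
      exact Ideal.subset_span ⟨[(j, s)], by simpa using hs, by simp, by simp⟩
    · simpa using goodElt_zero (W := W)
    · intro a b _ _ ha hb
      rw [map_add, map_add, add_sub_add_comm]
      exact ha.add hb
    · intro a _ ha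
      rw [map_neg, map_neg, show -a - -algebraMap K A (ε a) = -(a - algebraMap K A (ε a)) by ring]
      exact ha.neg
  have hT : ∀ (y : A), y ∈ Submodule.span K (T n) → ∀ a : A, a * y ∈ Submodule.span K (T n) := by
    intro y hy a
    have ha : a ∈ AddSubgroup.closure S := by rw [hS]; trivial
    refine AddSubgroup.closure_induction (p := fun a _ => a * y ∈ Submodule.span K (T n)) ?_ ?_ ?_ ?_ ha
    · intro s hs
      refine Submodule.span_induction (p := fun y _ => s * y ∈ Submodule.span K (T n)) ?_ ?_ ?_ ?_ hy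
      · rintro _ ⟨l, hl, hsum, rfl⟩
        rw [show s = (s - algebraMap K A (ε s)) + algebraMap K A (ε s) by ring, add_mul,
          ← Algebra.smul_def]
        refine add_mem (Submodule.subset_span ⟨(1, s) :: l, ?_, ?_, ?_⟩)
          (Submodule.smul_mem _ _ (Submodule.subset_span ⟨l, hl, hsum, rfl⟩))
        · intro p hp
          rcases List.mem_cons.1 hp with rfl | hp
          exacts [hs, hl p hp]
        · simp; omega
        · simp [gamma_one]
      · simp
      · intro a b _ _ ha hb; rw [mul_add]; exact add_mem ha hb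
      · intro c a _ ha; rw [Algebra.mul_smul_comm]; exact Submodule.smul_mem _ c ha
    · simp
    · intro a b _ _ ha hb; rw [add_mul]; exact add_mem ha hb
    · intro a _ ha; rw [neg_mul]; exact neg_mem ha
  refine le_antisymm ?_ (Submodule.span_le.2 ?_)
  · intro y hy
    have hy' := gammaFil_le W (ε : A →+* K) (fun z hz => by
      have := hgood z
      rwa [show ε z = 0 from hz, map_zero, sub_zero] at this) n hy
    refine Submodule.span_induction (p := fun y _ => y ∈ Submodule.span K (T n)) ?_ ?_ ?_ ?_ hy'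
    · exact fun y hy => Submodule.subset_span hy
    · exact zero_mem _
    · exact fun a b _ _ ha hb => add_mem ha hb
    · exact fun a b _ hb => hT b hb a
  · rintro _ ⟨l, hl, hs, rfl⟩
    refine Ideal.subset_span ⟨l.map fun p => (p.1, p.2 - algebraMap K A (ε p.2)), ?_, ?_, ?_⟩
    · intro p hp
      obtain ⟨p', -, rfl⟩ := List.mem_map.1 hp
      simp
    · simpa [Function.comp_def] using hs
    · simp [Function.comp_def]

theorem gammaFil_eq_span_truncated [BinomialRing K] (hKb : IsBinomial K) (hA : IsSpecial A)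
    (ε : A →ₐ[K] K) (hε : IsAugLambdaAlg K A ε) (n : ℕ) (x : A) (hx : ε x = 0)
    (hγ : ∀ k : ℕ, n < k → gamma k x = 0)
    (hgen : Algebra.adjoin K (Set.range fun j : Fin n => gamma ((j : ℕ) + 1) x) = ⊤) (k : ℕ) :
    gammaFil (ε : A →+* K) k =
      Ideal.span {m : A | ∃ e : Fin n → ℕ, k ≤ ∑ j : Fin n, ((j : ℕ) + 1) * e j ∧
        m = ∏ j : Fin n, gamma ((j : ℕ) + 1) x ^ e j} := by
  let T : ℕ → Set A := fun k => {m : A | ∃ e : Fin n → ℕ, k ≤ ∑ j : Fin n, ((j : ℕ) + 1) * e j ∧
        m = ∏ j : Fin n, gamma ((j : ℕ) + 1) x ^ e j}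
  let W : Filt A := Filt.ofSets T ⟨0, by simp, by simp⟩
    (fun {a b} h y ⟨e, hs, he⟩ => ⟨e, h.trans hs, he⟩) (by
      rintro a b _ _ ⟨e, hs, rfl⟩ ⟨e', hs', rfl⟩
      refine Ideal.subset_span ⟨e + e', ?_, ?_⟩
      · simp only [Pi.add_apply, mul_add, Finset.sum_add_distrib]; omega
      · simp [pow_add, Finset.prod_mul_distrib])
  have hgx : GoodElt W x := by
    intro j
    rcases Nat.eq_zero_or_pos j with rfl | hj
    · simp [W.top]
    rcases Nat.lt_or_ge n j with hjn | hjn
    · rw [hγ j hjn]; exact zero_mem _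
    · refine Ideal.subset_span ⟨Pi.single ⟨j - 1, by omega⟩ 1, ?_, ?_⟩
      · rw [Finset.sum_eq_single (⟨j - 1, by omega⟩ : Fin n)] <;> simp +contextual
        omega
      · rw [Finset.prod_eq_single (⟨j - 1, by omega⟩ : Fin n)]
        · simp [Nat.sub_add_cancel hj]
        · intro b _ hb; simp [hb]
        · simp
  have hgood : ∀ z : A, GoodElt W (z - algebraMap K A (ε z)) := by
    intro z
    have hz : z ∈ Algebra.adjoin K (Set.range fun j : Fin n => gamma ((j : ℕ) + 1) x) := by
      rw [hgen]; trivial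
    rw [Algebra.adjoin_range_eq_range_aeval] at hz
    obtain ⟨p, rfl⟩ := hz
    induction p using MvPolynomial.induction_on' with
    | monomial e c =>
      simp only [AlgHom.toRingHom_eq_coe, RingHom.coe_coe, aeval_monomial]
      rcases eq_or_ne e 0 with rfl | he
      · simpa using goodElt_zero (W := W)
      have hεe : ε (algebraMap K A c * e.prod fun j k => gamma ((j : ℕ) + 1) x ^ k) = 0 := by
        obtain ⟨j, hj⟩ := Finsupp.support_nonempty_iff.2 he
        rw [map_mul, Finsupp.prod, map_prod, Finset.prod_eq_zero hj, mul_zero]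
        have := gamma_map (ε : A →+* K) hε.map_lam ((j : ℕ) + 1) x
        simp only [RingHom.coe_coe] at this
        rw [map_pow, this, hx, gamma_zero_right, if_neg (by omega),
          zero_pow (Finsupp.mem_support_iff.1 hj)]
      rw [hεe, map_zero, sub_zero]
      let d : Fin 1 × ℕ →₀ ℕ := e.mapDomain fun j : Fin n => ((0 : Fin 1), (j : ℕ))
      have hev : ev (algebraMap K A c) ![x] (monomial d (X 0)) =
          algebraMap K A c * e.prod fun j k => gamma ((j : ℕ) + 1) x ^ k := by
        rw [ev_monomial, evC_X, gamma_one, Finsupp.prod_mapDomain_index (by simp)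
          (fun _ _ _ => pow_add _ _ _)]
        simp
      have hwt : 1 ≤ wt d := by
        obtain ⟨j, hj⟩ := Finsupp.support_nonempty_iff.2 he
        rw [wt, Finsupp.sum_mapDomain_index (by simp) (fun _ _ _ => by ring)]
        refine le_trans ?_ (Finset.single_le_sum (fun _ _ => Nat.zero_le _) hj)
        exact Nat.mul_pos (Nat.pos_of_ne_zero (Finsupp.mem_support_iff.1 hj)) (Nat.succ_pos _)
      rw [← hev]
      exact goodElt_of_max (gamma_expr_mem hA (modelDvd_monomial d _ 1 hwt) le_rfl
        (binElt_algebraMap hKb hε.isLambdaAlg c) (fun s => by simpa using hgx)).1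
    | add a b ha hb =>
      rw [map_add, map_add, map_add, add_sub_add_comm]
      exact ha.add hb
  refine le_antisymm (gammaFil_le W (ε : A →+* K) (fun z hz => ?_) k) (Ideal.span_le.2 ?_)
  · have := hgood z
    rwa [show ε z = 0 from hz, map_zero, sub_zero] at this
  · rintro _ ⟨e, hs, rfl⟩
    have h : ∀ s : Finset (Fin n), ∏ j ∈ s, gamma ((j : ℕ) + 1) x ^ e j ∈
        (gammaFilt (ε : A →+* K)).F (∑ j ∈ s, ((j : ℕ) + 1) * e j) := by
      intro s
      induction s using Finset.induction with
      | empty => simp [(gammaFilt (ε : A →+* K)).top]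
      | insert a s ha ih =>
        rw [Finset.prod_insert ha, Finset.sum_insert ha, mul_comm ((a : ℕ) + 1)]
        exact (gammaFilt _).mul
          (Filt.pow_mem _ (goodElt_gammaFilt (ε : A →+* K) hx ((a : ℕ) + 1)) _) ih
    exact (gammaFilt _).anti hs (h univ)

theorem gammaFil_eq_span_free [BinomialRing K] (hKb : IsBinomial K) (εA : A →ₐ[K] K)
    (hεA : IsAugLambdaAlg K A εA) {B : Type w} [CommRing B] [LambdaOps B] [Algebra K B]
    [Algebra A B] [IsScalarTower K A B] (hB : IsSpecial B) (hAB : IsLambdaAlg A B)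
    (εB : B →ₐ[K] K) (hεB : IsAugLambdaAlg K B εB)
    (hεAB : ∀ a : A, εB (algebraMap A B a) = εA a)
    (x : B) (hx : εB x = 0)
    (hgen : Algebra.adjoin A (Set.range fun j : ℕ => gamma (j + 1) x) = ⊤)
    (k : ℕ) :
    gammaFil (εB : B →+* K) k =
      Ideal.span {b : B | ∃ (e : ℕ →₀ ℕ) (a : A),
        a ∈ gammaFil (εA : A →+* K) (k - e.sum fun j n => (j + 1) * n) ∧
        b = algebraMap A B a * e.prod fun j n => gamma (j + 1) x ^ n} := by
  let T : ℕ → Set B := fun k => {b : B | ∃ (e : ℕ →₀ ℕ) (a : A),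
        a ∈ gammaFil (εA : A →+* K) (k - e.sum fun j n => (j + 1) * n) ∧
        b = algebraMap A B a * e.prod fun j n => gamma (j + 1) x ^ n}
  let W : Filt B := Filt.ofSets T
    ⟨0, 1, by rw [Nat.zero_sub]; exact mem_gammaFil_zero _ _, by simp⟩
    (fun {a b} h y ⟨e, a', ha, he⟩ =>
      ⟨e, a', (gammaFilt (εA : A →+* K)).anti (Nat.sub_le_sub_right h _) ha, he⟩) (by
      rintro a b _ _ ⟨e, a₁, h₁, rfl⟩ ⟨e', a₂, h₂, rfl⟩
      refine Ideal.subset_span ⟨e + e', a₁ * a₂, ?_, ?_⟩
      · refine (gammaFilt (εA : A →+* K)).anti ?_ ((gammaFilt (εA : A →+* K)).mul h₁ h₂)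
        rw [Finsupp.sum_add_index' (fun _ => by simp) (fun _ _ _ => by ring)]
        omega
      · rw [map_mul, Finsupp.prod_add_index' (fun _ => pow_zero _) (fun _ _ _ => pow_add _ _ _)]
        ring)
  have hgx : GoodElt W x := by
    intro j
    rcases Nat.eq_zero_or_pos j with rfl | hj
    · simp [W.top]
    refine Ideal.subset_span ⟨Finsupp.single (j - 1) 1, 1, ?_, ?_⟩
    · rw [Finsupp.sum_single_index (by simp), mul_one, Nat.sub_add_cancel hj, Nat.sub_self]
      exact mem_gammaFil_zero _ _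
    · simp [Nat.sub_add_cancel hj]
  have hga : ∀ a : A, εA a = 0 → GoodElt W (algebraMap A B a) := by
    intro a ha j
    refine Ideal.subset_span ⟨0, gamma j a, ?_, ?_⟩
    · simpa [gammaFilt] using goodElt_gammaFilt (εA : A →+* K) ha j
    · simp [gamma_map (algebraMap A B) hAB]
  have hεγ : ∀ e : ℕ →₀ ℕ, e ≠ 0 → εB (e.prod fun j n => gamma (j + 1) x ^ n) = 0 := by
    intro e he
    obtain ⟨j, hj⟩ := Finsupp.support_nonempty_iff.2 he
    rw [Finsupp.prod, map_prod, Finset.prod_eq_zero hj]
    have := gamma_map (εB : B →+* K) hεB.map_lam (j + 1) x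
    simp only [RingHom.coe_coe] at this
    rw [map_pow, this, hx, gamma_zero_right, if_neg (by omega),
      zero_pow (Finsupp.mem_support_iff.1 hj)]
  have hgood : ∀ z : B, GoodElt W (z - algebraMap K B (εB z)) := by
    intro z
    have hz : z ∈ Algebra.adjoin A (Set.range fun j : ℕ => gamma (j + 1) x) := by
      rw [hgen]; trivial
    rw [Algebra.adjoin_range_eq_range_aeval] at hz
    obtain ⟨p, rfl⟩ := hz
    induction p using MvPolynomial.induction_on' with
    | monomial e a =>
      simp only [AlgHom.toRingHom_eq_coe, RingHom.coe_coe, aeval_monomial]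
      rcases eq_or_ne e 0 with rfl | he
      · simp only [Finsupp.prod_zero_index, mul_one, hεAB, IsScalarTower.algebraMap_apply K A B,
          ← map_sub]
        exact hga _ (by simp)
      rw [map_mul εB, hεγ e he, mul_zero, map_zero, sub_zero]
      let d : Fin 2 × ℕ →₀ ℕ := e.mapDomain fun j => ((0 : Fin 2), j)
      let a' := a - algebraMap K A (εA a)
      have ha' : εA a' = 0 := by simp [a']
      have hwt : 1 ≤ wt d := by
        obtain ⟨j, hj⟩ := Finsupp.support_nonempty_iff.2 he
        rw [wt, Finsupp.sum_mapDomain_index (by simp) (fun _ _ _ => by ring)]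
        refine le_trans ?_ (Finset.single_le_sum (fun _ _ => Nat.zero_le _) hj)
        exact Nat.mul_pos (Nat.pos_of_ne_zero (Finsupp.mem_support_iff.1 hj)) (Nat.succ_pos _)
      have hev : ∀ b : B, ev b ![x, algebraMap A B a'] (monomial d (X 0)) =
          b * e.prod fun j k => gamma (j + 1) x ^ k := by
        intro b
        rw [ev_monomial, evC_X, gamma_one, Finsupp.prod_mapDomain_index (by simp)
          (fun _ _ _ => pow_add _ _ _)]
        simp
      have hgx2 : ∀ s, GoodElt W ((![x, algebraMap A B a'] : Fin 2 → B) s) := by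
        intro s
        fin_cases s
        · simpa using hgx
        · simpa using hga _ ha'
      have h1 : GoodElt W (algebraMap K B (εA a) * e.prod fun j k => gamma (j + 1) x ^ k) := by
        rw [← hev]
        exact goodElt_of_max (gamma_expr_mem hB (modelDvd_monomial d _ 1 hwt) le_rfl
          (binElt_algebraMap hKb hεB.isLambdaAlg _) hgx2).1
      have h2 : GoodElt W (algebraMap A B a' * e.prod fun j k => gamma (j + 1) x ^ k) := by
        have : algebraMap A B a' * (e.prod fun j k => gamma (j + 1) x ^ k) =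
            ev 1 ![x, algebraMap A B a'] (X (1, 0) * monomial d (X 0)) := by
          rw [map_mul, hev, one_mul, ev_X]
          simp [gamma_one]
        rw [this]
        refine goodElt_of_max (gamma_expr_mem hB ?_ le_rfl (binElt_one hB) hgx2).1
        exact ((modelDvd_zero _).mul (modelDvd_monomial d _ 1 hwt)).mono (by simp)
      have := h1.add h2
      rwa [← add_mul, IsScalarTower.algebraMap_apply K A B, ← map_add, add_sub_cancel] at this
    | add a b ha hb =>
      rw [map_add, map_add, map_add, add_sub_add_comm]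
      exact ha.add hb
  refine le_antisymm (gammaFil_le W (εB : B →+* K) (fun z hz => ?_) k) (Ideal.span_le.2 ?_)
  · have := hgood z
    rwa [show εB z = 0 from hz, map_zero, sub_zero] at this
  · rintro _ ⟨e, a, ha, rfl⟩
    have hA' : Ideal.map (algebraMap A B) (gammaFil (εA : A →+* K) (k - e.sum fun j n => (j + 1) * n)) ≤
        gammaFil (εB : B →+* K) (k - e.sum fun j n => (j + 1) * n) := by
      rw [LambdaRing.gammaFil, Ideal.map_span, Ideal.span_le]
      rintro _ ⟨_, ⟨l, hl, hs, rfl⟩, rfl⟩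
      refine Ideal.subset_span ⟨l.map fun p => (p.1, algebraMap A B p.2), ?_, ?_, ?_⟩
      · intro p hp
        obtain ⟨p', hp', rfl⟩ := List.mem_map.1 hp
        simpa [hεAB] using hl p' hp'
      · simpa [Function.comp_def] using hs
      · simp [map_list_prod, Function.comp_def, gamma_map (algebraMap A B) hAB]
    have hp : ∀ s : Finset ℕ, ∏ j ∈ s, gamma (j + 1) x ^ e j ∈
        (gammaFilt (εB : B →+* K)).F (∑ j ∈ s, (j + 1) * e j) := by
      intro s
      induction s using Finset.induction with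
      | empty => simp [(gammaFilt (εB : B →+* K)).top]
      | insert a s ha ih =>
        rw [Finset.prod_insert ha, Finset.sum_insert ha, mul_comm (a + 1)]
        exact (gammaFilt _).mul
          (Filt.pow_mem _ (goodElt_gammaFilt (εB : B →+* K) hx (a + 1)) _) ih
    refine (gammaFilt (εB : B →+* K)).anti ?_
      ((gammaFilt (εB : B →+* K)).mul (hA' (Ideal.mem_map_of_mem _ ha)) (hp e.support))
    simp only [Finsupp.sum]
    omega

end Span

end Groth.Agent.Lambda
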