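import Groth.Agent.Lib.Lambda.KRRSigma

/-!
The γ-filtration of an elementary extension.
-/

universe u

open Finset

namespace Groth.Agent.Lambda

open LambdaRing (LambdaOps gamma PosStructure HasSplitting gammaFiltration IsExtension)

variable {K : Type u} [CommRing K] [LambdaOps K] {P : PosStructure K} {e : K}

/-- The k-th candidate term. -/
noncomputable def extFil (P : PosStructure K) (e : K) (r k : ℕ) :
    AddSubgroup (AdjoinRoot (KRR.extPoly P e)) :=
  ⨆ i ∈ Finset.range (r + 1), AddSubgroup.map
    ((AddMonoidHom.mulRight ((AdjoinRoot.root (KRR.extPoly P e) - 1) ^ i)).comp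
      (AdjoinRoot.of (KRR.extPoly P e)).toAddMonoidHom)
    (gammaFiltration P (k - i))

lemma root_sub_one_relation (P : PosStructure K) (e : K) (he : e ∈ P.pos) :
    ∑ l ∈ range ((P.aug e).toNat + 1),
      AdjoinRoot.of (KRR.extPoly P e) ((-1 : K) ^ l * gamma l (e - ((P.aug e).toNat : K))) *
        (AdjoinRoot.root (KRR.extPoly P e) - 1) ^ ((P.aug e).toNat - l) = 0 := by
  refine Eq.trans ?_ (root_relation (P := P) (e := e))
  set m := (P.aug e).toNat with hm
  set t := AdjoinRoot.root (KRR.extPoly P e) - 1 with ht
  have hg : ∀ l, gamma l (e - (m : K)) = _ := gamma_pos_sub_nat P he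
  simp only [hg]
  simp only [mul_sum, map_sum, sum_mul]
  rw [sum_comm]
  refine sum_congr rfl fun i hi => ?_
  rw [mem_range] at hi
  rw [show AdjoinRoot.root (KRR.extPoly P e) = 1 + t by rw [ht]; ring, add_pow, mul_sum]
  simp only [mul_ite, mul_zero, apply_ite (AdjoinRoot.of (KRR.extPoly P e)), map_zero, ite_mul,
    zero_mul]
  have h : (range (m + 1)).filter (fun l => i ≤ l) = (range (m - i + 1)).map (addLeftEmbedding i) := by
    ext l
    simp only [mem_filter, mem_range, mem_map, addLeftEmbedding_apply]
    exact ⟨fun h => ⟨l - i, by omega, by omega⟩, fun ⟨a, ha, hal⟩ => by omega⟩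
  rw [← sum_filter, h, sum_map]
  refine sum_congr rfl fun a ha => ?_
  rw [mem_range] at ha
  simp only [addLeftEmbedding_apply, Nat.add_sub_cancel_left, one_pow, one_mul, map_mul, map_pow,
    map_neg, map_one, map_natCast, pow_add, show m - (i + a) = m - i - a by omega]
  have hsq : ((-1 : AdjoinRoot (KRR.extPoly P e)) ^ a) * (-1) ^ a = 1 := by
    rw [← mul_pow]; simp
  linear_combination ((-1) ^ i * AdjoinRoot.of (KRR.extPoly P e) (LambdaOps.lam i e) *
    ((m - i).choose a : AdjoinRoot (KRR.extPoly P e)) * t ^ (m - i - a)) * hsq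

variable {r : ℕ}

lemma mem_extFil (he : e ∈ P.pos) (hr : P.aug e = r + 1) (i k : ℕ) (a : K)
    (ha : a ∈ gammaFiltration P (k - i)) :
    AdjoinRoot.of (KRR.extPoly P e) a * (AdjoinRoot.root (KRR.extPoly P e) - 1) ^ i ∈
      extFil P e r k := by
  induction i using Nat.strong_induction_on generalizing a with
  | _ i ih =>
    rcases Nat.lt_or_ge i (r + 1) with h | h
    · exact AddSubgroup.mem_iSup_of_mem i (AddSubgroup.mem_iSup_of_mem (Finset.mem_range.2 h)
        ⟨a, ha, rfl⟩)
    have hm : (P.aug e).toNat = r + 1 := by omega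
    have hrel := root_sub_one_relation P e he
    rw [hm, sum_range_succ', pow_zero, one_mul, gamma_zero, map_one, one_mul, Nat.sub_zero] at hrel
    rw [show i = (r + 1) + (i - (r + 1)) by omega, pow_add, eq_neg_of_add_eq_zero_right hrel]
    rw [neg_mul, mul_neg, sum_mul, mul_sum]
    refine neg_mem (sum_mem fun l hl => ?_)
    rw [mem_range] at hl
    rw [mul_assoc, ← pow_add, ← mul_assoc, ← map_mul,
      show r + 1 - (l + 1) + (i - (r + 1)) = i - (l + 1) by omega]
    refine ih _ (by omega) _ ?_
    refine gammaFiltration_anti P (show k - (i - (l + 1)) ≤ (k - i) + (l + 1) by omega) ?_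
    refine mul_mem_gammaFiltration P _ _ _ _ ha (mul_left_mem_gammaFiltration P _ _ _ ?_)
    refine (gammaFiltration_eq_gammaFil P _ _).2 (goodElt_gammaFilt P.aug ?_ _)
    simp [hr]

lemma mul_root_sub_one_mem (he : e ∈ P.pos) (hr : P.aug e = r + 1) (k : ℕ)
    {x : AdjoinRoot (KRR.extPoly P e)} (hx : x ∈ extFil P e r k) :
    x * (AdjoinRoot.root (KRR.extPoly P e) - 1) ∈ extFil P e r k := by
  refine (iSup₂_le fun i _ => AddSubgroup.map_le_iff_le_comap.2 fun a ha => ?_ :
    extFil P e r k ≤ (extFil P e r k).comap
      (AddMonoidHom.mulRight (AdjoinRoot.root (KRR.extPoly P e) - 1))) hx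
  simp only [AddSubgroup.mem_comap, AddMonoidHom.comp_apply, AddMonoidHom.mulRight_apply]
  rw [mul_assoc, ← pow_succ]
  exact mem_extFil he hr _ _ _ (gammaFiltration_anti P (by omega) ha)

lemma mul_mem_extFil (he : e ∈ P.pos) (hr : P.aug e = r + 1) (k : ℕ)
    {x : AdjoinRoot (KRR.extPoly P e)} (hx : x ∈ extFil P e r k) (z : AdjoinRoot (KRR.extPoly P e)) :
    x * z ∈ extFil P e r k := by
  have hc : ∀ (c : K) y, y ∈ extFil P e r k → y * AdjoinRoot.of (KRR.extPoly P e) c ∈ extFil P e r k := by
    intro c y hy
    refine (iSup₂_le fun i _ => AddSubgroup.map_le_iff_le_comap.2 fun a ha => ?_ :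
      extFil P e r k ≤ (extFil P e r k).comap
        (AddMonoidHom.mulRight (AdjoinRoot.of (KRR.extPoly P e) c))) hy
    simp only [AddSubgroup.mem_comap, AddMonoidHom.comp_apply, AddMonoidHom.mulRight_apply]
    rw [mul_right_comm, RingHom.toAddMonoidHom_eq_coe, AddMonoidHom.coe_coe, ← map_mul, mul_comm a]
    exact mem_extFil he hr _ _ _ (mul_left_mem_gammaFiltration P _ _ _ ha)
  induction z using AdjoinRoot.induction_on with
  | ih q =>
    induction q using Polynomial.induction_on with
    | C c => rw [AdjoinRoot.mk_C]; exact hc c x hx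
    | add p q hp hq => rw [map_add, mul_add]; exact add_mem hp hq
    | monomial n c h =>
      rw [pow_succ, ← mul_assoc, map_mul, AdjoinRoot.mk_X, ← mul_assoc,
        show ∀ y : AdjoinRoot (KRR.extPoly P e), y * AdjoinRoot.root (KRR.extPoly P e) =
          y * (AdjoinRoot.root (KRR.extPoly P e) - 1) + y from fun y => by ring]
      exact add_mem (mul_root_sub_one_mem he hr k h) h

theorem gammaFiltration_elementary (he : e ∈ P.pos) (hr : P.aug e = r + 1)
    [inst : LambdaOps (AdjoinRoot (KRR.extPoly P e))] (Pe : PosStructure (AdjoinRoot (KRR.extPoly P e)))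
    (hext : IsExtension P Pe (AdjoinRoot.of (KRR.extPoly P e)))
    (hline : Pe.IsLine (AdjoinRoot.root (KRR.extPoly P e)))
    (hsplit : HasSplitting (AdjoinRoot (KRR.extPoly P e)) Pe) (k : ℕ) :
    gammaFiltration Pe k = extFil P e r k := by
  set A := AdjoinRoot (KRR.extPoly P e)
  set o := AdjoinRoot.of (KRR.extPoly P e) with ho
  set t := AdjoinRoot.root (KRR.extPoly P e) - 1 with ht
  have ht0 : Pe.aug t = 0 := by rw [ht, map_sub, hline.2, map_one, sub_self]
  apply le_antisymm
  · have hA := isSpecial_of_hasSplitting hsplit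
    let W : Filt A := Filt.ofSets (fun k => {y | ∃ a i, a ∈ gammaFiltration P (k - i) ∧ y = o a * t ^ i})
      ⟨1, 0, by simp [gammaFiltration_zero], by simp⟩
      (fun {m n} h y ⟨a, i, ha, hy⟩ => ⟨a, i, gammaFiltration_anti P (by omega) ha, hy⟩)
      (fun {m n a b} ⟨a', i, ha, hy⟩ ⟨b', j, hb, hy'⟩ => Ideal.subset_span ⟨a' * b', i + j,
        gammaFiltration_anti P (by omega) (mul_mem_gammaFiltration P _ _ _ _ ha hb),
        by rw [hy, hy', map_mul, pow_add]; ring⟩)
    have hW : ∀ k z, z ∈ W.F k → z ∈ extFil P e r k := by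
      intro k z hz
      refine Submodule.span_induction (p := fun z _ => z ∈ extFil P e r k) ?_ (zero_mem _)
        (fun a b _ _ => add_mem) (fun a b _ hb => ?_) hz
      · rintro _ ⟨a, i, ha, rfl⟩; exact mem_extFil he hr i k a ha
      · rw [smul_eq_mul, mul_comm]; exact mul_mem_extFil he hr k hb a
    have hgt : GoodElt W t := by
      intro n
      match n with
      | 0 => simp [W.top]
      | 1 =>
        rw [gamma_one]
        exact Ideal.subset_span ⟨1, 1, by simp [gammaFiltration_zero], by simp⟩
      | n + 2 => rw [ht, gamma_line_sub_line Pe hline (isLine_one Pe)]; simp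
    have hgo : ∀ c, P.aug c = 0 → GoodElt W (o c) := by
      intro c hc n
      rw [ho, ← gamma_map _ hext.isLambdaHom]
      refine Ideal.subset_span ⟨gamma n c, 0, ?_, by simp [ho]⟩
      exact (gammaFiltration_eq_gammaFil P _ _).2 (goodElt_gammaFilt P.aug hc n)
    have hlist : ∀ l : List (ℕ × A), (∀ p ∈ l, GoodElt W p.2) → 1 ≤ (l.map Prod.fst).sum →
        GoodElt W (l.map fun p => gamma p.1 p.2).prod := by
      intro l hl hs n
      rcases Nat.eq_zero_or_pos n with rfl | hn
      · simp [W.top]
      have := ((gamma_list_mem (W := W) hA (binElt_one hA) l hl 1 le_rfl hs).1 n hn)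
      rw [one_mul] at this
      exact W.anti (le_max_left _ _) this
    have hzs : ∀ (c : ℤ) (z : A), GoodElt W z → GoodElt W (c • z) := by
      intro c z hz
      induction c using Int.induction_on with
      | zero => rw [zero_smul]; exact goodElt_zero
      | succ i ih => rw [add_smul, one_smul]; exact ih.add hz
      | pred i ih => rw [sub_eq_add_neg, add_smul, neg_one_smul]; exact ih.add hz.neg
    have hall : ∀ z : A, GoodElt W (z - (Pe.aug z : A)) := by
      intro z
      have hz : z ∈ extFil P e r 0 := by
        have h1 : (1 : A) ∈ extFil P e r 0 := by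
          simpa using mem_extFil he hr 0 0 1 (by simp [gammaFiltration_zero])
        simpa using mul_mem_extFil he hr 0 h1 z
      let G : AddSubgroup A :=
        { carrier := {z | GoodElt W (z - (Pe.aug z : A))}
          add_mem' := fun {a b} ha hb => by
            show GoodElt W (a + b - (Pe.aug (a + b) : A))
            rw [map_add, Int.cast_add, add_sub_add_comm]
            exact GoodElt.add ha hb
          zero_mem' := by
            show GoodElt W (0 - (Pe.aug 0 : A))
            simpa using goodElt_zero
          neg_mem' := fun {a} ha => by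
            show GoodElt W (-a - (Pe.aug (-a) : A))
            rw [map_neg, Int.cast_neg, neg_sub_neg, ← neg_sub]
            exact GoodElt.neg ha }
      refine (iSup₂_le fun i _ => AddSubgroup.map_le_iff_le_comap.2 fun a _ => ?_ :
        extFil P e r 0 ≤ G) hz
      show GoodElt W (o a * t ^ i - (Pe.aug (o a * t ^ i) : A))
      have ha' : P.aug (a - (P.aug a : K)) = 0 := by simp
      rcases Nat.eq_zero_or_pos i with rfl | hi
      · have := hgo _ ha'
        rw [pow_zero, mul_one, hext.aug_comp]
        simpa [ho] using this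
      · rw [map_mul, map_pow, ht0, zero_pow (by omega), mul_zero, Int.cast_zero, sub_zero,
          show o a * t ^ i = (P.aug a) • t ^ i + o (a - (P.aug a : K)) * t ^ i by
            rw [map_sub, map_intCast, zsmul_eq_mul]; ring]
        refine (hzs _ _ ?_).add ?_
        · have := hlist (List.replicate i (1, t)) (fun p hp => by
            rw [List.eq_of_mem_replicate hp]; exact hgt) (by simp; omega)
          simpa [gamma_one] using this
        · have := hlist ((1, o (a - (P.aug a : K))) :: List.replicate i (1, t)) (fun p hp => by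
            rcases List.mem_cons.1 hp with rfl | hp
            · exact hgo _ ha'
            · rw [List.eq_of_mem_replicate hp]; exact hgt) (by simp)
          simpa [gamma_one] using this
    intro x hx
    refine hW k x (gammaFil_le W Pe.aug (fun z hz => ?_) k ((gammaFiltration_eq_gammaFil Pe k x).1 hx))
    have := hall z
    rwa [hz, Int.cast_zero, sub_zero] at this
  · refine iSup₂_le fun i _ => AddSubgroup.map_le_iff_le_comap.2 fun a ha => ?_
    show o a * t ^ i ∈ gammaFiltration Pe k
    have hoa : o a ∈ gammaFiltration Pe (k - i) := by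
      rcases eq_or_ne (k - i) 0 with h | h
      · rw [h, gammaFiltration_zero]; trivial
      rw [gammaFiltration_eq P _ h] at ha
      refine AddSubgroup.closure_induction (p := fun a _ => o a ∈ gammaFiltration Pe (k - i)) ?_
        (by simp) (fun a b _ _ ha hb => by rw [map_add]; exact add_mem ha hb)
        (fun a _ ha => by rw [map_neg]; exact neg_mem ha) ha
      rintro _ ⟨l, hl, hs, rfl⟩
      rw [gammaFiltration_eq Pe _ h, map_list_prod, List.map_map]
      refine AddSubgroup.subset_closure ⟨l.map fun p => (p.1, o p.2), ?_, ?_, ?_⟩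
      · intro p hp
        obtain ⟨q, hq, rfl⟩ := List.mem_map.1 hp
        rw [ho, hext.aug_comp]; exact hl q hq
      · simpa [List.map_map, Function.comp_def] using hs
      · rw [List.map_map]
        congr 1
        exact List.map_congr_left fun p _ => gamma_map o hext.isLambdaHom p.1 p.2
    have hti : ∀ i : ℕ, t ^ i ∈ gammaFiltration Pe i := by
      intro i
      induction i with
      | zero => rw [gammaFiltration_zero]; trivial
      | succ i ih =>
        rw [pow_succ]
        refine mul_mem_gammaFiltration Pe i 1 _ _ ih ?_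
        simpa [ht0] using sub_aug_mem_one Pe t
    exact gammaFiltration_anti Pe (by omega) (mul_mem_gammaFiltration Pe _ _ _ _ hoa (hti i))

end Groth.Agent.Lambda
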