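import Groth.Agent.Lib.Lambda.Series

/-!
Basic facts on λ-rings with positive structure.
-/

universe u

open PowerSeries Finset

namespace Groth.Agent.Lambda

open LambdaRing (LambdaOps lamSeries gamma adamsOp logDerivSeries PosStructure gammaFiltration)

variable {K : Type u} [CommRing K] [LambdaOps K] (P : PosStructure K)

include P in
lemma pos_lam_one (j : ℕ) (hj : 2 ≤ j) : LambdaOps.lam j (1 : K) = 0 := by
  have h := P.natCast_mem 1 one_pos
  rw [Nat.cast_one] at h
  exact P.lam_eq_zero 1 h j (by rw [map_one]; omega)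

lemma line_lam {u : K} (hu : P.IsLine u) (j : ℕ) (hj : 2 ≤ j) : LambdaOps.lam j u = 0 :=
  P.lam_eq_zero u hu.1 j (by rw [hu.2]; omega)

lemma lam_pos_eq_zero {e : K} (he : e ∈ P.pos) (i : ℕ) (hi : (P.aug e).toNat < i) :
    LambdaOps.lam i e = 0 :=
  P.lam_eq_zero e he i (by omega)

lemma adams_zero (x : K) : LambdaRing.adams P 0 x = (P.aug x : K) := by
  simp [LambdaRing.adams, LambdaRing.adamsSeries]

lemma adams_succ (k : ℕ) (x : K) : LambdaRing.adams P (k + 1) x = adamsOp (k + 1) x := by
  have hd : d⁄dX K (rescale (-1 : K) (lamSeries x)) *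
      (rescale (-1 : K) (lamSeries x)).invOfUnit 1 = - rescale (-1 : K) (logDerivSeries x) := by
    have hD : d⁄dX K (rescale (-1 : K) (lamSeries x)) = - rescale (-1 : K) (d⁄dX K (lamSeries x)) := by
      ext n
      rw [coeff_derivative, coeff_rescale, map_neg, coeff_rescale, coeff_derivative, pow_succ]
      ring
    rw [hD, lamSeries_mul_logDeriv, map_mul, neg_mul, mul_assoc,
      mul_invOfUnit _ _ (by rw [← coeff_zero_eq_constantCoeff_apply, coeff_rescale, pow_zero,
        one_mul, coeff_lamSeries, LambdaOps.lam_zero]; rfl), mul_one]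
  rw [LambdaRing.adams, LambdaRing.adamsSeries, mul_assoc, hd, map_sub, coeff_C,
    if_neg (Nat.succ_ne_zero k), coeff_succ_X_mul, map_neg, coeff_rescale, coeff_logDeriv,
    ← mul_assoc, ← mul_pow]
  simp

lemma adams_eq_adamsOp {k : ℕ} (hk : 1 ≤ k) (x : K) : LambdaRing.adams P k x = adamsOp k x := by
  obtain ⟨m, rfl⟩ : ∃ m, k = m + 1 := ⟨k - 1, by omega⟩
  exact adams_succ P m x

lemma adams_of_isLine {u : K} (hu : P.IsLine u) (j : ℕ) : LambdaRing.adams P j u = u ^ j := by
  cases j with
  | zero => rw [adams_zero, hu.2]; simp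
  | succ k => rw [adams_succ, adamsOp_of_line (line_lam P hu) _ (by omega)]

lemma coeff_one_sub_X_pow (R : Type*) [CommRing R] (k a : ℕ) :
    coeff a ((1 - X : R⟦X⟧) ^ k) = (-1) ^ a * (k.choose a : R) := by
  rw [show (1 - X : R⟦X⟧) = rescale (-1 : R) ((Polynomial.X + 1 : Polynomial R) : R⟦X⟧) by
      simp [rescale_X]; ring,
    ← map_pow, coeff_rescale, ← Polynomial.coe_pow, Polynomial.coeff_coe,
    Polynomial.coeff_X_add_one_pow]

lemma gamma_pos_sub_nat {e : K} (he : e ∈ P.pos) (l : ℕ) :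
    gamma l (e - ((P.aug e).toNat : K)) =
      ∑ i ∈ range ((P.aug e).toNat + 1),
        if i ≤ l then LambdaOps.lam i e * ((-1) ^ (l - i) * (((P.aug e).toNat - i).choose (l - i) : K))
        else 0 := by
  set m := (P.aug e).toNat
  have h : gammaSeries (e - (m : K)) =
      ∑ i ∈ range (m + 1), C (LambdaOps.lam i e) * (X ^ i * (1 - X) ^ (m - i)) := by
    rw [gammaSeries_sub_natCast (pos_lam_one P), gammaSeries_eq_subst]
    have hl : lamSeries e = ∑ i ∈ range (m + 1), C (LambdaOps.lam i e) * X ^ i := by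
      ext n
      simp only [coeff_lamSeries, map_sum, coeff_C_mul, coeff_X_pow, mul_ite, mul_one, mul_zero,
        Finset.sum_ite_eq, Finset.mem_range]
      split_ifs with hn
      · rfl
      · exact lam_pos_eq_zero P he n (by omega)
    rw [hl, ← coe_substAlgHom (hasSubst_u K), map_sum, Finset.sum_mul]
    refine Finset.sum_congr rfl fun i hi => ?_
    rw [mem_range] at hi
    rw [map_mul, map_pow, substAlgHom_X, coe_substAlgHom, subst_C, mul_pow,
      show (1 - X : K⟦X⟧) ^ m = (1 - X) ^ i * (1 - X) ^ (m - i) by rw [← pow_add]; congr 1; omega]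
    show C _ * (X ^ i * geo K ^ i) * ((1 - X) ^ i * (1 - X) ^ (m - i)) = _
    calc C (LambdaOps.lam i e) * (X ^ i * geo K ^ i) * ((1 - X) ^ i * (1 - X) ^ (m - i))
        = C (LambdaOps.lam i e) * (X ^ i * (geo K * (1 - X)) ^ i * (1 - X) ^ (m - i)) := by
          rw [mul_pow]; ring
      _ = _ := by rw [geo_mul, one_pow, mul_one]
  rw [← coeff_gammaSeries, h, map_sum]
  refine Finset.sum_congr rfl fun i _ => ?_
  rw [coeff_C_mul, coeff_X_pow_mul']
  split_ifs with hi
  · rw [coeff_one_sub_X_pow]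
  · rw [mul_zero]

lemma gammaFiltration_zero : gammaFiltration P 0 = ⊤ := by simp [LambdaRing.gammaFiltration]

lemma gammaFiltration_eq (n : ℕ) (hn : n ≠ 0) : gammaFiltration P n = AddSubgroup.closure
    {y | ∃ (l : List (ℕ × K)), (∀ p ∈ l, P.aug p.2 = 0) ∧ n ≤ (l.map Prod.fst).sum ∧
      y = (l.map fun p => gamma p.1 p.2).prod} := by
  simp [LambdaRing.gammaFiltration, hn]

lemma mul_left_mem_gammaFiltration (n : ℕ) (a x : K) (hx : x ∈ gammaFiltration P n) :
    a * x ∈ gammaFiltration P n := by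
  rcases eq_or_ne n 0 with rfl | hn
  · simp [gammaFiltration_zero]
  rw [gammaFiltration_eq P n hn] at hx ⊢
  refine AddSubgroup.closure_induction (p := fun x _ => a * x ∈ _) ?_ ?_ ?_ ?_ hx
  · rintro y ⟨l, hl, hs, rfl⟩
    rw [show a = (a - (P.aug a : K)) + (P.aug a : K) by ring, add_mul]
    refine add_mem ?_ ?_
    · apply AddSubgroup.subset_closure
      refine ⟨(1, a - (P.aug a : K)) :: l, ?_, ?_, ?_⟩
      · simp only [List.mem_cons, forall_eq_or_imp]
        exact ⟨by simp, hl⟩
      · simp; omega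
      · simp [gamma_one]
    · rw [← zsmul_eq_mul]
      refine zsmul_mem ?_ _
      apply AddSubgroup.subset_closure
      exact ⟨l, hl, hs, rfl⟩
  · simp
  · intro x y _ _ hx hy; rw [mul_add]; exact add_mem hx hy
  · intro x _ hx; rw [mul_neg]; exact neg_mem hx

lemma mul_mem_gammaFiltration (m n : ℕ) (x y : K) (hx : x ∈ gammaFiltration P m)
    (hy : y ∈ gammaFiltration P n) : x * y ∈ gammaFiltration P (m + n) := by
  rcases eq_or_ne m 0 with rfl | hm
  · rw [zero_add]; exact mul_left_mem_gammaFiltration P n x y hy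
  rcases eq_or_ne n 0 with rfl | hn
  · rw [add_zero, mul_comm]; exact mul_left_mem_gammaFiltration P m y x hx
  rw [gammaFiltration_eq P m hm] at hx
  rw [gammaFiltration_eq P n hn] at hy
  rw [gammaFiltration_eq P (m + n) (by omega)]
  refine AddSubgroup.closure_induction (p := fun x _ => x * y ∈ _) ?_ ?_ ?_ ?_ hx
  · rintro x ⟨l, hl, hs, rfl⟩
    refine AddSubgroup.closure_induction (p := fun y _ => _ * y ∈ _) ?_ ?_ ?_ ?_ hy
    · rintro y ⟨l', hl', hs', rfl⟩
      apply AddSubgroup.subset_closure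
      refine ⟨l ++ l', ?_, ?_, ?_⟩
      · intro p hp
        rw [List.mem_append] at hp
        exact hp.elim (hl p) (hl' p)
      · simp; omega
      · simp
    · rw [mul_zero]; exact zero_mem _
    · intro b c _ _ h h'; rw [mul_add]; exact add_mem h h'
    · intro b _ h; rw [mul_neg]; exact neg_mem h
  · rw [zero_mul]; exact zero_mem _
  · intro b c _ _ h h'; rw [add_mul]; exact add_mem h h'
  · intro b _ h; rw [neg_mul]; exact neg_mem h

end Groth.Agent.Lambda
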