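import Groth.Agent.Lib.Lambda.Split
import Groth.Prelude.Def_W4bkmilneecrracsp2Inv

/-!
Dual classes in λ-rings with an involution.
-/

universe u

open Finset

namespace Groth.Agent.Lambda

open LambdaRing (LambdaOps gamma PosStructure gammaFiltration IsInvolution HasInvSplitting IsExtension)

variable {K : Type u} [CommRing K] [LambdaOps K] (P : PosStructure K)

lemma lam_sum_lines {n : ℕ} (u : Fin n → K) (hu : ∀ a, P.IsLine (u a)) (i : ℕ) :
    LambdaOps.lam i (∑ a, u a) = ∑ t ∈ (univ : Finset (Fin n)).powersetCard i, ∏ a ∈ t, u a := by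
  rw [← coeff_lamSeries, lamSeries_sum,
    Finset.prod_congr rfl fun a _ => lamSeries_of_lam_eq_zero (line_lam P (hu a))]
  exact coeff_prod_one_add_C_mul_X univ u i

lemma lam_top_lines {n : ℕ} (u : Fin n → K) (hu : ∀ a, P.IsLine (u a)) :
    LambdaOps.lam n (∑ a, u a) = ∏ a, u a := by
  rw [lam_sum_lines P u hu, show (univ : Finset (Fin n)).powersetCard n = {univ} by
    simpa using Finset.powersetCard_self (univ : Finset (Fin n))]
  simp

lemma gamma_top_lines {n : ℕ} (u : Fin n → K) (hu : ∀ a, P.IsLine (u a)) :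
    gamma n (∑ a, u a - (n : K)) = ∏ a, (u a - 1) := by
  rw [show (∑ a, u a - (n : K)) = ∑ a, (u a - 1) by simp [Finset.sum_sub_distrib],
    gamma_sum_sub_card (pos_lam_one P) univ u (fun a _ j hj => line_lam P (hu a) j hj),
    show (univ : Finset (Fin n)).powersetCard n = {univ} by
      simpa using Finset.powersetCard_self (univ : Finset (Fin n))]
  simp

lemma lamAlt_lines {n : ℕ} (u : Fin n → K) (hu : ∀ a, P.IsLine (u a)) :
    ∑ i ∈ range (n + 1), (-1 : K) ^ i * LambdaOps.lam i (∑ a, u a) = ∏ a, (1 - u a) := by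
  rw [show ∏ a, (1 - u a) = ∏ a, (1 + -u a) by simp [sub_eq_add_neg],
    Finset.prod_one_add, Finset.powerset_card_disjiUnion, Finset.sum_disjiUnion,
    Finset.card_univ, Fintype.card_fin]
  refine Finset.sum_congr rfl fun i _ => ?_
  rw [lam_sum_lines P u hu, Finset.mul_sum]
  refine Finset.sum_congr rfl fun t ht => ?_
  rw [Finset.prod_neg, (Finset.mem_powersetCard.1 ht).2]

variable {P} {inv : K → K}

lemma inv_split (hS : HasInvSplitting P inv) (e : K) (he : e ∈ P.pos) :
    ∃ (L : LambdaRing.PosLambdaRing.{u}) (inv' : L.carrier → L.carrier) (f : K →+* L.carrier)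
      (u : Fin (P.aug e).toNat → L.carrier),
      IsExtension P L.posStr f ∧ IsInvolution L.posStr inv' ∧ (∀ a, L.posStr.IsLine (u a)) ∧
      ∑ a, u a = f e ∧ f (inv e) = ∑ a, inv' (u a) := by
  obtain ⟨L, inv', f, hf, hV', hc, s, hs, hse⟩ := hS e he
  let hom : L.carrier →+ L.carrier := AddMonoidHom.mk' inv' hV'.map_add
  have hn : (P.aug e).toNat = s.toList.length := by
    rw [← hf.aug_comp, ← hse, map_multiset_sum, Multiset.map_congr rfl fun u hu => (hs u hu).2,
      Multiset.map_const', Multiset.sum_replicate, nsmul_eq_mul, mul_one, Int.toNat_natCast,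
      Multiset.length_toList]
  have hsum : ∑ a : Fin (P.aug e).toNat, s.toList.get (a.cast hn) = f e := by
    refine (Fintype.sum_equiv (finCongr hn) _ s.toList.get fun a => rfl).trans ?_
    rw [← List.sum_ofFn, List.ofFn_get, Multiset.sum_toList, hse]
  refine ⟨L, inv', f, fun a => s.toList.get (a.cast hn), hf, hV',
    fun a => hs _ (Multiset.mem_toList.1 (List.get_mem _ _)), hsum, ?_⟩
  rw [hc, ← hsum]
  exact map_sum hom _ _

theorem lam_eq_inv (hS : HasInvSplitting P inv) (e : K) (he : e ∈ P.pos) (i : ℕ)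
    (hi : i ≤ (P.aug e).toNat) :
    LambdaOps.lam i e =
      LambdaOps.lam ((P.aug e).toNat - i) (inv e) * LambdaOps.lam (P.aug e).toNat e := by
  obtain ⟨L, inv', f, u, hf, hV', hu, hsum, hinv⟩ := inv_split hS e he
  apply hf.injective
  rw [map_mul, hf.isLambdaHom, hf.isLambdaHom, hf.isLambdaHom, hinv, ← hsum,
    lam_top_lines L.posStr u hu, lam_sum_lines L.posStr u hu,
    lam_sum_lines L.posStr _ (fun a => hV'.inv_line _ (hu a)), Finset.sum_mul]
  refine Finset.sum_bij' (fun t _ => tᶜ) (fun t _ => tᶜ) ?_ ?_ ?_ ?_ ?_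
  · intro t ht
    simp only [Finset.mem_powersetCard, Finset.subset_univ, true_and] at ht ⊢
    rw [Finset.card_compl, Fintype.card_fin, ht]
  · intro t ht
    simp only [Finset.mem_powersetCard, Finset.subset_univ, true_and] at ht ⊢
    rw [Finset.card_compl, Fintype.card_fin, ht]
    omega
  · simp
  · simp
  · intro t _
    rw [← Finset.prod_mul_prod_compl t u, mul_left_comm, ← Finset.prod_mul_distrib,
      Finset.prod_eq_one (s := tᶜ) fun a _ => hV'.inv_mul_self _ (hu a), mul_one]

theorem gamma_eq_lamAlt_inv (hS : HasInvSplitting P inv) (e : K) (he : e ∈ P.pos) :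
    gamma (P.aug e).toNat (e - ((P.aug e).toNat : K)) =
      (∑ i ∈ range ((P.aug e).toNat + 1), (-1 : K) ^ i * LambdaOps.lam i (inv e)) *
        LambdaOps.lam (P.aug e).toNat e := by
  obtain ⟨L, inv', f, u, hf, hV', hu, hsum, hinv⟩ := inv_split hS e he
  apply hf.injective
  rw [gamma_map f hf.isLambdaHom, map_sub, map_natCast, map_mul, map_sum, hf.isLambdaHom,
    ← hsum, gamma_top_lines L.posStr u hu, lam_top_lines L.posStr u hu]
  have hl := lamAlt_lines L.posStr _ (fun a => hV'.inv_line _ (hu a))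
  simp only [map_mul, map_pow, map_neg, map_one, hf.isLambdaHom _ _, hinv]
  rw [hl, ← Finset.prod_mul_distrib]
  refine Finset.prod_congr rfl fun a _ => ?_
  linear_combination hV'.inv_mul_self _ (hu a)

theorem gamma_inv_sub_lamAlt_mem (hS : HasInvSplitting P inv)
    (hV : IsInvolution P inv) (q : K) (hq : q ∈ P.pos) :
    gamma (P.aug q).toNat (inv q - ((P.aug q).toNat : K)) -
        (∑ i ∈ range ((P.aug q).toNat + 1), (-1 : K) ^ i * LambdaOps.lam i q) ∈
      gammaFiltration P ((P.aug q).toNat + 1) := by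
  obtain ⟨L, inv', f, u, hf, hV', hu, hsum, hinv⟩ := inv_split hS q hq
  set c := LambdaOps.lam (P.aug q).toNat (inv q) with hcdef
  have hline : ∀ a, L.posStr.IsLine (inv' (u a)) := fun a => hV'.inv_line _ (hu a)
  have heq : gamma (P.aug q).toNat (inv q - ((P.aug q).toNat : K)) =
      (∑ i ∈ range ((P.aug q).toNat + 1), (-1 : K) ^ i * LambdaOps.lam i q) * c := by
    apply hf.injective
    rw [gamma_map f hf.isLambdaHom, map_sub, map_natCast, map_mul, map_sum, hf.isLambdaHom, hinv,
      gamma_top_lines L.posStr _ hline, lam_top_lines L.posStr _ hline]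
    simp only [map_mul, map_pow, map_neg, map_one, hf.isLambdaHom _ _, ← hsum]
    rw [lamAlt_lines L.posStr u hu, ← Finset.prod_mul_distrib]
    refine Finset.prod_congr rfl fun a _ => ?_
    linear_combination hV'.inv_mul_self _ (hu a)
  have haug : P.aug c = 1 := by
    rw [← hf.aug_comp, hf.isLambdaHom, hinv, lam_top_lines L.posStr _ hline, map_prod]
    exact Finset.prod_eq_one fun a _ => (hline a).2
  rw [heq, show (∑ i ∈ range ((P.aug q).toNat + 1), (-1 : K) ^ i * LambdaOps.lam i q) * c -
    (∑ i ∈ range ((P.aug q).toNat + 1), (-1 : K) ^ i * LambdaOps.lam i q) =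
    (∑ i ∈ range ((P.aug q).toNat + 1), (-1 : K) ^ i * LambdaOps.lam i q) * (c - (P.aug c : K)) by
    rw [haug]; push_cast; ring]
  exact mul_mem_gammaFiltration P (P.aug q).toNat 1 _ _ (lamAlt_mem q hq) (sub_aug_mem_one P c)

end Groth.Agent.Lambda
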