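import Groth.Agent.Lib.Lambda.Split
import Groth.Prelude.Def_KGr

/-!
The extended Rees ring of the γ-filtration and classes in the associated graded ring.
-/

universe v

open Finset LaurentPolynomial
open scoped TensorProduct

namespace Groth.Agent.Lambda

open LambdaRing (LambdaOps gamma PosStructure gammaFiltration)

variable {K : Type v} [CommRing K] [LambdaOps K] (P : PosStructure K)

lemma coeff_C_mul_T (a : K) (n m : ℤ) : (C a * T n).coeff m = if n = m then a else 0 := by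
  rw [← single_eq_C_mul_T, AddMonoidAlgebra.coeff_single_apply]

lemma exists_neg_natCast {a : ℤ} (ha : a ≤ 0) : ∃ i : ℕ, a = -(i : ℤ) := ⟨(-a).toNat, by omega⟩

lemma mem_rees_of_mem {n : ℕ} {x : K} (hx : x ∈ gammaFiltration P n) :
    C x * T (-(n : ℤ)) ∈ KGr.rees P :=
  Subring.subset_closure (Set.mem_insert_of_mem _ ⟨n, x, hx, rfl⟩)

lemma C_mul_T_natCast_mem_rees (a : K) (i : ℕ) : C a * T (i : ℤ) ∈ KGr.rees P := by
  have h1 : C a * T (-((0 : ℕ) : ℤ)) ∈ KGr.rees P := mem_rees_of_mem P (by simp [gammaFiltration_zero])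
  rw [Nat.cast_zero, neg_zero, T_zero, mul_one] at h1
  rw [show (T (i : ℤ) : LaurentPolynomial K) = T 1 ^ i by rw [T_pow, mul_one]]
  exact mul_mem h1 (pow_mem (KGr.tGen P).2 i)

theorem coeff_mem_of_mem_rees {p : LaurentPolynomial K} (hp : p ∈ KGr.rees P) :
    ∀ n : ℕ, p.coeff (-(n : ℤ)) ∈ gammaFiltration P n := by
  classical
  induction hp using Subring.closure_induction with
  | mem x hx =>
    intro n
    rcases hx with rfl | ⟨m, a, ha, rfl⟩
    · rw [T_apply, if_neg (by omega)]; exact zero_mem _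
    · rw [coeff_C_mul_T]
      split_ifs with h
      · rwa [show n = m by omega]
      · exact zero_mem _
  | zero => intro n; exact zero_mem _
  | one =>
    intro n
    rw [← T_zero, T_apply]
    split_ifs with h
    · rw [show n = 0 by omega, gammaFiltration_zero]; trivial
    · exact zero_mem _
  | add x y _ _ hx hy => intro n; exact add_mem (hx n) (hy n)
  | neg x _ hx => intro n; exact neg_mem (hx n)
  | mul x y _ _ hx hy =>
    intro n
    rw [AddMonoidAlgebra.coeff_mul, Finsupp.sum]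
    refine sum_mem fun a _ => ?_
    rw [Finsupp.sum]
    refine sum_mem fun b _ => ?_
    split_ifs with h
    · rcases le_or_gt a 0 with ha | ha
      · obtain ⟨i, rfl⟩ := exists_neg_natCast ha
        rcases le_or_gt b 0 with hb | hb
        · obtain ⟨j, rfl⟩ := exists_neg_natCast hb
          exact gammaFiltration_anti P (by omega) (mul_mem_gammaFiltration (P := P) i j _ _ (hx i) (hy j))
        · rw [mul_comm]
          exact gammaFiltration_anti P (by omega) (mul_left_mem_gammaFiltration P i _ _ (hx i))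
      · obtain ⟨j, rfl⟩ := exists_neg_natCast (show b ≤ 0 by omega)
        exact gammaFiltration_anti P (by omega) (mul_left_mem_gammaFiltration P j _ _ (hy j))
    · exact zero_mem _

/-- The class in degree `n`. -/
noncomputable def sym (n : ℕ) : gammaFiltration P n →+ KGr.GrZ P where
  toFun x := Ideal.Quotient.mk _ ⟨C x.1 * T (-(n : ℤ)), mem_rees_of_mem P x.2⟩
  map_zero' := by
    rw [show (⟨C (0 : gammaFiltration P n).1 * T (-(n : ℤ)), mem_rees_of_mem P (zero_mem _)⟩ : KGr.rees P) = 0 from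
      Subtype.ext (by simp), map_zero]
  map_add' x y := by
    rw [← map_add]
    exact congrArg _ (Subtype.ext (by simp [add_mul]))

lemma sym_eq_zero {n : ℕ} {x : gammaFiltration P n} (h : x.1 ∈ gammaFiltration P (n + 1)) : sym P n x = 0 := by
  refine Ideal.Quotient.eq_zero_iff_mem.2 (Ideal.mem_span_singleton'.2 ⟨⟨_, mem_rees_of_mem P h⟩, Subtype.ext ?_⟩)
  show C x.1 * T (-((n + 1 : ℕ) : ℤ)) * T 1 = C x.1 * T (-(n : ℤ))
  rw [mul_T_assoc]
  congr 2
  push_cast; ring

lemma sym_mul {m n : ℕ} (x : gammaFiltration P m) (y : gammaFiltration P n) :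
    sym P m x * sym P n y = sym P (m + n) ⟨x.1 * y.1, mul_mem_gammaFiltration (P := P) m n _ _ x.2 y.2⟩ := by
  show Ideal.Quotient.mk _ _ * Ideal.Quotient.mk _ _ = Ideal.Quotient.mk _ _
  rw [← map_mul]
  refine congrArg _ (Subtype.ext ?_)
  show C x.1 * T (-(m : ℤ)) * (C y.1 * T (-(n : ℤ))) = C (x.1 * y.1) * T (-((m + n : ℕ) : ℤ))
  rw [map_mul, Nat.cast_add, neg_add, T_add]
  ring

/-- The degree `n` component. -/
noncomputable def comp (n : ℕ) : KGr.GrZ P →+ K ⧸ gammaFiltration P (n + 1) :=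
  QuotientAddGroup.lift (Submodule.toAddSubgroup (Ideal.span {KGr.tGen P}))
    { toFun := fun p => ((p.1.coeff (-(n : ℤ)) : K) : K ⧸ gammaFiltration P (n + 1))
      map_zero' := rfl
      map_add' := fun p q => rfl }
    (by
      intro p hp
      obtain ⟨r, rfl⟩ := Ideal.mem_span_singleton'.1 hp
      rw [AddMonoidHom.mem_ker]
      refine (QuotientAddGroup.eq_zero_iff _).2 ?_
      show (r.1 * T 1).coeff (-(n : ℤ)) ∈ _
      have h := coeff_mem_of_mem_rees P r.2 (n + 1)
      rw [show (T 1 : LaurentPolynomial K) = AddMonoidAlgebra.single 1 1 from rfl,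
        AddMonoidAlgebra.coeff_mul_single_eq_coeff_mul (-((n + 1 : ℕ) : ℤ)) (fun m _ => by omega), mul_one]
      exact h)

lemma comp_sym (j n : ℕ) (x : gammaFiltration P j) :
    comp P n (sym P j x) = if j = n then (x.1 : K ⧸ gammaFiltration P (n + 1)) else 0 := by
  show (((C x.1 * T (-(j : ℤ))).coeff (-(n : ℤ)) : K) : K ⧸ gammaFiltration P (n + 1)) = _
  rw [coeff_C_mul_T]
  split_ifs with h1 h2 h2
  · rfl
  · omega
  · omega
  · rfl

theorem closure_sym_eq_top :
    AddSubgroup.closure {z | ∃ (n : ℕ) (x : gammaFiltration P n), sym P n x = z} = ⊤ := by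
  classical
  refine eq_top_iff.2 fun z _ => ?_
  obtain ⟨p, rfl⟩ := Ideal.Quotient.mk_surjective z
  have hmem : ∀ a : ℤ, C (p.1.coeff a) * T a ∈ KGr.rees P := by
    intro a
    rcases le_or_gt a 0 with ha | ha
    · obtain ⟨i, rfl⟩ := exists_neg_natCast ha
      exact mem_rees_of_mem P (coeff_mem_of_mem_rees P p.2 i)
    · obtain ⟨i, rfl⟩ : ∃ i : ℕ, a = i := ⟨a.toNat, by omega⟩
      exact C_mul_T_natCast_mem_rees P _ i
  have hp : p = ∑ a ∈ p.1.coeff.support, (⟨_, hmem a⟩ : KGr.rees P) := by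
    apply Subtype.ext
    rw [AddSubmonoidClass.coe_finsetSum]
    conv_lhs => rw [← AddMonoidAlgebra.sum_coeff_single p.1]
    exact Finset.sum_congr rfl fun a _ => single_eq_C_mul_T _ _
  rw [hp, map_sum]
  refine sum_mem fun a _ => ?_
  rcases le_or_gt a 0 with ha | ha
  · obtain ⟨i, rfl⟩ := exists_neg_natCast ha
    exact AddSubgroup.subset_closure ⟨i, ⟨_, coeff_mem_of_mem_rees P p.2 i⟩, rfl⟩
  · obtain ⟨i, rfl⟩ : ∃ i : ℕ, a = ((i + 1 : ℕ) : ℤ) := ⟨a.toNat - 1, by omega⟩
    have : (Ideal.Quotient.mk (Ideal.span {KGr.tGen P}) ⟨_, hmem ((i + 1 : ℕ) : ℤ)⟩) = 0 := by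
      refine Ideal.Quotient.eq_zero_iff_mem.2
        (Ideal.mem_span_singleton'.2 ⟨⟨_, C_mul_T_natCast_mem_rees P (p.1.coeff ((i + 1 : ℕ) : ℤ)) i⟩, Subtype.ext ?_⟩)
      show C _ * T (i : ℤ) * T 1 = C _ * T ((i + 1 : ℕ) : ℤ)
      rw [mul_T_assoc, Nat.cast_succ]
    rw [this]
    exact zero_mem _

lemma grK_eq {n : ℕ} {x : K} (hx : x ∈ gammaFiltration P n) :
    KGr.grK P (n : ℤ) x = (1 : ℚ) ⊗ₜ[ℤ] sym P n ⟨x, hx⟩ := by
  classical
  have hex : ∃ N : ℕ, 1 ≤ N ∧ C ((N : K) * x) * T (-(n : ℤ)) ∈ KGr.rees P :=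
    ⟨1, le_rfl, by rw [Nat.cast_one, one_mul]; exact mem_rees_of_mem P hx⟩
  rw [KGr.grK, dif_pos hex]
  obtain ⟨N, hN, hc⟩ : ∃ N, N = hex.choose ∧ 1 ≤ hex.choose := ⟨_, rfl, hex.choose_spec.1⟩
  have e : (Ideal.Quotient.mk (Ideal.span {KGr.tGen P})
      ⟨C (((hex.choose : ℕ) : K) * x) * T (-(n : ℤ)), hex.choose_spec.2⟩) = (hex.choose : ℤ) • sym P n ⟨x, hx⟩ := by
    rw [natCast_zsmul, ← map_nsmul]
    refine congrArg (Ideal.Quotient.mk _) (Subtype.ext ?_)
    show C _ * T _ = C ((hex.choose • (⟨x, hx⟩ : gammaFiltration P n) : gammaFiltration P n) : K) * T _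
    rw [AddSubgroup.coe_nsmul, nsmul_eq_mul]
  rw [e, ← TensorProduct.smul_tmul, zsmul_eq_mul, Int.cast_natCast, mul_one_div, div_self]
  exact_mod_cast show hex.choose ≠ 0 by omega

end Groth.Agent.Lambda
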