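import Groth.Agent.Lib.Lambda.ChPoly
import Groth.Agent.Lib.Lambda.GrSymbol
import Mathlib.RingTheory.Localization.BaseChange
import Mathlib.RingTheory.Localization.FractionRing
import Mathlib.LinearAlgebra.TensorProduct.Tower

/-!
The Chern character is additive and bijective after tensoring with ℚ.
-/

universe v

open Finset
open scoped TensorProduct

namespace Groth.Agent.Lambda

open LambdaRing (LambdaOps gamma adamsOp PosStructure HasSplitting gammaFiltration)

variable {K : Type v} [CommRing K] [LambdaOps K] (P : PosStructure K)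

lemma sgn_cancel {S : Type*} [CommRing S] (a : ℕ) (y : S) : (-1) ^ a * ((-1) ^ a * y) = y := by
  rw [← mul_assoc, ← mul_pow, neg_mul_neg, one_mul, one_pow, one_mul]

/-- The class in degree `n`. -/
noncomputable abbrev G (n : ℕ) (x : K) : KGr.Gr P := KGr.grK P (n : ℤ) x

variable {P}

lemma G_add {n : ℕ} {x y : K} (hx : x ∈ gammaFiltration P n) (hy : y ∈ gammaFiltration P n) :
    G P n (x + y) = G P n x + G P n y := by
  rw [G, G, G, grK_eq P hx, grK_eq P hy, grK_eq P (add_mem hx hy), ← TensorProduct.tmul_add, ← map_add]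
  rfl

lemma G_eq_zero {n : ℕ} {x : K} (hx : x ∈ gammaFiltration P (n + 1)) : G P n x = 0 := by
  rw [G, grK_eq P (gammaFiltration_anti P (Nat.le_succ n) hx), sym_eq_zero P hx, TensorProduct.tmul_zero]

lemma G_congr {n : ℕ} {x y : K} (hy : y ∈ gammaFiltration P n) (h : x - y ∈ gammaFiltration P (n + 1)) :
    G P n x = G P n y := by
  conv_lhs => rw [show x = (x - y) + y by ring]
  rw [G_add (gammaFiltration_anti P (Nat.le_succ n) h) hy, G_eq_zero h, zero_add]

lemma G_sum {n : ℕ} {ι : Type*} (s : Finset ι) (f : ι → K) (h : ∀ i ∈ s, f i ∈ gammaFiltration P n) :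
    G P n (∑ i ∈ s, f i) = ∑ i ∈ s, G P n (f i) := by
  classical
  induction s using Finset.induction_on with
  | empty => rw [Finset.sum_empty, Finset.sum_empty]; exact G_eq_zero (zero_mem _)
  | insert a s ha ih =>
    rw [Finset.sum_insert ha, Finset.sum_insert ha,
      G_add (h a (mem_insert_self _ _)) (sum_mem fun i hi => h i (mem_insert_of_mem hi)),
      ih fun i hi => h i (mem_insert_of_mem hi)]

lemma G_zsmul {n : ℕ} (c : ℤ) {x : K} (hx : x ∈ gammaFiltration P n) :
    G P n (c • x) = (c : ℚ) • G P n x := by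
  rw [G, G, grK_eq P (zsmul_mem hx c), grK_eq P hx,
    show (⟨c • x, zsmul_mem hx c⟩ : gammaFiltration P n) = c • ⟨x, hx⟩ from rfl, map_zsmul,
    TensorProduct.tmul_smul, Int.cast_smul_eq_zsmul]

lemma G_natCast_mul {n : ℕ} (c : ℕ) {x : K} (hx : x ∈ gammaFiltration P n) :
    G P n ((c : K) * x) = (c : KGr.Gr P) * G P n x := by
  rw [← nsmul_eq_mul, ← nsmul_eq_mul, ← natCast_zsmul, G_zsmul _ hx, Int.cast_natCast, Nat.cast_smul_eq_nsmul]

lemma G_mul {m n : ℕ} {x y : K} (hx : x ∈ gammaFiltration P m) (hy : y ∈ gammaFiltration P n) :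
    G P m x * G P n y = G P (m + n) (x * y) := by
  rw [G, G, G, grK_eq P hx, grK_eq P hy, grK_eq P (mul_mem_gammaFiltration (P := P) m n _ _ hx hy),
    Algebra.TensorProduct.tmul_mul_tmul, one_mul, sym_mul]

lemma mem_filtration_zero (x : K) : x ∈ gammaFiltration P 0 := by simp [gammaFiltration_zero]

lemma G_zero_one : G P 0 (1 : K) = 1 := by
  rw [G, grK_eq P (mem_filtration_zero 1)]
  refine congrArg (fun t => (1 : ℚ) ⊗ₜ[ℤ] t) ?_
  show Ideal.Quotient.mk _ _ = 1
  rw [← map_one (Ideal.Quotient.mk (Ideal.span {KGr.tGen P}))]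
  exact congrArg _ (Subtype.ext (by simp [LaurentPolynomial.T_zero]))

/-- The alternating Adams combination. -/
noncomputable def D (a : ℕ) (z : K) : K :=
  ∑ k ∈ range (a + 1), (-1) ^ k * ((a + 1).choose (k + 1) : K) * adamsOp (k + 1) z

lemma D_add (a : ℕ) (x y : K) : D a (x + y) = D a x + D a y := by
  simp only [D, adamsOp_add, mul_add, Finset.sum_add_distrib]

lemma gamma_mem {z : K} (hz : P.aug z = 0) (i : ℕ) : gamma i z ∈ gammaFiltration P i := by
  rcases eq_or_ne i 0 with rfl | hi
  · exact mem_filtration_zero _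
  rw [gammaFiltration_eq P i hi]
  exact AddSubgroup.subset_closure ⟨[(i, z)], by simpa using hz, by simp, by simp⟩

lemma D_mem {z : K} (hz : P.aug z = 0) (a : ℕ) : D a z ∈ gammaFiltration P (a + 1) := by
  induction a using Nat.strong_induction_on with
  | _ a ih =>
    have h := gamma_succ_newton a z
    rw [Finset.sum_range_succ, Nat.sub_self, gamma_zero, mul_one] at h
    rw [D, eq_sub_of_add_eq' h.symm]
    refine sub_mem (mul_left_mem_gammaFiltration P _ _ _ (gamma_mem hz _)) (sum_mem fun b hb => ?_)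
    rw [mem_range] at hb
    have := mul_mem_gammaFiltration (P := P) _ _ _ _ (ih b hb) (gamma_mem hz (a - b))
    rwa [show b + 1 + (a - b) = a + 1 by omega] at this

variable (P) in
/-- The closed form of the Chern character. -/
noncomputable def chClosed (d : ℕ) (x : K) : KGr.Gr P :=
  algebraMap ℚ (KGr.Gr P) (P.aug x : ℚ) +
    ∑ a ∈ range d, ((-1 : ℚ) ^ a / ((a + 1).factorial : ℚ)) • G P (a + 1) (D a (x - (P.aug x : K)))

lemma aug_sub_aug (x : K) : P.aug (x - (P.aug x : K)) = 0 := by simp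

theorem chK_eq (d : ℕ) (x : K) : KGr.chK P d x = chClosed P d x := by
  let z := x - (P.aug x : K)
  let u : ℕ → KGr.Gr P := fun j => (-1) ^ (j - 1) * G P j (D (j - 1) z)
  have hz : P.aug z = 0 := aug_sub_aug x
  have hE : ∀ n ≤ d, extSeq (fun i : Fin d => KGr.chern P (i.1 + 1) x) n = E u n := by
    intro n hn
    refine Eq.trans ?_ (eq_E u (fun n => G P n (gamma n z)) d ?_ (fun m _ => ?_) n hn)
    · rcases Nat.eq_zero_or_pos n with rfl | hn0
      · simp [extSeq, gamma_zero, G_zero_one]
      · rw [extSeq, if_neg hn0.ne', dif_pos (by omega)]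
        show KGr.grK P ((n - 1 + 1 : ℕ) : ℤ) (gamma (n - 1 + 1) z) = _
        rw [Nat.sub_add_cancel hn0]
    · simp [gamma_zero, G_zero_one]
    · rw [← G_natCast_mul _ (gamma_mem hz _), gamma_succ_newton, G_sum]
      · refine Finset.sum_congr rfl fun a ha => ?_
        rw [mem_range] at ha
        simp only [u, Nat.add_sub_cancel]
        rw [sgn_cancel,
          G_mul (D_mem hz a) (gamma_mem hz _), show a + 1 + (m - a) = m + 1 by omega]
        rfl
      · intro a ha
        rw [mem_range] at ha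
        have := mul_mem_gammaFiltration (P := P) _ _ _ _ (D_mem hz a) (gamma_mem hz (m - a))
        rwa [show a + 1 + (m - a) = m + 1 by omega] at this
  rw [KGr.chK, aeval_chPoly _ u hE, ← add_assoc, ← map_add, sub_add_cancel, chClosed]
  congr 1
  refine Finset.sum_congr rfl fun a _ => ?_
  simp only [u, Nat.add_sub_cancel]
  rw [div_eq_mul_inv ((-1 : ℚ) ^ a), mul_comm ((-1 : ℚ) ^ a), mul_smul, one_div]
  congr 1
  rw [show ((-1 : KGr.Gr P)) ^ a = algebraMap ℚ (KGr.Gr P) ((-1) ^ a) by rw [map_pow, map_neg, map_one]]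
  exact (Algebra.smul_def _ _).symm

lemma chClosed_add (d : ℕ) (x y : K) : chClosed P d (x + y) = chClosed P d x + chClosed P d y := by
  simp only [chClosed, map_add, Int.cast_add, add_sub_add_comm, D_add]
  rw [add_add_add_comm, ← Finset.sum_add_distrib]
  congr 1
  refine Finset.sum_congr rfl fun a _ => ?_
  rw [G_add (D_mem (aug_sub_aug x) a) (D_mem (aug_sub_aug y) a), smul_add]

variable (hK : HasSplitting K P)
include hK

lemma aug_adamsOp_eq_zero {z : K} (hz : P.aug z = 0) (k : ℕ) (hk : 1 ≤ k) : P.aug (adamsOp k z) = 0 := by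
  rw [aug_adamsOp hK k hk, hz]

lemma aug_D {z : K} (hz : P.aug z = 0) (a : ℕ) : P.aug (D a z) = 0 := by
  simp only [D, map_sum, map_mul]
  exact Finset.sum_eq_zero fun k _ => by rw [aug_adamsOp_eq_zero hK hz (k + 1) (by omega), mul_zero]

lemma aug_gamma {z : K} (hz : P.aug z = 0) : ∀ i, 1 ≤ i → P.aug (gamma i z) = 0 := by
  intro i hi
  obtain ⟨n, rfl⟩ : ∃ n, i = n + 1 := ⟨i - 1, by omega⟩
  have h := congrArg P.aug (gamma_succ_newton n z)
  rw [map_mul, map_natCast, map_sum, Finset.sum_eq_zero fun a _ => by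
    rw [map_mul, show P.aug (∑ k ∈ range (a + 1), _) = 0 from aug_D hK hz a, zero_mul]] at h
  rcases mul_eq_zero.1 h with h | h
  · omega
  · exact h

lemma aug_eq_zero {y : K} {n : ℕ} (hn : 1 ≤ n) (hy : y ∈ gammaFiltration P n) : P.aug y = 0 := by
  rw [gammaFiltration_eq P n (by omega)] at hy
  refine AddSubgroup.closure_induction (p := fun y _ => P.aug y = 0) ?_ (map_zero _)
    (fun a b _ _ ha hb => by rw [map_add, ha, hb, add_zero]) (fun a _ ha => by rw [map_neg, ha, neg_zero]) hy
  rintro _ ⟨l, hl, hs, rfl⟩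
  obtain ⟨p, hp, hp1⟩ : ∃ p ∈ l, 1 ≤ p.1 := by
    by_contra hcon
    have : (l.map Prod.fst).sum = 0 := List.sum_eq_zero fun i hi => by
      obtain ⟨p, hp, rfl⟩ := List.mem_map.1 hi
      have : ¬ 1 ≤ p.1 := fun h => hcon ⟨p, hp, h⟩
      omega
    omega
  rw [map_list_prod]
  refine List.prod_eq_zero ?_
  rw [List.mem_map]
  exact ⟨_, List.mem_map.2 ⟨p, hp, rfl⟩, aug_gamma hK (hl p hp) p.1 hp1⟩

lemma D_mem_of_mem {y : K} {n : ℕ} (hy : y ∈ gammaFiltration P n) (a : ℕ) : D a y ∈ gammaFiltration P n := by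
  refine sum_mem fun k _ => mul_left_mem_gammaFiltration P _ _ _ ?_
  have h := adams_sub_mem hK (k + 1) (by omega) n y hy
  rw [adams_eq_adamsOp P (by omega)] at h
  have := add_mem (gammaFiltration_anti P (Nat.le_succ n) h)
    (mul_left_mem_gammaFiltration P n (((k + 1 : ℕ) : K) ^ n) y hy)
  rwa [sub_add_cancel] at this

lemma D_congr {y : K} {a : ℕ} (hy : y ∈ gammaFiltration P (a + 1)) :
    D a y - ((-1) ^ a * ((a + 1).factorial : ℤ)) • y ∈ gammaFiltration P (a + 1 + 1) := by
  have h := alternating_choose_pow (a + 1) (a + 1) (by omega) le_rfl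
  rw [if_pos rfl, Nat.add_sub_cancel] at h
  rw [← h, Finset.sum_smul, D, ← Finset.sum_sub_distrib]
  refine sum_mem fun k _ => ?_
  have h2 := adams_sub_mem hK (k + 1) (by omega) (a + 1) y hy
  rw [adams_eq_adamsOp P (by omega)] at h2
  rw [zsmul_eq_mul]
  push_cast
  have h3 := mul_left_mem_gammaFiltration P _ ((-1) ^ k * ((a + 1).choose (k + 1) : K)) _ h2
  push_cast at h3
  convert h3 using 1
  ring

/-- Triangularity. -/
lemma chClosed_of_mem (d : ℕ) {y : K} {n : ℕ} (hy : y ∈ gammaFiltration P (n + 1)) (hn : n < d) :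
    chClosed P d y = G P (n + 1) y +
      ∑ a ∈ (range d).filter (fun a => n < a), ((-1 : ℚ) ^ a / ((a + 1).factorial : ℚ)) • G P (a + 1) (D a y) := by
  have he := aug_eq_zero hK (by omega) hy
  rw [chClosed, he, Int.cast_zero, Int.cast_zero, sub_zero, map_zero, zero_add,
    ← Finset.sum_filter_add_sum_filter_not (range d) (fun a => n < a), add_comm]
  congr 1
  rw [Finset.sum_eq_single_of_mem n (by simp [hn])]
  · rw [G_congr (zsmul_mem hy _) (D_congr hK hy), G_zsmul _ hy, smul_smul]
    push_cast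
    rw [div_mul_eq_mul_div, ← mul_assoc, ← pow_add, ← two_mul, pow_mul, neg_one_sq, one_pow, one_mul,
      div_self (by positivity), one_smul]
  · intro a ha hane
    rw [Finset.mem_filter] at ha
    rw [G_eq_zero (gammaFiltration_anti P (by omega) (D_mem_of_mem hK hy a)), smul_zero]

theorem chClosed_bijective (d : ℕ) (hd : gammaFiltration P (d + 1) = ⊥) :
    ∃ Φ : ℚ ⊗[ℤ] K →ₗ[ℚ] KGr.Gr P, (∀ x : K, Φ ((1 : ℚ) ⊗ₜ[ℤ] x) = chClosed P d x) ∧ Function.Bijective Φ := by
  classical
  let chHom : K →+ KGr.Gr P := AddMonoidHom.mk' (chClosed P d) (chClosed_add d)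
  let Φ : ℚ ⊗[ℤ] K →ₗ[ℚ] KGr.Gr P := chHom.toIntLinearMap.liftBaseChange ℚ
  have hΦ : ∀ x : K, Φ ((1 : ℚ) ⊗ₜ[ℤ] x) = chClosed P d x := fun x => by simp [Φ, chHom]
  have hbot : ∀ n, d < n → ∀ y ∈ gammaFiltration P n, y = 0 := fun n hn y hy => by
    have := gammaFiltration_anti P (show d + 1 ≤ n by omega) hy
    rwa [hd, AddSubgroup.mem_bot] at this
  refine ⟨Φ, hΦ, ?_, ?_⟩
  · rw [injective_iff_map_eq_zero]
    intro v hv
    obtain ⟨N, hN, x, hx⟩ : ∃ N : ℕ, 1 ≤ N ∧ ∃ x : K, (N : ℚ) • v = (1 : ℚ) ⊗ₜ[ℤ] x := by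
      clear hv
      induction v using TensorProduct.induction_on with
      | zero => exact ⟨1, le_rfl, 0, by simp⟩
      | tmul q x =>
        refine ⟨q.den, q.den_pos, q.num • x, ?_⟩
        rw [TensorProduct.smul_tmul', smul_eq_mul, mul_comm, Rat.mul_den_eq_num, ← TensorProduct.smul_tmul,
          zsmul_eq_mul, mul_one]
      | add a b ha hb =>
        obtain ⟨N, hN, x, hx⟩ := ha
        obtain ⟨M, hM, y, hy⟩ := hb
        refine ⟨N * M, Nat.mul_pos hN hM, M • x + N • y, ?_⟩
        rw [smul_add, TensorProduct.tmul_add, TensorProduct.tmul_smul, TensorProduct.tmul_smul, ← hx, ← hy,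
          ← Nat.cast_smul_eq_nsmul ℚ M, ← Nat.cast_smul_eq_nsmul ℚ N, smul_smul, smul_smul, Nat.cast_mul,
          mul_comm (N : ℚ) M]
    have hch : chClosed P d x = 0 := by rw [← hΦ, ← hx, map_smul, hv, smul_zero]
    suffices h : ∀ n, ∃ M : ℕ, 1 ≤ M ∧ (M : K) * x ∈ gammaFiltration P n by
      obtain ⟨M, hM, h⟩ := h (d + 1)
      have h0 := hbot (d + 1) (by omega) _ h
      have h1 : ((M : ℚ) * N) • v = 0 := by
        rw [mul_smul, hx, Nat.cast_smul_eq_nsmul, ← TensorProduct.tmul_smul, nsmul_eq_mul, h0,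
          TensorProduct.tmul_zero]
      refine (smul_eq_zero.1 h1).resolve_left ?_
      exact mul_ne_zero (by exact_mod_cast (show M ≠ 0 by omega)) (by exact_mod_cast (show N ≠ 0 by omega))
    intro n
    induction n with
    | zero => exact ⟨1, le_rfl, mem_filtration_zero _⟩
    | succ n ih =>
      obtain ⟨M, hM, h⟩ := ih
      let π : KGr.Gr P →+ ℚ ⊗[ℤ] (K ⧸ gammaFiltration P (n + 1)) :=
        ((comp P n).toIntLinearMap.lTensor ℚ).toAddMonoidHom
      have hπ : ∀ (j : ℕ) (q : ℚ) (y : K), y ∈ gammaFiltration P j → π (q • G P j y) =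
          if j = n then q ⊗ₜ[ℤ] (y : K ⧸ gammaFiltration P (n + 1)) else 0 := by
        intro j q y hy
        rw [G, grK_eq P hy, TensorProduct.smul_tmul', smul_eq_mul, mul_one]
        show q ⊗ₜ[ℤ] comp P n (sym P j ⟨y, hy⟩) = _
        rw [comp_sym]
        split_ifs <;> simp
      have hchM : chClosed P d ((M : K) * x) = 0 := by
        rw [← nsmul_eq_mul, show chClosed P d (M • x) = M • chClosed P d x from map_nsmul chHom M x, hch, smul_zero]
      have key : (1 : ℚ) ⊗ₜ[ℤ] (((M : K) * x : K) : K ⧸ gammaFiltration P (n + 1)) = 0 := by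
        rcases Nat.eq_zero_or_pos n with rfl | hn
        · have hz : ∀ a, D a ((M : K) * x - (P.aug ((M : K) * x) : K)) ∈ gammaFiltration P (a + 1) :=
            D_mem (aug_sub_aug _)
          have h0 : π (chClosed P d ((M : K) * x)) = (1 : ℚ) ⊗ₜ[ℤ]
              (((M : K) * x : K) : K ⧸ gammaFiltration P (0 + 1)) := by
            rw [chClosed, map_add, map_sum, Finset.sum_eq_zero (fun a _ => by rw [hπ _ _ _ (hz a), if_neg (by omega)]),
              add_zero, map_intCast, ← zsmul_one (P.aug ((M : K) * x)), ← G_zero_one (P := P),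
              ← Int.cast_smul_eq_zsmul ℚ, hπ 0 _ _ (mem_filtration_zero _), if_pos rfl]
            rw [show (((P.aug ((M : K) * x) : ℤ) : ℚ)) = (P.aug ((M : K) * x)) • (1 : ℚ) by rw [zsmul_one],
              TensorProduct.smul_tmul]
            congr 1
            rw [← QuotientAddGroup.mk_zsmul, QuotientAddGroup.eq_iff_sub_mem, zsmul_one,
              ← neg_sub]
            exact neg_mem (sub_aug_mem_one P _)
          rw [← h0, hchM, map_zero]
        · obtain ⟨m, rfl⟩ : ∃ m, n = m + 1 := ⟨n - 1, by omega⟩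
          rcases lt_or_ge m d with hmd | hmd
          · have h0 : π (chClosed P d ((M : K) * x)) = (1 : ℚ) ⊗ₜ[ℤ]
                (((M : K) * x : K) : K ⧸ gammaFiltration P (m + 1 + 1)) := by
              rw [chClosed_of_mem hK d h hmd, map_add, map_sum, ← one_smul ℚ (G P (m + 1) ((M : K) * x)),
                hπ _ _ _ h, if_pos rfl, Finset.sum_eq_zero, add_zero]
              intro a ha
              rw [Finset.mem_filter] at ha
              rw [hπ _ _ _ (D_mem (aug_eq_zero hK (by omega) h) a), if_neg (by omega)]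
            rw [← h0, hchM, map_zero]
          · rw [hbot (m + 1) (by omega) _ h, QuotientAddGroup.mk_zero, TensorProduct.tmul_zero]
      obtain ⟨c, hc⟩ := (IsLocalizedModule.eq_zero_iff (nonZeroDivisors ℤ)
        (TensorProduct.mk ℤ ℚ (K ⧸ gammaFiltration P (n + 1)) 1)).1 key
      refine ⟨c.1.natAbs * M, Nat.mul_pos (Int.natAbs_pos.2 (nonZeroDivisors.ne_zero c.2)) hM, ?_⟩
      rw [Submonoid.smul_def] at hc
      rw [← QuotientAddGroup.mk_zsmul, QuotientAddGroup.eq_zero_iff] at hc
      rw [Nat.cast_mul, mul_assoc, ← nsmul_eq_mul]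
      rcases Int.natAbs_eq c.1 with h' | h'
      · rw [h', natCast_zsmul] at hc
        exact hc
      · rw [h', neg_zsmul, natCast_zsmul] at hc
        exact neg_mem_iff.1 hc
  · rw [← LinearMap.range_eq_top, eq_top_iff]
    have hG : ∀ m n, d < n + m → ∀ y ∈ gammaFiltration P n, G P n y ∈ LinearMap.range Φ := by
      intro m
      induction m with
      | zero => intro n hn y hy; rw [hbot n (by omega) y hy, G_eq_zero (zero_mem _)]; exact zero_mem _
      | succ m ih =>
        intro n hn y hy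
        rcases Nat.eq_zero_or_pos n with rfl | hn0
        · have h1 : G P 0 y = (P.aug y : ℚ) • G P 0 1 := by
            rw [← G_zsmul _ (mem_filtration_zero _), zsmul_one]
            exact G_congr (mem_filtration_zero _) (sub_aug_mem_one P y)
          rw [h1, G_zero_one]
          refine Submodule.smul_mem _ _ ⟨1 ⊗ₜ[ℤ] 1, ?_⟩
          rw [hΦ, chClosed, map_one, Int.cast_one, Int.cast_one, sub_self, map_one,
            Finset.sum_eq_zero, add_zero]
          intro a _
          rw [show D a (0 : K) = 0 by simp [D, adamsOp_zero_right], G_eq_zero (zero_mem _), smul_zero]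
        · obtain ⟨l, rfl⟩ : ∃ l, n = l + 1 := ⟨n - 1, by omega⟩
          rcases lt_or_ge l d with hl | hl
          · have h := chClosed_of_mem hK d hy hl
            rw [← sub_eq_of_eq_add h]
            refine sub_mem ⟨1 ⊗ₜ[ℤ] y, hΦ y⟩ (sum_mem fun a ha => Submodule.smul_mem _ _ ?_)
            rw [Finset.mem_filter] at ha
            exact ih (a + 1) (by omega) _ (D_mem (aug_eq_zero hK (by omega) hy) a)
          · rw [hbot (l + 1) (by omega) y hy, G_eq_zero (zero_mem _)]; exact zero_mem _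
    intro w _
    induction w using TensorProduct.induction_on with
    | zero => exact zero_mem _
    | add a b ha hb => exact add_mem (ha Submodule.mem_top) (hb Submodule.mem_top)
    | tmul q z =>
      rw [show q ⊗ₜ[ℤ] z = q • ((1 : ℚ) ⊗ₜ[ℤ] z) by rw [TensorProduct.smul_tmul', smul_eq_mul, mul_one]]
      refine Submodule.smul_mem _ _ ?_
      have hz : z ∈ AddSubgroup.closure {z | ∃ (n : ℕ) (x : gammaFiltration P n), sym P n x = z} :=
        closure_sym_eq_top P ▸ AddSubgroup.mem_top z
      refine AddSubgroup.closure_induction (p := fun z _ => (1 : ℚ) ⊗ₜ[ℤ] z ∈ LinearMap.range Φ) ?_ ?_ ?_ ?_ hz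
      · rintro _ ⟨n, x, rfl⟩
        rw [← grK_eq P x.2]
        exact hG (d + 1) n (by omega) x.1 x.2
      · rw [TensorProduct.tmul_zero]; exact zero_mem _
      · intro a b _ _ ha hb; rw [TensorProduct.tmul_add]; exact add_mem ha hb
      · intro a _ ha; rw [TensorProduct.tmul_neg]; exact neg_mem ha

end Groth.Agent.Lambda
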