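import Groth.Agent.Lib.Lambda.Inv
import Groth.Prelude.Def_KRR
import Mathlib.RingTheory.AdjoinRoot
import Mathlib.Algebra.BigOperators.Intervals
import Mathlib.Data.Nat.Choose.Sum
import Mathlib.RingTheory.PowerSeries.WellKnown

/-!
Algebraic lemmas on λ-rings used for K-groups: congruences, Bott classes, σ-operations,
elementary extensions.
-/

universe u

open Finset

namespace Groth.Agent.Lambda

open LambdaRing (LambdaOps gamma adamsOp PosStructure HasSplitting gammaFiltration IsExtension)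

variable {K : Type u} [CommRing K] [LambdaOps K] {P : PosStructure K}

theorem mem_rat_of_adams_congr (hK : HasSplitting K P) (j : ℕ) (hj : 2 ≤ j) (n : ℕ) (x : K)
    (hx : ∃ N : ℕ, 1 ≤ N ∧ (N : K) * (LambdaRing.adams P j x - (j : K) ^ n * x) ∈
      gammaFiltration P (n + 1)) :
    ∃ N : ℕ, 1 ≤ N ∧ (N : K) * x ∈ gammaFiltration P n := by
  obtain ⟨N0, hN0, h0⟩ := hx
  suffices h : ∀ m, m ≤ n → ∃ N : ℕ, 1 ≤ N ∧ (N : K) * x ∈ gammaFiltration P m from h n le_rfl
  intro m hm
  induction m with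
  | zero => exact ⟨1, le_rfl, by simp [gammaFiltration_zero]⟩
  | succ m ih =>
    obtain ⟨N, hN, h⟩ := ih (by omega)
    have h1 := adams_sub_mem hK j (by omega) m _ h
    have h2 := gammaFiltration_anti P (show m + 1 ≤ n + 1 by omega) h0
    have hN' : LambdaRing.adams P j ((N : K) * x) = (N : K) * LambdaRing.adams P j x := by
      simp only [adams_eq_adamsOp P (show 1 ≤ j by omega), ← nsmul_eq_mul]
      exact map_nsmul (adamsHom (K := K) j) N x
    have hlt : j ^ m < j ^ n := Nat.pow_lt_pow_right (by omega) (by omega)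
    refine ⟨N0 * N * (j ^ n - j ^ m), Nat.mul_pos (Nat.mul_pos hN0 hN) (by omega), ?_⟩
    rw [hN'] at h1
    rw [show ((N0 * N * (j ^ n - j ^ m) : ℕ) : K) * x =
        (N0 : K) * ((N : K) * LambdaRing.adams P j x - (j : K) ^ m * ((N : K) * x)) -
          (N : K) * ((N0 : K) * (LambdaRing.adams P j x - (j : K) ^ n * x)) by
      push_cast [Nat.cast_sub hlt.le]; ring]
    exact sub_mem (mul_left_mem_gammaFiltration P _ _ _ h1) (mul_left_mem_gammaFiltration P _ _ _ h2)

lemma gamma_line_sub_line (P : PosStructure K) {y z : K} (hy : P.IsLine y) (hz : P.IsLine z)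
    (k : ℕ) : gamma (k + 1) (y - z) = (y - z) * (1 - z) ^ k := by
  have h1 := pos_lam_one P
  have h : gammaSeries (y - z) * (1 + PowerSeries.C (z - 1) * PowerSeries.X) =
      1 + PowerSeries.C (y - 1) * PowerSeries.X := by
    rw [← gammaSeries_line_sub_one h1 (line_lam P hz), ← gammaSeries_add,
      show y - z + (z - 1) = y - 1 by ring, gammaSeries_line_sub_one h1 (line_lam P hy)]
  have hc := fun k => congrArg (PowerSeries.coeff (k + 1)) h
  simp only [mul_add, mul_one, map_add, ← mul_assoc, PowerSeries.coeff_succ_mul_X,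
    PowerSeries.coeff_mul_C, coeff_gammaSeries, PowerSeries.coeff_one,
    Nat.add_one_ne_zero, if_false, zero_add, PowerSeries.coeff_C] at hc
  induction k with
  | zero => simpa [gamma_one] using (show y - z = y - z from rfl)
  | succ k ih =>
    have := hc (k + 1)
    rw [if_neg (by omega)] at this
    rw [ih] at this
    linear_combination this

lemma isUnit_line {u : K} (hu : P.IsLine u) : IsUnit u := by
  have h := P.isUnit_lam u hu.1
  rwa [hu.2, Int.toNat_one, LambdaOps.lam_one] at h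

lemma IsLine.pow' {u : K} (hu : P.IsLine u) : ∀ n, P.IsLine (u ^ n)
  | 0 => by simpa using isLine_one P
  | n + 1 => by rw [pow_succ]; exact IsLine.mul' (IsLine.pow' hu n) hu

theorem isNilpotent_line_sub_one (u : K) (hu : KRR.IsAmpleElt P u) (w : K) (hw : P.IsLine w) :
    IsNilpotent (w - 1) := by
  obtain ⟨hu, hx⟩ := hu
  obtain ⟨n₁, hn₁⟩ := hx (1 - w)
  obtain ⟨n₂, hn₂⟩ := hx (w - 1)
  set n := max n₁ n₂
  have hun := IsLine.pow' hu n
  have key : ∀ y z : K, P.IsLine y → P.IsLine z → (∃ (e : K) (m : ℕ), e ∈ P.pos ∧ y - z = e - m) →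
      ∃ m : ℕ, (y - z) * (1 - z) ^ m = 0 := by
    rintro y z hy hz ⟨e, m, he, heq⟩
    refine ⟨m, ?_⟩
    rw [← gamma_line_sub_line P hy hz, heq]
    refine (gamma_sub_rank (pos_lam_one P) m e fun k hk => P.lam_eq_zero e he k ?_).1 (m + 1) (by omega)
    have := congrArg P.aug heq
    rw [map_sub, map_sub, hy.2, hz.2, map_natCast] at this
    omega
  have hunw := IsLine.mul' hun hw
  obtain ⟨m₁, hm₁⟩ := key _ _ hun hunw (by
    obtain ⟨e, m, he, h⟩ := hn₁ n (le_max_left _ _)
    exact ⟨e, m, he, by rw [← h]; ring⟩)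
  obtain ⟨m₂, hm₂⟩ := key _ _ hunw hun (by
    obtain ⟨e, m, he, h⟩ := hn₂ n (le_max_right _ _)
    exact ⟨e, m, he, by rw [← h]; ring⟩)
  let I : Ideal K := LinearMap.ker (LinearMap.mulLeft K (u ^ n * (1 - w)))
  have hmem : ∀ a, a ∈ I ↔ u ^ n * (1 - w) * a = 0 := fun a => Iff.rfl
  have ha : 1 - u ^ n * w ∈ I.radical := ⟨m₁, (hmem _).2 (by linear_combination hm₁)⟩
  have hb : 1 - u ^ n ∈ I.radical := ⟨m₂, (hmem _).2 (by linear_combination -hm₂)⟩
  obtain ⟨k, hk⟩ := I.radical.sub_mem ha hb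
  rw [hmem, show 1 - u ^ n * w - (1 - u ^ n) = u ^ n * (1 - w) by ring, ← pow_succ', mul_pow,
    ← pow_mul, (isUnit_line (IsLine.pow' hu _)).mul_right_eq_zero] at hk
  refine ⟨k + 1, ?_⟩
  rw [show w - 1 = -(1 - w) by ring, neg_pow, hk, mul_zero]

lemma exists_lines (hK : HasSplitting K P) (e : K) (he : e ∈ P.pos) :
    ∃ (L : LambdaRing.PosLambdaRing.{u}) (f : K →+* L.carrier)
      (u : Fin (P.aug e).toNat → L.carrier),
      IsExtension P L.posStr f ∧ (∀ a, L.posStr.IsLine (u a)) ∧ ∑ a, u a = f e := by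
  obtain ⟨L, f, hf, hs⟩ := split_many hK [e] (by simpa using he)
  obtain ⟨s, hs, hse⟩ := hs e (by simp)
  have hn : (P.aug e).toNat = s.toList.length := by
    rw [← hf.aug_comp, ← hse, map_multiset_sum, Multiset.map_congr rfl fun u hu => (hs u hu).2,
      Multiset.map_const', Multiset.sum_replicate, nsmul_eq_mul, mul_one, Int.toNat_natCast,
      Multiset.length_toList]
  refine ⟨L, f, fun a => s.toList.get (a.cast hn), hf,
    fun a => hs _ (Multiset.mem_toList.1 (List.get_mem _ _)), ?_⟩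
  refine (Fintype.sum_equiv (finCongr hn) _ s.toList.get fun a => rfl).trans ?_
  rw [← List.sum_ofFn, List.ofFn_get, Multiset.sum_toList, hse]

lemma aeval_esymm_bottPoly (j m : ℕ) :
    MvPolynomial.aeval (fun i : Fin m => MvPolynomial.esymm (Fin m) ℤ (i.1 + 1))
      (KRR.bottPoly j m) = KRR.bottSym j m := by
  rw [← MvPolynomial.esymmAlgHom_apply]
  exact congrArg Subtype.val
    ((MvPolynomial.esymmAlgEquiv (Fin m) ℤ (Fintype.card_fin m)).apply_symm_apply
      ⟨KRR.bottSym j m, KRR.bottSym_isSymmetric j m⟩)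

theorem adams_lamAlt_eq_mul_bott (hK : HasSplitting K P) (e : K) (he : e ∈ P.pos) (j : ℕ)
    (hj : 1 ≤ j) :
    LambdaRing.adams P j (KRR.lamAlt P e) = KRR.lamAlt P e * KRR.bott P j e := by
  obtain ⟨L, f, u, hf, hu, hsum⟩ := exists_lines hK e he
  apply hf.injective
  have hl : f (KRR.lamAlt P e) = ∏ a, (1 - u a) := by
    rw [← lamAlt_lines L.posStr u hu, KRR.lamAlt]
    simp [hsum, hf.isLambdaHom _ _]
  have hb : f (KRR.bott P j e) = ∏ a, ∑ k ∈ range j, u a ^ k := by
    rw [KRR.bott, aeval_int_comm]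
    let φ : MvPolynomial (Fin (P.aug e).toNat) ℤ →+* L.carrier :=
      MvPolynomial.eval₂Hom (Int.castRingHom _) u
    have h := congrArg φ (aeval_esymm_bottPoly j (P.aug e).toNat)
    rw [aeval_int_comm] at h
    refine (aeval_int_congr (fun i => ?_) _).trans (h.trans ?_)
    · rw [hf.isLambdaHom, ← hsum, lam_sum_lines L.posStr u hu, MvPolynomial.esymm]
      simp [φ]
    · simp [φ, KRR.bottSym]
  have hψ : adamsOp j (∏ a, (1 - u a)) = ∏ a, (1 - u a ^ j) := by
    have hline : ∀ t : Finset (Fin (P.aug e).toNat), L.posStr.IsLine (∏ a ∈ t, u a) := by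
      classical
      intro t
      induction t using Finset.induction with
      | empty => simpa using isLine_one L.posStr
      | insert a t ha ih => rw [prod_insert ha]; exact IsLine.mul' (hu a) ih
    simp only [sub_eq_add_neg, prod_one_add, prod_neg, adamsOp_sum]
    refine sum_congr rfl fun t _ => ?_
    rw [show (-1 : L.carrier) ^ t.card * ∏ a ∈ t, u a = ((-1 : ℤ) ^ t.card) • ∏ a ∈ t, u a by simp]
    show adamsHom j (((-1 : ℤ) ^ t.card) • ∏ a ∈ t, u a) = _
    rw [map_zsmul]
    show ((-1 : ℤ) ^ t.card) • adamsOp j (∏ a ∈ t, u a) = _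
    rw [adamsOp_of_line (line_lam L.posStr (hline t)) j hj, ← prod_pow]
    simp
  rw [map_mul, hl, hb, adams_eq_adamsOp P hj, adamsOp_map f hf.isLambdaHom,
    hl, hψ, ← prod_mul_distrib]
  exact prod_congr rfl fun a _ => by rw [mul_comm, geom_sum_mul_neg]

end Groth.Agent.Lambda
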