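import Groth.Agent.Lib.Lambda.KRRAlg
import Mathlib.Algebra.Group.TypeTags.Hom
import Mathlib.Data.Nat.Choose.Sum

/-!
The determinant of a λ-ring with positive structure and the first graded piece of the γ-filtration.
-/

universe u

open Finset MvPolynomial

namespace Groth.Agent.Lambda

open LambdaRing (LambdaOps gamma PosStructure HasSplitting gammaFiltration IsExtension)

variable {K : Type u} [CommRing K] [LambdaOps K]

lemma lam_top_add (P : PosStructure K) {e f : K} (he : e ∈ P.pos) (hf : f ∈ P.pos) :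
    LambdaOps.lam (P.aug (e + f)).toNat (e + f) =
      LambdaOps.lam (P.aug e).toNat e * LambdaOps.lam (P.aug f).toNat f := by
  have h1 := P.aug_pos e he
  have h2 := P.aug_pos f hf
  rw [show (P.aug (e + f)).toNat = (P.aug e).toNat + (P.aug f).toNat by rw [map_add]; omega,
    LambdaOps.lam_add, sum_eq_single (P.aug e).toNat]
  · rw [Nat.add_sub_cancel_left]
  · intro i hi hne
    rw [mem_range] at hi
    rcases Nat.lt_or_gt_of_ne hne with h | h
    · rw [lam_pos_eq_zero P hf _ (by omega), mul_zero]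
    · rw [lam_pos_eq_zero P he i h, zero_mul]
  · intro h; simp at h

theorem exists_det (P : PosStructure K) : ∃ D : K →+ Additive Kˣ,
    ∀ e ∈ P.pos, ((Additive.toMul (D e) : Kˣ) : K) = LambdaOps.lam (P.aug e).toNat e := by
  choose p q hp hq hpq using P.exists_sub
  let d : ∀ e ∈ P.pos, Additive Kˣ := fun e he => Additive.ofMul (P.isUnit_lam e he).unit
  have hadd : ∀ e f (he : e ∈ P.pos) (hf : f ∈ P.pos),
      d (e + f) (P.add_mem e f he hf) = d e he + d f hf := fun e f he hf => by
    apply Additive.toMul.injective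
    exact Units.ext (lam_top_add P he hf)
  have hcongr : ∀ e f (he : e ∈ P.pos) (hf : f ∈ P.pos), e = f → d e he = d f hf := by
    rintro e _ he hf rfl; rfl
  refine ⟨AddMonoidHom.mk' (fun x => d (p x) (hp x) - d (q x) (hq x)) fun x y => ?_, fun e he => ?_⟩
  · have h := hcongr (p (x + y) + (q x + q y)) (p x + p y + q (x + y))
      (P.add_mem _ _ (hp _) (P.add_mem _ _ (hq _) (hq _)))
      (P.add_mem _ _ (P.add_mem _ _ (hp _) (hp _)) (hq _))
      (by linear_combination hpq x + hpq y - hpq (x + y))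
    rw [hadd _ _ (hp _) (P.add_mem _ _ (hq _) (hq _)), hadd _ _ (hq _) (hq _),
      hadd _ _ (P.add_mem _ _ (hp _) (hp _)) (hq _), hadd _ _ (hp _) (hp _)] at h
    rw [sub_add_sub_comm, sub_eq_sub_iff_add_eq_add]
    exact h
  · have h := hcongr (p e) (e + q e) (hp e) (P.add_mem _ _ he (hq e)) (by linear_combination -hpq e)
    rw [hadd e _ he (hq e)] at h
    show ((Additive.toMul (d (p e) (hp e) - d (q e) (hq e)) : Kˣ) : K) = _
    rw [h, add_sub_cancel_right]
    rfl

lemma det_of_isLine {P : PosStructure K} {D : K →+ Additive Kˣ}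
    (hD : ∀ e ∈ P.pos, ((Additive.toMul (D e) : Kˣ) : K) = LambdaOps.lam (P.aug e).toNat e)
    {u : K} (hu : P.IsLine u) : ((Additive.toMul (D u) : Kˣ) : K) = u := by
  rw [hD u hu.1, hu.2, Int.toNat_one, LambdaOps.lam_one]

lemma det_extension {P : PosStructure K} {L : Type u} [CommRing L] [LambdaOps L]
    {PL : PosStructure L} {f : K →+* L} (hf : IsExtension P PL f) {D : K →+ Additive Kˣ}
    (hD : ∀ e ∈ P.pos, ((Additive.toMul (D e) : Kˣ) : K) = LambdaOps.lam (P.aug e).toNat e)
    {DL : L →+ Additive Lˣ}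
    (hDL : ∀ e ∈ PL.pos, ((Additive.toMul (DL e) : Lˣ) : L) = LambdaOps.lam (PL.aug e).toNat e)
    (x : K) : DL (f x) = MonoidHom.toAdditive (Units.map (f : K →* L)) (D x) := by
  obtain ⟨e, e', he, he', rfl⟩ := P.exists_sub x
  have h : ∀ e ∈ P.pos, DL (f e) = MonoidHom.toAdditive (Units.map (f : K →* L)) (D e) := by
    intro e he
    apply Additive.toMul.injective
    refine Units.ext ?_
    rw [hDL _ (hf.pos_subset e he), hf.aug_comp, ← hf.isLambdaHom, ← hD e he]
    rfl
  rw [map_sub, map_sub, h e he, h e' he', map_sub, map_sub]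

section Lines

variable {σ : Type u} (θ : MvPolynomial σ ℤ →+* K) (P : PosStructure K)
  (hθ : ∀ d, P.IsLine (θ (monomial d 1))) {D : K →+ Additive Kˣ}
  (hD : ∀ e ∈ P.pos, ((Additive.toMul (D e) : Kˣ) : K) = LambdaOps.lam (P.aug e).toNat e)

omit hθ in
lemma theta_monomial (d : σ →₀ ℕ) (c : ℤ) : θ (monomial d c) = c • θ (monomial d 1) := by
  rw [show monomial d c = c • monomial d (1 : ℤ) by simp [smul_monomial], map_zsmul]

include hθ hD in
lemma det_theta_mul (z w : MvPolynomial σ ℤ) :
    D (θ (z * w)) = P.aug (θ w) • D (θ z) + P.aug (θ z) • D (θ w) := by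
  induction z using MvPolynomial.induction_on' with
  | monomial d c =>
    induction w using MvPolynomial.induction_on' with
    | monomial d' c' =>
      have hm : D (θ (monomial (d + d') 1)) = D (θ (monomial d 1)) + D (θ (monomial d' 1)) := by
        apply Additive.toMul.injective
        refine Units.ext ?_
        rw [toMul_add, Units.val_mul, det_of_isLine hD (hθ _), det_of_isLine hD (hθ _),
          det_of_isLine hD (hθ _), ← map_mul, monomial_mul, mul_one]
      rw [monomial_mul, theta_monomial θ (d + d') (c * c')]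
      simp only [theta_monomial θ d c,
        theta_monomial θ d' c', map_zsmul, hm, (hθ _).2, zsmul_add, smul_smul, mul_one,
        smul_eq_mul, mul_comm c c']
    | add a b ha hb => simp only [mul_add, map_add, ha, hb]; simp only [add_zsmul, zsmul_add]; abel
  | add a b ha hb => simp only [add_mul, map_add, ha, hb]; simp only [add_zsmul, zsmul_add]; abel

include hθ in
lemma gamma_mem_pow (z : MvPolynomial σ ℤ) (hz : P.aug (θ z) = 0) (k : ℕ) :
    ∃ w ∈ (RingHom.ker (P.aug.comp θ)) ^ k, θ w = gamma k (θ z) := by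
  let Q : MvPolynomial σ ℤ → Prop := fun z => ∀ k, ∃ w ∈ (RingHom.ker (P.aug.comp θ)) ^ k, θ w = gamma k (θ z)
  have hadd : ∀ a b, Q a → Q b → Q (a + b) := by
    intro a b ha hb k
    choose wa hwa hwa' using ha
    choose wb hwb hwb' using hb
    refine ⟨∑ i ∈ range (k + 1), wa i * wb (k - i), Ideal.sum_mem _ fun i hi => ?_, ?_⟩
    · rw [mem_range] at hi
      have := Ideal.mul_mem_mul (hwa i) (hwb (k - i))
      rwa [← pow_add, show i + (k - i) = k by omega] at this
    · simp only [map_sum, map_mul, hwa', hwb', map_add, gamma_add]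
  have hzero : Q 0 := fun k => by
    rcases eq_or_ne k 0 with rfl | hk
    · exact ⟨1, by simp, by simp [gamma_zero]⟩
    · exact ⟨0, zero_mem _, by simp [gamma_zero_right, hk]⟩
  have hmem : ∀ d, monomial d (1 : ℤ) - 1 ∈ RingHom.ker (P.aug.comp θ) := fun d => by
    simp [RingHom.mem_ker, (hθ d).2]
  have hgen : ∀ d, Q (monomial d 1 - 1) ∧ Q (-(monomial d 1 - 1)) := by
    intro d
    constructor
    · intro k
      rcases k with _ | k
      · exact ⟨1, by simp, by simp [gamma_zero]⟩
      rw [map_sub, map_one θ, gamma_line_sub_line P (hθ d) (isLine_one P), sub_self]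
      rcases k with _ | k
      · exact ⟨monomial d 1 - 1, by rw [zero_add, pow_one]; exact hmem d, by simp⟩
      · exact ⟨0, zero_mem _, by simp⟩
    · intro k
      rcases k with _ | k
      · exact ⟨1, by simp, by simp [gamma_zero]⟩
      refine ⟨(1 - monomial d 1) ^ (k + 1), Ideal.pow_mem_pow ?_ _, ?_⟩
      · rw [← neg_sub]; exact neg_mem (hmem d)
      · rw [map_neg, map_sub, map_one θ, neg_sub, gamma_line_sub_line P (isLine_one P) (hθ d), map_pow,
          map_sub, map_one θ, pow_succ']
  suffices h : ∀ z, Q (z - C (P.aug (θ z))) by simpa [Q, hz] using h z k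
  intro z
  induction z using MvPolynomial.induction_on' with
  | monomial d c =>
    rw [theta_monomial θ d c, map_zsmul, (hθ d).2, smul_eq_mul, mul_one,
      show monomial d c - C c = c • (monomial d (1 : ℤ) - 1) by
        rw [smul_sub, smul_monomial, smul_eq_mul, mul_one, smul_eq_C_mul, mul_one]]
    induction c using Int.induction_on with
    | zero => simpa using hzero
    | succ i ih => rw [add_smul, one_smul]; exact hadd _ _ ih (hgen d).1
    | pred i ih =>
      rw [sub_eq_add_neg, add_smul, neg_one_smul]; exact hadd _ _ ih (hgen d).2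
  | add a b ha hb =>
    rw [map_add, map_add, map_add, add_sub_add_comm]
    exact hadd _ _ ha hb

end Lines

variable {P : PosStructure K}

lemma det_mul (hK : HasSplitting K P) {D : K →+ Additive Kˣ}
    (hD : ∀ e ∈ P.pos, ((Additive.toMul (D e) : Kˣ) : K) = LambdaOps.lam (P.aug e).toNat e)
    (x y : K) : D (x * y) = P.aug y • D x + P.aug x • D y := by
  obtain ⟨L, f, σ, θ, hf, hθ, hx⟩ := exists_lines_rep hK [x, y]
  obtain ⟨z, hz⟩ := hx x (by simp)
  obtain ⟨w, hw⟩ := hx y (by simp)
  obtain ⟨DL, hDL⟩ := exists_det L.posStr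
  have hinj : Function.Injective (MonoidHom.toAdditive (Units.map (f : K →* L.carrier))) :=
    Units.map_injective hf.injective
  apply hinj
  rw [map_add, map_zsmul, map_zsmul, ← det_extension hf hD hDL, ← det_extension hf hD hDL,
    ← det_extension hf hD hDL, map_mul, ← hz, ← hw, ← map_mul, det_theta_mul θ L.posStr hθ hDL,
    hz, hw, hf.aug_comp, hf.aug_comp]

lemma det_gamma (hK : HasSplitting K P) {D : K →+ Additive Kˣ}
    (hD : ∀ e ∈ P.pos, ((Additive.toMul (D e) : Kˣ) : K) = LambdaOps.lam (P.aug e).toNat e)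
    (x : K) (hx : P.aug x = 0) (k : ℕ) :
    (1 ≤ k → P.aug (gamma k x) = 0) ∧ (2 ≤ k → D (gamma k x) = 0) := by
  obtain ⟨L, f, σ, θ, hf, hθ, hx'⟩ := exists_lines_rep hK [x]
  obtain ⟨z, hz⟩ := hx' x (by simp)
  obtain ⟨DL, hDL⟩ := exists_det L.posStr
  obtain ⟨w, hw, hw'⟩ := gamma_mem_pow θ L.posStr hθ z (by rw [hz, hf.aug_comp, hx]) k
  rw [hz, ← gamma_map f hf.isLambdaHom] at hw'
  refine ⟨fun hk => ?_, fun hk => ?_⟩
  · have := Ideal.pow_le_self (by omega) hw
    rwa [RingHom.mem_ker, RingHom.comp_apply, hw', hf.aug_comp] at this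
  · have hinj : Function.Injective (MonoidHom.toAdditive (Units.map (f : K →* L.carrier))) :=
      Units.map_injective hf.injective
    apply hinj
    rw [← det_extension hf hD hDL, map_zero, ← hw']
    have h2 := Ideal.pow_le_pow_right hk hw
    rw [pow_two] at h2
    refine Submodule.mul_induction_on h2 (fun a ha b hb => ?_) fun a b ha hb => by
      rw [map_add, map_add, ha, hb, add_zero]
    rw [RingHom.mem_ker, RingHom.comp_apply] at ha hb
    rw [det_theta_mul θ L.posStr hθ hDL, ha, hb, zero_smul, zero_smul, add_zero]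

lemma det_list (hK : HasSplitting K P) {D : K →+ Additive Kˣ}
    (hD : ∀ e ∈ P.pos, ((Additive.toMul (D e) : Kˣ) : K) = LambdaOps.lam (P.aug e).toNat e) :
    ∀ l : List (ℕ × K), (∀ p ∈ l, P.aug p.2 = 0) →
      (1 ≤ (l.map Prod.fst).sum → P.aug (l.map fun p => gamma p.1 p.2).prod = 0) ∧
      (2 ≤ (l.map Prod.fst).sum → D (l.map fun p => gamma p.1 p.2).prod = 0)
  | [], _ => by simp
  | p :: l, hl => by
    obtain ⟨h1, h2⟩ := det_list hK hD l fun q hq => hl q (List.mem_cons_of_mem p hq)
    obtain ⟨g1, g2⟩ := det_gamma hK hD p.2 (hl p (List.mem_cons_self ..)) p.1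
    simp only [List.map_cons, List.sum_cons, List.prod_cons]
    rcases Nat.eq_zero_or_pos p.1 with h | h
    · rw [h, zero_add, gamma_zero, one_mul]; exact ⟨h1, h2⟩
    refine ⟨fun _ => by rw [map_mul, g1 h, zero_mul], fun hs => ?_⟩
    rw [det_mul hK hD, g1 h, zero_smul, add_zero]
    rcases Nat.lt_or_ge p.1 2 with h' | h'
    · rw [h1 (by omega), zero_smul]
    · rw [g2 h', smul_zero]

lemma det_eq_zero_of_mem (hK : HasSplitting K P) {D : K →+ Additive Kˣ}
    (hD : ∀ e ∈ P.pos, ((Additive.toMul (D e) : Kˣ) : K) = LambdaOps.lam (P.aug e).toNat e)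
    {x : K} (hx : x ∈ gammaFiltration P 2) : D x = 0 := by
  rw [gammaFiltration_eq P 2 two_ne_zero] at hx
  refine AddSubgroup.closure_induction (p := fun x _ => D x = 0) ?_ (map_zero D) ?_ ?_ hx
  · rintro _ ⟨l, hl, hs, rfl⟩; exact (det_list hK hD l hl).2 hs
  · intro a b _ _ ha hb; rw [map_add, ha, hb, add_zero]
  · intro a _ ha; rw [map_neg, ha, neg_zero]

lemma aug_eq_zero_of_mem (hK : HasSplitting K P) {x : K} (hx : x ∈ gammaFiltration P 1) :
    P.aug x = 0 := by
  obtain ⟨D, hD⟩ := exists_det P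
  rw [gammaFiltration_eq P 1 one_ne_zero] at hx
  refine AddSubgroup.closure_induction (p := fun x _ => P.aug x = 0) ?_ (map_zero _) ?_ ?_ hx
  · rintro _ ⟨l, hl, hs, rfl⟩; exact (det_list hK hD l hl).1 hs
  · intro a b _ _ ha hb; rw [map_add, ha, hb, add_zero]
  · intro a _ ha; rw [map_neg, ha, neg_zero]

theorem line_eq_of_sub_mem (hK : HasSplitting K P) {u v : K} (hu : P.IsLine u) (hv : P.IsLine v)
    (h : u - v ∈ gammaFiltration P 2) : u = v := by
  obtain ⟨D, hD⟩ := exists_det P
  have := det_eq_zero_of_mem hK hD h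
  rw [map_sub, sub_eq_zero] at this
  rw [← det_of_isLine hD hu, ← det_of_isLine hD hv, this]

lemma lam_top_sub_one_sub_mem (e : K) (he : e ∈ P.pos) :
    LambdaOps.lam (P.aug e).toNat e - 1 - (e - ((P.aug e).toNat : K)) ∈ gammaFiltration P 2 := by
  set r := (P.aug e).toNat with hr
  have hr1 : 1 ≤ r := by have := P.aug_pos e he; omega
  have hs : ∑ l ∈ range (r + 1), gamma l (e - (r : K)) = LambdaOps.lam r e := by
    simp only [hr, gamma_pos_sub_nat P he]
    rw [← hr, sum_comm, sum_range_succ, sum_eq_zero (s := range r), zero_add,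
      sum_eq_single r]
    · simp
    · intro l hl hne; rw [mem_range] at hl; rw [if_neg (by omega)]
    · intro h; simp at h
    intro i hi
    rw [mem_range] at hi
    rw [← sum_filter, ← mul_sum]
    have h : (range (r + 1)).filter (fun l => i ≤ l) = (range (r - i + 1)).map (addLeftEmbedding i) := by
      ext l
      simp only [mem_filter, mem_range, mem_map, addLeftEmbedding_apply]
      exact ⟨fun h => ⟨l - i, by omega, by omega⟩, fun ⟨a, ha, hal⟩ => by omega⟩
    rw [h, sum_map]
    simp only [addLeftEmbedding_apply, Nat.add_sub_cancel_left]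
    have := congrArg (Int.cast : ℤ → K) (Int.alternating_sum_range_choose (n := r - i))
    push_cast at this
    rw [this, if_neg (by omega)]
    simp
  rw [← hs, show r + 1 = (r - 1) + 1 + 1 by omega, sum_range_succ', sum_range_succ']
  simp only [gamma_zero, zero_add, gamma_one, add_sub_cancel_right]
  refine sum_mem fun i _ => gammaFiltration_anti P (show 2 ≤ i + 1 + 1 by omega) ?_
  refine (gammaFiltration_eq_gammaFil P _ _).2 (goodElt_gammaFilt P.aug ?_ _)
  rw [map_sub, map_natCast, hr, Int.toNat_of_nonneg (P.aug_pos e he).le, sub_self]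

theorem exists_line_congr (hK : HasSplitting K P)
    (hLinv : ∀ w : K, P.IsLine w → ∃ w' : K, P.IsLine w' ∧ w * w' = 1)
    (hdet : ∀ e : K, e ∈ P.pos → LambdaOps.lam (P.aug e).toNat e ∈ P.pos)
    (x : K) (hx : x ∈ gammaFiltration P 1) :
    ∃ u : K, P.IsLine u ∧ x - (u - 1) ∈ gammaFiltration P 2 := by
  obtain ⟨e, e', he, he', rfl⟩ := P.exists_sub x
  have haug : P.aug e = P.aug e' := by
    have := aug_eq_zero_of_mem hK hx; rwa [map_sub, sub_eq_zero] at this
  have hline : ∀ e ∈ P.pos, P.IsLine (LambdaOps.lam (P.aug e).toNat e) := fun e he =>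
    ⟨hdet e he, by rw [aug_lam_pos hK e he]; simp⟩
  obtain ⟨w, hw, hww⟩ := hLinv _ (hline e' he')
  set a := LambdaOps.lam (P.aug e).toNat e
  set b := LambdaOps.lam (P.aug e').toNat e'
  refine ⟨a * w, IsLine.mul' (hline e he) hw, ?_⟩
  have h1 := lam_top_sub_one_sub_mem e he
  have h2 := lam_top_sub_one_sub_mem e' he'
  have hc : (((P.aug e').toNat : ℕ) : K) = ((P.aug e).toNat : K) := by rw [haug]
  rw [hc] at h2
  have hm : ∀ a, P.IsLine a → a - 1 ∈ gammaFiltration P 1 := fun a ha => by
    simpa [ha.2] using sub_aug_mem_one P a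
  rw [show e - e' - (a * w - 1) = -(a - 1 - (e - ((P.aug e).toNat : K))) +
      (b - 1 - (e' - ((P.aug e).toNat : K))) + ((b - 1) * (w - 1) - (a - 1) * (w - 1)) by
    linear_combination -hww]
  exact add_mem (add_mem (neg_mem h1) h2) (sub_mem
    (mul_mem_gammaFiltration P 1 1 _ _ (hm _ (hline e' he')) (hm _ hw))
    (mul_mem_gammaFiltration P 1 1 _ _ (hm _ (hline e he)) (hm _ hw)))

end Groth.Agent.Lambda
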