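import Groth.Agent.Lib.Lambda.Key

/-!
Consequences for the γ-filtration of an augmented λ-algebra.
-/

universe u v

open Finset

namespace Groth.Agent.Lambda

open LambdaRing (LambdaOps adamsOp gamma IsSpecial IsBinomial IsLambdaAlg IsAugLambdaAlg gammaFil)
open MvPolynomial

section Exprs

variable {q : ℕ}

lemma ModelDvd.mono {f : GPoly q} {m M : ℕ} (h : ModelDvd.{v} f M) (hm : m ≤ M) :
    ModelDvd.{v} f m :=
  fun r => (pow_dvd_pow _ hm).trans (h r)

lemma ModelDvd.mul {f g : GPoly q} {m M : ℕ} (h : ModelDvd.{v} f m) (h' : ModelDvd.{v} g M) :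
    ModelDvd.{v} (f * g) (m + M) := fun r => by
  rw [map_mul, pow_add]; exact mul_dvd_mul (h r) (h' r)

lemma modelDvd_zero (f : GPoly q) : ModelDvd.{v} f 0 := fun r => by simp

lemma modelDvd_prod {ι : Type*} (s : Finset ι) (f : ι → GPoly q) (m : ι → ℕ)
    (h : ∀ i ∈ s, ModelDvd.{v} (f i) (m i)) : ModelDvd.{v} (∏ i ∈ s, f i) (∑ i ∈ s, m i) := by
  classical
  induction s using Finset.induction with
  | empty => simpa using modelDvd_zero.{v} (1 : GPoly q)
  | insert a s ha ih =>
    rw [Finset.prod_insert ha, Finset.sum_insert ha]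
    exact (h a (Finset.mem_insert_self a s)).mul (ih fun i hi => h i (Finset.mem_insert_of_mem hi))

/-- The expression of γ^n of the generator `s`. -/
noncomputable def genPow (s : Fin q) (n : ℕ) : GPoly q := if n = 0 then 1 else X (s, n - 1)

lemma modelDvd_genPow (s : Fin q) (n : ℕ) : ModelDvd.{v} (genPow s n) n := by
  unfold genPow
  split_ifs with h
  · subst h; exact modelDvd_zero _
  · exact modelDvd_monomial _ _ _ (by rw [wt_single]; simp; omega)

variable {A : Type v} [CommRing A] [LambdaOps A]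

lemma ev_genPow (b : A) (x : Fin q → A) (s : Fin q) (n : ℕ) :
    ev b x (genPow s n) = gamma n (x s) := by
  unfold genPow
  split_ifs with h
  · simp [h, gamma_zero]
  · simp [Nat.sub_add_cancel (Nat.pos_of_ne_zero h)]

lemma list_prod_eq (l : List (ℕ × A)) :
    (l.map fun p => gamma p.1 p.2).prod = ∏ i : Fin l.length, gamma (l.get i).1 (l.get i).2 := by
  rw [← List.prod_ofFn]
  congr 1
  refine List.ext_getElem (by simp) fun n h1 h2 => ?_
  simp

lemma list_sum_eq (l : List (ℕ × A)) : (l.map Prod.fst).sum = ∑ i : Fin l.length, (l.get i).1 := by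
  rw [← List.sum_ofFn]
  congr 1
  refine List.ext_getElem (by simp) fun n h1 h2 => ?_
  simp

end Exprs

section Basic

variable {A : Type v} [CommRing A] [LambdaOps A]

lemma gamma_add_succ (k : ℕ) (z w : A) :
    gamma (k + 1) (z + w) = gamma (k + 1) z + gamma (k + 1) w +
      ∑ i ∈ range k, gamma (i + 1) z * gamma (k - i) w := by
  rw [gamma_add, Finset.sum_range_succ, Finset.sum_range_succ', Nat.sub_self, gamma_zero,
    Nat.sub_zero, gamma_zero, mul_one, one_mul]
  rw [Finset.sum_congr rfl (g := fun i => gamma (i + 1) z * gamma (k - i) w) fun i _ => by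
    rw [Nat.add_sub_add_right]]
  ring

/-- The elements all whose γ^n lie in the n-th term. -/
def GoodElt (W : Filt A) (z : A) : Prop := ∀ n, gamma n z ∈ W.F n

variable {W : Filt A}

lemma goodElt_zero : GoodElt W 0 := fun n => by
  rw [gamma_zero_right]
  split_ifs with h
  · simp [h, W.top]
  · exact zero_mem _

lemma GoodElt.add {z w : A} (hz : GoodElt W z) (hw : GoodElt W w) : GoodElt W (z + w) := fun n => by
  rw [gamma_add]
  refine sum_mem fun i hi => ?_
  rw [mem_range] at hi
  have := W.mul (hz i) (hw (n - i))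
  rwa [show i + (n - i) = n by omega] at this

lemma GoodElt.neg {z : A} (hz : GoodElt W z) : GoodElt W (-z) := by
  intro n
  induction n using Nat.strong_induction_on with
  | _ n ih =>
    cases n with
    | zero => simp [W.top]
    | succ n =>
      have h := gamma_add (n + 1) (-z) z
      rw [neg_add_cancel, gamma_zero_right, if_neg (by omega), Finset.sum_range_succ, Nat.sub_self,
        gamma_zero, mul_one] at h
      rw [eq_neg_of_add_eq_zero_right h.symm]
      refine neg_mem (sum_mem fun i hi => ?_)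
      rw [mem_range] at hi
      have := W.mul (ih i hi) (hz (n + 1 - i))
      rwa [show i + (n + 1 - i) = n + 1 by omega] at this

lemma GoodElt.sum {ι : Type*} (s : Finset ι) {f : ι → A} (h : ∀ i ∈ s, GoodElt W (f i)) :
    GoodElt W (∑ i ∈ s, f i) := by
  classical
  induction s using Finset.induction with
  | empty => simpa using goodElt_zero
  | insert a s ha ih =>
    rw [Finset.sum_insert ha]
    exact (h a (Finset.mem_insert_self a s)).add (ih fun i hi => h i (Finset.mem_insert_of_mem hi))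

lemma GoodElt.gen {z : A} (h : GoodElt W z) (j : ℕ) : gamma (j + 1) z ∈ W.F (j + 1) := h (j + 1)

/-- The constant of the leading term of γ^m. -/
def leadConst (A : Type v) [CommRing A] (m : ℕ) : A := (-1) ^ (m - 1) * ((m - 1).factorial : A)

lemma gamma_expr_mem (hA : IsSpecial A) {q : ℕ} {f : GPoly q} {m : ℕ} (hf : ModelDvd.{v} f m)
    (hm : 1 ≤ m) {b : A} (hb : BinElt b) {x : Fin q → A} (hx : ∀ s, GoodElt W (x s)) :
    (∀ n, 1 ≤ n → gamma n (ev b x f) ∈ W.F (max n m)) ∧
      gamma m (ev b x f) - leadConst A m * ev b x f ∈ W.F (m + 1) := by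
  refine ⟨fun n hn => ?_, ?_⟩
  · obtain ⟨g, hg⟩ := exists_gamma_op.{v} f n
    rw [hg A hA b x]
    exact (hf.gamma_op hm hn hg).ev_mem W hb fun s => (hx s).gen
  · obtain ⟨g, hg⟩ := exists_gamma_op.{v} f m
    rw [hg A hA b x]
    have h := (hf.gamma_op_sub hm hg).ev_mem W hb fun s => (hx s).gen
    simpa [leadConst] using h

lemma gamma_killed_mem (hA : IsSpecial A) {q : ℕ} {f : GPoly q} {m : ℕ} (hf : ModelDvd.{v} f m)
    (hm : 1 ≤ m) (s₀ : Fin q) (k : ℕ) (hk : ∀ r : Fin q → ℕ, r s₀ = k → mev.{v} r f = 0)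
    {b : A} (hb : BinElt b) {x : Fin q → A} (hx : ∀ s, GoodElt W (x s))
    (hv : ∀ j, k + 1 < j → gamma j (x s₀) = 0) :
    (∀ n, 1 ≤ n → ∃ w ∈ W.F (max n m - (k + 1)),
        gamma n (ev b x f) = gamma (k + 1) (x s₀) * w) ∧
      ∃ w ∈ W.F (m + 1 - (k + 1)),
        gamma m (ev b x f) - leadConst A m * ev b x f = gamma (k + 1) (x s₀) * w := by
  have key : ∀ n, 1 ≤ n → ∀ g : GPoly q, (∀ (K : Type v) [CommRing K] [LambdaOps K], IsSpecial K →
      ∀ (b : K) (x : Fin q → K), gamma n (ev b x f) = ev b x g) →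
      ∀ r : Fin q → ℕ, r s₀ = k → mev.{v} r g = 0 := by
    intro n hn g hg r hr
    rw [← gamma_op_mev hg, hk r hr]
    let _ := modelOps (ModelRing.{v} r)
    rw [gamma_zero_right, if_neg (by omega)]
  refine ⟨fun n hn => ?_, ?_⟩
  · obtain ⟨g, hg⟩ := exists_gamma_op.{v} f n
    rw [hg A hA b x]
    exact killed_ev_mem W (hf.gamma_op hm hn hg) s₀ k (key n hn g hg) hb (fun s => (hx s).gen) hv
  · obtain ⟨g, hg⟩ := exists_gamma_op.{v} f m
    obtain ⟨w, hw, he⟩ := killed_ev_mem W (hf.gamma_op_sub hm hg) s₀ k (fun r hr => by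
      rw [map_sub, key m hm g hg r hr, map_mul, hk r hr, mul_zero, sub_zero]) hb
      (fun s => (hx s).gen) hv
    refine ⟨w, hw, ?_⟩
    rw [← he, map_sub, ← hg A hA b x]
    simp [leadConst]

lemma gamma_list_mem (hA : IsSpecial A) {b : A} (hb : BinElt b) (l : List (ℕ × A))
    (hl : ∀ p ∈ l, GoodElt W p.2) (m : ℕ) (hm : 1 ≤ m) (hs : m ≤ (l.map Prod.fst).sum) :
    (∀ n, 1 ≤ n → gamma n (b * (l.map fun p => gamma p.1 p.2).prod) ∈ W.F (max n m)) ∧
      gamma m (b * (l.map fun p => gamma p.1 p.2).prod) -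
        leadConst A m * (b * (l.map fun p => gamma p.1 p.2).prod) ∈ W.F (m + 1) := by
  let x : Fin l.length → A := fun s => (l.get s).2
  let f : GPoly l.length := C (X 0) * ∏ s, genPow s (l.get s).1
  have hev : ev b x f = b * (l.map fun p => gamma p.1 p.2).prod := by
    simp only [f, map_mul, map_prod, ev_C, evC_X, ev_genPow, list_prod_eq, x]
    simp [gamma_one]
  have hf : ModelDvd.{v} f m := by
    refine ModelDvd.mono ((modelDvd_zero _).mul
      (modelDvd_prod univ _ _ fun s _ => modelDvd_genPow s _)) ?_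
    rw [zero_add, ← list_sum_eq]
    exact hs
  rw [← hev]
  exact gamma_expr_mem hA hf hm hb fun s => hl _ (List.get_mem l s)

lemma gamma_list_killed_mem (hA : IsSpecial A) {b : A} (hb : BinElt b) (v : A) (hvg : GoodElt W v)
    (d : ℕ) (hd : 1 ≤ d) (hv : ∀ j, d < j → gamma j v = 0) (l : List (ℕ × A))
    (hl : ∀ p ∈ l, GoodElt W p.2) (m : ℕ) (hs : m ≤ (l.map Prod.fst).sum) :
    (∀ n, 1 ≤ n → ∃ w ∈ W.F (max (n - d) m),
        gamma n (b * (l.map fun p => gamma p.1 p.2).prod * gamma d v) = gamma d v * w) ∧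
      ∃ w ∈ W.F (m + 1),
        gamma (d + m) (b * (l.map fun p => gamma p.1 p.2).prod * gamma d v) -
          leadConst A (d + m) * (b * (l.map fun p => gamma p.1 p.2).prod * gamma d v) =
            gamma d v * w := by
  obtain ⟨k, rfl⟩ : ∃ k, d = k + 1 := ⟨d - 1, by omega⟩
  let x : Fin (l.length + 1) → A := Fin.cons v fun s => (l.get s).2
  let f : GPoly (l.length + 1) := C (X 0) * (∏ s : Fin l.length, genPow s.succ (l.get s).1) * X (0, k)
  have hev : ev b x f = b * (l.map fun p => gamma p.1 p.2).prod * gamma (k + 1) v := by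
    simp only [f, map_mul, map_prod, ev_C, evC_X, ev_genPow, list_prod_eq, x, Fin.cons_succ, ev_X]
    simp [gamma_one]
  have hf : ModelDvd.{v} f (k + 1 + m) := by
    refine ModelDvd.mono (((modelDvd_zero _).mul
      (modelDvd_prod univ _ _ fun s _ => modelDvd_genPow _ _)).mul
      (modelDvd_monomial _ _ (k + 1) (by simp [wt_single]))) ?_
    rw [zero_add, ← list_sum_eq]
    omega
  have hk : ∀ r : Fin (l.length + 1) → ℕ, r 0 = k → mev.{v} r f = 0 := by
    intro r hr
    rw [show f = C (X 0) * (∏ s : Fin l.length, genPow s.succ (l.get s).1) *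
      monomial (Finsupp.single (0, k) 1) 1 from rfl, map_mul,
      mev_monomial_eq_zero r _ _ (Or.inr ?_), mul_zero]
    intro h
    have := h (0, k) (by simp)
    simp [hr] at this
  have hx : ∀ s, GoodElt W (x s) := by
    intro s
    induction s using Fin.cases with
    | zero => simpa [x] using hvg
    | succ s => simpa [x] using hl _ (List.get_mem l s)
  have h := gamma_killed_mem hA hf (by omega) 0 k hk hb hx (by simpa [x] using hv)
  rw [hev, show x 0 = v from rfl] at h
  refine ⟨fun n hn => ?_, ?_⟩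
  · obtain ⟨w, hw, he⟩ := h.1 n hn
    exact ⟨w, W.anti (by omega) hw, he⟩
  · obtain ⟨w, hw, he⟩ := h.2
    exact ⟨w, W.anti (by omega) hw, he⟩

end Basic

section GammaFil

/-- A filtration spanned by a multiplicative family of sets. -/
@[reducible] noncomputable def Filt.ofSets {A : Type v} [CommRing A] (S : ℕ → Set A) (h1 : 1 ∈ S 0)
    (hanti : ∀ {m n}, m ≤ n → S n ⊆ S m)
    (hmul : ∀ {m n} {a b : A}, a ∈ S m → b ∈ S n → a * b ∈ Ideal.span (S (m + n))) : Filt A where
  F n := Ideal.span (S n)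
  top := (Ideal.eq_top_iff_one _).2 (Ideal.subset_span h1)
  anti h := Ideal.span_mono (hanti h)
  mul {m n a b} ha hb := by
    have := Submodule.mul_mem_mul ha hb
    rw [Ideal.span_mul_span'] at this
    refine Ideal.span_le.2 ?_ this
    rintro _ ⟨a, ha, b, hb, rfl⟩
    exact hmul ha hb

variable {K : Type u} {A : Type v} [CommRing K] [CommRing A] [LambdaOps A]

/-- The γ-filtration as a filtration. -/
noncomputable def gammaFilt (ε : A →+* K) : Filt A where
  F := gammaFil ε
  top := (Ideal.eq_top_iff_one _).2 (Ideal.subset_span ⟨[], by simp⟩)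
  anti {m n} h := Ideal.span_mono fun y ⟨l, hl, hs, he⟩ => ⟨l, hl, h.trans hs, he⟩
  mul {m n a b} ha hb := by
    have := Submodule.mul_mem_mul ha hb
    rw [LambdaRing.gammaFil, LambdaRing.gammaFil, Ideal.span_mul_span'] at this
    refine Ideal.span_le.2 ?_ this
    rintro _ ⟨a, ⟨l, hl, hs, rfl⟩, b, ⟨l', hl', hs', rfl⟩, rfl⟩
    refine Ideal.subset_span ⟨l ++ l', ?_, ?_, by simp⟩
    · intro p hp
      rw [List.mem_append] at hp
      exact hp.elim (hl p) (hl' p)
    · simp; omega

lemma goodElt_gammaFilt (ε : A →+* K) {z : A} (hz : ε z = 0) : GoodElt (gammaFilt ε) z := fun n =>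
  Ideal.subset_span ⟨[(n, z)], by simpa using hz, by simp, by simp⟩

lemma gammaFil_le (W : Filt A) (ε : A →+* K) (h : ∀ z, ε z = 0 → GoodElt W z) (n : ℕ) :
    gammaFil ε n ≤ W.F n := by
  refine Ideal.span_le.2 ?_
  rintro _ ⟨l, hl, hs, rfl⟩
  refine W.anti hs ?_
  clear hs
  induction l with
  | nil => simp [W.top]
  | cons p l ih =>
    simp only [List.map_cons, List.sum_cons, List.prod_cons]
    exact W.mul (h _ (hl p (by simp)) p.1) (ih fun q hq => hl q (by simp [hq]))

/-- z satisfies the congruence of γ^m with its multiple. -/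
def LeadGood (W : Filt A) (m : ℕ) (z : A) : Prop :=
  (∀ n, 1 ≤ n → gamma n z ∈ W.F (max n m)) ∧ gamma m z - leadConst A m * z ∈ W.F (m + 1)

lemma LeadGood.add {W : Filt A} {m : ℕ} (hm : 1 ≤ m) {z w : A} (hz : LeadGood W m z)
    (hw : LeadGood W m w) : LeadGood W m (z + w) := by
  refine ⟨fun n hn => ?_, ?_⟩
  · obtain ⟨k, rfl⟩ : ∃ k, n = k + 1 := ⟨n - 1, by omega⟩
    rw [gamma_add_succ]
    refine add_mem (add_mem (hz.1 _ hn) (hw.1 _ hn)) (sum_mem fun i hi => ?_)
    rw [mem_range] at hi
    exact W.anti (by omega) (W.mul (hz.1 (i + 1) (by omega)) (hw.1 (k - i) (by omega)))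
  · obtain ⟨k, rfl⟩ : ∃ k, m = k + 1 := ⟨m - 1, by omega⟩
    rw [gamma_add_succ, show ∀ a b c e : A, a + b + c - e * (z + w) =
      (a - e * z) + (b - e * w) + c from fun a b c e => by ring]
    refine add_mem (add_mem hz.2 hw.2) (sum_mem fun i hi => ?_)
    rw [mem_range] at hi
    exact W.anti (by omega) (W.mul (hz.1 (i + 1) (by omega)) (hw.1 (k - i) (by omega)))

variable [LambdaOps K] [Algebra K A]

/-- γ^m acts on the m-th term, modulo the next one, as multiplication by a constant. -/
theorem gamma_lead_mem [BinomialRing K] (hKb : IsBinomial K) (hA : IsSpecial A) (ε : A →ₐ[K] K)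
    (hε : IsAugLambdaAlg K A ε) (m : ℕ) (hm : 1 ≤ m) (z : A)
    (hz : z ∈ gammaFil (ε : A →+* K) m) :
    LeadGood (gammaFilt (ε : A →+* K)) m z := by
  let W := gammaFilt (ε : A →+* K)
  have main : ∀ a, LeadGood W m (a * z) := by
    refine Submodule.span_induction (p := fun z _ => ∀ a, LeadGood W m (a * z)) ?_ ?_ ?_ ?_ hz
    · rintro _ ⟨l, hl, hs, rfl⟩ a
      have hgood : ∀ p ∈ l, GoodElt W p.2 := fun p hp => goodElt_gammaFilt _ (hl p hp)
      rw [show a = algebraMap K A (ε a) + (a - algebraMap K A (ε a)) by ring, add_mul]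
      refine LeadGood.add hm
        (gamma_list_mem hA (binElt_algebraMap hKb hε.isLambdaAlg (ε a)) l hgood m hm hs) ?_
      have h := gamma_list_mem (W := W) hA (binElt_one hA) ((1, a - algebraMap K A (ε a)) :: l)
        ?_ m hm ?_
      · simpa [gamma_one, LeadGood] using h
      · intro p hp
        rcases List.mem_cons.1 hp with rfl | hp
        · exact goodElt_gammaFilt _ (by simp)
        · exact hgood p hp
      · simp; omega
    · intro a
      rw [mul_zero]
      exact ⟨fun n hn => by rw [gamma_zero_right, if_neg (by omega)]; exact zero_mem _, by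
        rw [gamma_zero_right, if_neg (by omega), mul_zero, sub_zero]; exact zero_mem _⟩
    · intro y w _ _ hy hw a
      rw [mul_add]
      exact LeadGood.add hm (hy a) (hw a)
    · intro c y _ hy a
      rw [smul_eq_mul, ← mul_assoc]
      exact hy _
  simpa using main 1

/-- z·γ^d(v) has all its γ^n divisible by γ^d(v) with controlled quotient. -/
def DivGood (W : Filt A) (v : A) (d i : ℕ) (z : A) : Prop :=
  (∀ n, 1 ≤ n → ∃ w ∈ W.F (max (n - d) i), gamma n (z * gamma d v) = gamma d v * w) ∧
    ∃ w ∈ W.F (i + 1),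
      gamma (d + i) (z * gamma d v) - leadConst A (d + i) * (z * gamma d v) = gamma d v * w

lemma DivGood.add {W : Filt A} {v : A} {d i : ℕ} (hd : 1 ≤ d) (hv : GoodElt W v) {z w : A}
    (hz : DivGood W v d i z) (hw : DivGood W v d i w) : DivGood W v d i (z + w) := by
  have cross : ∀ k, ∃ u ∈ W.F (max (k + 1 - d) i) ⊓ (if k + 1 = d + i then W.F (i + 1) else ⊤),
      ∑ j ∈ range k, gamma (j + 1) (z * gamma d v) * gamma (k - j) (w * gamma d v) =
        gamma d v * u := by
    intro k
    choose f hf he using fun j => hz.1 (j + 1) (by omega)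
    choose g hg he' using fun j => hw.1 (j + 1) (by omega)
    refine ⟨∑ j ∈ range k, gamma d v * (f j * g (k - j - 1)), ?_, ?_⟩
    · refine sum_mem fun j hj => ?_
      rw [mem_range] at hj
      have h := W.mul (hv d) (W.mul (hf j) (hg (k - j - 1)))
      refine ⟨W.anti (by omega) h, ?_⟩
      split_ifs with hk
      · exact W.anti (by omega) h
      · trivial
    · rw [Finset.mul_sum]
      refine Finset.sum_congr rfl fun j hj => ?_
      rw [mem_range] at hj
      rw [he j, show k - j = k - j - 1 + 1 by omega, he' (k - j - 1)]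
      simp only [Nat.add_sub_cancel]
      ring
  refine ⟨fun n hn => ?_, ?_⟩
  · obtain ⟨k, rfl⟩ : ∃ k, n = k + 1 := ⟨n - 1, by omega⟩
    obtain ⟨a, ha, hae⟩ := hz.1 _ hn
    obtain ⟨b, hb, hbe⟩ := hw.1 _ hn
    obtain ⟨u, hu, hue⟩ := cross k
    refine ⟨a + b + u, add_mem (add_mem ha hb) hu.1, ?_⟩
    rw [add_mul, gamma_add_succ, hae, hbe, hue, mul_add, mul_add]
  · obtain ⟨k, hk⟩ : ∃ k, d + i = k + 1 := ⟨d + i - 1, by omega⟩
    obtain ⟨a, ha, hae⟩ := hz.2
    obtain ⟨b, hb, hbe⟩ := hw.2
    obtain ⟨u, hu, hue⟩ := cross k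
    have hu2 := hu.2
    rw [if_pos hk.symm] at hu2
    refine ⟨a + b + u, add_mem (add_mem ha hb) hu2, ?_⟩
    rw [hk] at hae hbe ⊢
    rw [add_mul, gamma_add_succ, hue]
    linear_combination hae + hbe

theorem gamma_killed_lead_mem [BinomialRing K] (hKb : IsBinomial K) (hA : IsSpecial A)
    (ε : A →ₐ[K] K) (hε : IsAugLambdaAlg K A ε) (d : ℕ) (hd : 1 ≤ d) (v : A) (hv0 : ε v = 0)
    (hv : ∀ j, d < j → gamma j v = 0) (i : ℕ) (x : A) (hx : x ∈ gammaFil (ε : A →+* K) i) :
    DivGood (gammaFilt (ε : A →+* K)) v d i x := by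
  let W := gammaFilt (ε : A →+* K)
  have hvg : GoodElt W v := goodElt_gammaFilt _ hv0
  have main : ∀ a, DivGood W v d i (a * x) := by
    refine Submodule.span_induction (p := fun x _ => ∀ a, DivGood W v d i (a * x)) ?_ ?_ ?_ ?_ hx
    · rintro _ ⟨l, hl, hs, rfl⟩ a
      have hgood : ∀ p ∈ l, GoodElt W p.2 := fun p hp => goodElt_gammaFilt _ (hl p hp)
      rw [show a = algebraMap K A (ε a) + (a - algebraMap K A (ε a)) by ring, add_mul]
      refine DivGood.add hd hvg
        (gamma_list_killed_mem hA (binElt_algebraMap hKb hε.isLambdaAlg (ε a)) v hvg d hd hv l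
          hgood i hs) ?_
      have h := gamma_list_killed_mem (W := W) hA (binElt_one hA) v hvg d hd hv
        ((1, a - algebraMap K A (ε a)) :: l) ?_ i ?_
      · simpa [gamma_one, DivGood] using h
      · intro p hp
        rcases List.mem_cons.1 hp with rfl | hp
        · exact goodElt_gammaFilt _ (by simp)
        · exact hgood p hp
      · simp; omega
    · intro a
      rw [mul_zero]
      refine ⟨fun n hn => ⟨0, zero_mem _, ?_⟩, ⟨0, zero_mem _, ?_⟩⟩ <;>
        simp [gamma_zero_right, Nat.ne_of_gt (show 0 < d by omega)]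
      omega
    · intro y w _ _ hy hw a
      rw [mul_add]
      exact DivGood.add hd hvg (hy a) (hw a)
    · intro c y _ hy a
      rw [smul_eq_mul, ← mul_assoc]
      exact hy _
  simpa using main 1

lemma gamma_sub_rank (h1 : ∀ j, 2 ≤ j → LambdaOps.lam j (1 : A) = 0) (d : ℕ) (N : A)
    (hN : ∀ k, d < k → LambdaOps.lam k N = 0) :
    (∀ l, d < l → gamma l (N - (d : A)) = 0) ∧
      ∑ j ∈ range (d + 1), (-1 : A) ^ j * LambdaOps.lam j N =
        (-1) ^ d * gamma d (N - (d : A)) := by
  have h : gammaSeries (N - (d : A)) = ∑ i ∈ range (d + 1),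
      PowerSeries.C (LambdaOps.lam i N) * (PowerSeries.X ^ i * (1 - PowerSeries.X) ^ (d - i)) := by
    rw [gammaSeries_sub_natCast h1, gammaSeries_eq_subst]
    have hl : LambdaRing.lamSeries N =
        ∑ i ∈ range (d + 1), PowerSeries.C (LambdaOps.lam i N) * PowerSeries.X ^ i := by
      ext n
      simp only [coeff_lamSeries, map_sum, PowerSeries.coeff_C_mul, PowerSeries.coeff_X_pow, mul_ite,
        mul_one, mul_zero, Finset.sum_ite_eq, Finset.mem_range]
      split_ifs with hn
      · rfl
      · exact hN n (by omega)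
    rw [hl, ← PowerSeries.coe_substAlgHom (hasSubst_u A), map_sum, Finset.sum_mul]
    refine Finset.sum_congr rfl fun i hi => ?_
    rw [mem_range] at hi
    rw [map_mul, map_pow, PowerSeries.substAlgHom_X, PowerSeries.coe_substAlgHom, PowerSeries.subst_C,
      show (1 - PowerSeries.X : PowerSeries A) ^ d =
        (1 - PowerSeries.X) ^ i * (1 - PowerSeries.X) ^ (d - i) by rw [← pow_add]; congr 1; omega]
    show PowerSeries.C _ * (uSeries A) ^ i * _ = _
    calc PowerSeries.C (LambdaOps.lam i N) * (PowerSeries.X * geo A) ^ i *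
          ((1 - PowerSeries.X) ^ i * (1 - PowerSeries.X) ^ (d - i))
        = PowerSeries.C (LambdaOps.lam i N) *
          (PowerSeries.X ^ i * (geo A * (1 - PowerSeries.X)) ^ i * (1 - PowerSeries.X) ^ (d - i)) := by
          rw [mul_pow, mul_pow]; ring
      _ = _ := by rw [geo_mul, one_pow, mul_one]
  have hc : ∀ l, gamma l (N - (d : A)) = ∑ i ∈ range (d + 1), if i ≤ l then
      LambdaOps.lam i N * ((-1) ^ (l - i) * ((d - i).choose (l - i) : A)) else 0 := by
    intro l
    rw [← coeff_gammaSeries, h, map_sum]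
    refine Finset.sum_congr rfl fun i _ => ?_
    rw [PowerSeries.coeff_C_mul, PowerSeries.coeff_X_pow_mul']
    split_ifs
    · congr 1
      rw [show (1 - PowerSeries.X : PowerSeries A) =
          PowerSeries.rescale (-1 : A) ((Polynomial.X + 1 : Polynomial A) : PowerSeries A) by
          simp [PowerSeries.rescale_X]; ring,
        ← map_pow, PowerSeries.coeff_rescale, ← Polynomial.coe_pow, Polynomial.coeff_coe,
        Polynomial.coeff_X_add_one_pow]
    · rw [mul_zero]
  refine ⟨fun l hl => ?_, ?_⟩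
  · rw [hc]
    refine Finset.sum_eq_zero fun i hi => ?_
    rw [mem_range] at hi
    rw [Nat.choose_eq_zero_of_lt (by omega)]
    simp
  · rw [hc, Finset.mul_sum]
    refine Finset.sum_congr rfl fun i hi => ?_
    rw [mem_range] at hi
    rw [if_pos (by omega), Nat.choose_self, Nat.cast_one, mul_one, mul_left_comm, mul_comm]
    congr 1
    rw [← pow_add]
    exact neg_one_pow_congr (by simp only [Nat.even_add, Nat.even_sub (show i ≤ d by omega)]; tauto)

end GammaFil

end Groth.Agent.Lambda
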