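import Groth.Agent.Lib.Lambda.KRRAlg

/-!
σ-operations and the functional on elementary extensions.
-/

universe u

open Finset

namespace Groth.Agent.Lambda

open LambdaRing (LambdaOps PosStructure HasSplitting)

section Sigma

variable {K : Type u} [CommRing K] [LambdaOps K]

lemma sum_lam_mul_sigma (x : K) (n : ℕ) :
    ∑ i ∈ range (n + 1), (-1 : K) ^ i * LambdaOps.lam i x * KRR.sigma (n - i) x =
      if n = 0 then 1 else 0 := by
  have h : PowerSeries.rescale (-1 : K) (LambdaRing.lamSeries x) * KRR.sigmaSeries x = 1 :=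
    PowerSeries.mul_invOfUnit _ _ (by
      rw [← PowerSeries.coeff_zero_eq_constantCoeff_apply, PowerSeries.coeff_rescale, pow_zero,
        one_mul, coeff_lamSeries, LambdaOps.lam_zero]; rfl)
  have := congrArg (PowerSeries.coeff n) h
  rw [PowerSeries.coeff_mul, Finset.Nat.sum_antidiagonal_eq_sum_range_succ_mk,
    PowerSeries.coeff_one] at this
  simpa [KRR.sigma, PowerSeries.coeff_rescale, coeff_lamSeries] using this

variable {P : PosStructure K}

theorem aug_sigma (hK : HasSplitting K P) (e : K) (he : e ∈ P.pos) (r : ℕ) (hr : P.aug e = r + 1)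
    (j : ℕ) : P.aug (KRR.sigma j e) = ((r + j).choose j : ℤ) := by
  have hm : (P.aug e).toNat = r + 1 := by omega
  have hl : PowerSeries.map P.aug (PowerSeries.rescale (-1 : K) (LambdaRing.lamSeries e)) =
      (1 - PowerSeries.X) ^ (r + 1) := by
    ext i
    rw [PowerSeries.coeff_map, PowerSeries.coeff_rescale, coeff_one_sub_X_pow, map_mul, map_pow,
      map_neg, map_one, coeff_lamSeries, aug_lam_pos hK e he, hm]
  have h : PowerSeries.map P.aug (KRR.sigmaSeries e) * (1 - PowerSeries.X) ^ (r + 1) = 1 := by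
    rw [← hl, ← map_mul, mul_comm, KRR.sigmaSeries, PowerSeries.mul_invOfUnit _ _ (by
      rw [← PowerSeries.coeff_zero_eq_constantCoeff_apply, PowerSeries.coeff_rescale, pow_zero,
        one_mul, coeff_lamSeries, LambdaOps.lam_zero]; rfl), map_one]
  have h' : PowerSeries.map P.aug (KRR.sigmaSeries e) =
      PowerSeries.mk fun n => ((r + n).choose r : ℤ) :=
    left_inv_eq_right_inv h (by
      rw [mul_comm]; exact PowerSeries.mk_add_choose_mul_one_sub_pow_eq_one _ r)
  rw [KRR.sigma, ← PowerSeries.coeff_map, h', PowerSeries.coeff_mk, Nat.choose_symm_add]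

end Sigma

lemma alternating_choose_choose (r : ℕ) :
    ∑ m ∈ range (r + 1), (-1 : ℤ) ^ (r - m) * (r.choose m : ℤ) * ((r + m).choose m : ℤ) = 1 := by
  have h : (1 + Polynomial.X : Polynomial ℤ) ^ r * ((1 + Polynomial.X) + -1) ^ r =
      (1 + Polynomial.X) ^ r * Polynomial.X ^ r := by
    ring
  have hc := congrArg (fun p => Polynomial.coeff p r) h
  simp only [add_pow (1 + Polynomial.X) (-1) r, mul_sum, Polynomial.finset_sum_coeff] at hc
  refine Eq.trans ?_ (hc.trans ?_)
  · refine sum_congr rfl fun m _ => ?_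
    rw [show (1 + Polynomial.X : Polynomial ℤ) ^ r *
      ((1 + Polynomial.X) ^ m * (-1) ^ (r - m) * (r.choose m : Polynomial ℤ)) =
        Polynomial.C ((-1 : ℤ) ^ (r - m) * (r.choose m : ℤ)) * (1 + Polynomial.X) ^ (r + m) by
      simp [pow_add]; ring, Polynomial.coeff_C_mul, Polynomial.coeff_one_add_X_pow,
      Nat.choose_symm_add]
  · rw [Polynomial.coeff_mul_X_pow', if_pos le_rfl, Nat.sub_self, Polynomial.coeff_zero_eq_eval_zero]
    simp

section Extension

variable {K : Type u} [CommRing K] [LambdaOps K] {P : PosStructure K} {e : K}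

lemma of_mul_eq_smul (c : K) (y : AdjoinRoot (KRR.extPoly P e)) : (AdjoinRoot.of (KRR.extPoly P e)) c * y = c • y := by
  rw [Algebra.smul_def, AdjoinRoot.algebraMap_eq]

lemma root_relation :
    ∑ i ∈ range ((P.aug e).toNat + 1),
      (AdjoinRoot.of (KRR.extPoly P e)) ((-1 : K) ^ i * LambdaOps.lam i e) * (AdjoinRoot.root (KRR.extPoly P e)) ^ ((P.aug e).toNat - i) = 0 := by
  have h := AdjoinRoot.eval₂_root (KRR.extPoly P e)
  conv at h => lhs; arg 3; unfold KRR.extPoly
  simpa [Polynomial.eval₂_finsetSum, Polynomial.eval₂_pow] using h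

lemma aug_functional (hK : HasSplitting K P) (he : e ∈ P.pos) (r : ℕ) (hr : P.aug e = r + 1)
    (f : AdjoinRoot (KRR.extPoly P e) →ₗ[K] K) (hf : ∀ i : ℕ, i ≤ r → f ((AdjoinRoot.root (KRR.extPoly P e)) ^ i) = KRR.sigma i e) :
    P.aug (f (((AdjoinRoot.root (KRR.extPoly P e)) - 1) ^ r)) = 1 := by
  rw [sub_eq_add_neg, add_pow, map_sum, map_sum]
  refine Eq.trans (sum_congr rfl fun m hm => ?_) (alternating_choose_choose r)
  rw [mem_range] at hm
  rw [show (AdjoinRoot.root (KRR.extPoly P e)) ^ m * (-1) ^ (r - m) * (r.choose m : AdjoinRoot (KRR.extPoly P e)) =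
      ((-1 : ℤ) ^ (r - m) * (r.choose m : ℤ)) • (AdjoinRoot.root (KRR.extPoly P e)) ^ m by simp; ring,
    map_zsmul, map_zsmul, hf m (by omega), aug_sigma hK e he r hr, smul_eq_mul]

theorem functional_pow (he : e ∈ P.pos) (r : ℕ) (hr : P.aug e = r + 1)
    (f : AdjoinRoot (KRR.extPoly P e) →ₗ[K] K) (hf : ∀ i : ℕ, i ≤ r → f ((AdjoinRoot.root (KRR.extPoly P e)) ^ i) = KRR.sigma i e)
    (n : ℕ) : f ((AdjoinRoot.root (KRR.extPoly P e)) ^ n) = KRR.sigma n e := by
  have hm : (P.aug e).toNat = r + 1 := by omega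
  induction n using Nat.strong_induction_on with
  | _ n ih =>
    rcases Nat.lt_or_ge n (r + 1) with h | h
    · exact hf n (by omega)
    have h1 : ∑ i ∈ range (n + 1), (-1 : K) ^ i * LambdaOps.lam i e * f ((AdjoinRoot.root (KRR.extPoly P e)) ^ (n - i)) = 0 := by
      have hrel := congrArg (fun y => f (y * (AdjoinRoot.root (KRR.extPoly P e)) ^ (n - (r + 1)))) (root_relation (P := P) (e := e))
      simp only [sum_mul, mul_assoc, ← pow_add, map_sum, zero_mul, map_zero, hm] at hrel
      simp only [of_mul_eq_smul, map_smul, smul_eq_mul] at hrel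
      rw [← Finset.sum_subset (Finset.range_mono (show r + 1 + 1 ≤ n + 1 by omega))]
      · refine Eq.trans (sum_congr rfl fun i hi => ?_) hrel
        rw [mem_range] at hi
        rw [show r + 1 - i + (n - (r + 1)) = n - i by omega]
      · intro i _ hi
        rw [mem_range] at hi
        rw [lam_pos_eq_zero P he i (by omega)]
        ring
    have h2 := sum_lam_mul_sigma e n
    rw [if_neg (by omega)] at h2
    rw [sum_range_succ'] at h1 h2
    simp only [pow_zero, LambdaOps.lam_zero, one_mul, Nat.sub_zero] at h1 h2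
    have h3 : ∑ i ∈ range n, (-1 : K) ^ (i + 1) * LambdaOps.lam (i + 1) e * f ((AdjoinRoot.root (KRR.extPoly P e)) ^ (n - (i + 1))) =
        ∑ i ∈ range n, (-1 : K) ^ (i + 1) * LambdaOps.lam (i + 1) e * KRR.sigma (n - (i + 1)) e :=
      sum_congr rfl fun i hi => by rw [mem_range] at hi; rw [ih _ (by omega)]
    linear_combination h1 - h2 - h3

theorem functional_inv_pow (he : e ∈ P.pos) (r : ℕ) (hr : P.aug e = r + 1)
    (f : AdjoinRoot (KRR.extPoly P e) →ₗ[K] K) (hf : ∀ i : ℕ, i ≤ r → f ((AdjoinRoot.root (KRR.extPoly P e)) ^ i) = KRR.sigma i e)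
    (linv : AdjoinRoot (KRR.extPoly P e)) (hlinv : linv * (AdjoinRoot.root (KRR.extPoly P e)) = 1) (n : ℕ) (hn : 1 ≤ n) (hnr : n ≤ r) :
    f (linv ^ n) = 0 := by
  have hm : (P.aug e).toNat = r + 1 := by omega
  induction n using Nat.strong_induction_on with
  | _ n ih =>
    have hinv : ∀ a b, (AdjoinRoot.root (KRR.extPoly P e)) ^ a * linv ^ b = if b ≤ a then (AdjoinRoot.root (KRR.extPoly P e)) ^ (a - b) else linv ^ (b - a) := by
      intro a b
      split_ifs with hab
      · conv_lhs => rw [← Nat.sub_add_cancel hab, pow_add, mul_assoc, ← mul_pow, mul_comm (AdjoinRoot.root (KRR.extPoly P e)) linv,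
          hlinv, one_pow, mul_one]
      · conv_lhs => rw [← Nat.sub_add_cancel (show a ≤ b by omega), pow_add, mul_comm, mul_assoc,
          ← mul_pow, hlinv, one_pow, mul_one]
    have hrel := congrArg (fun y => f (y * linv ^ n)) (root_relation (P := P) (e := e))
    simp only [sum_mul, mul_assoc, hinv, map_sum, zero_mul, map_zero, hm] at hrel
    simp only [of_mul_eq_smul, map_smul, smul_eq_mul, mul_assoc] at hrel
    rw [sum_range_succ, Nat.sub_self, if_neg (by omega), Nat.sub_zero,
      ← Finset.sum_subset (Finset.range_mono (show r + 1 - n + 1 ≤ r + 1 by omega))] at hrel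
    · have hsum := sum_lam_mul_sigma e (r + 1 - n)
      rw [if_neg (by omega)] at hsum
      have h3 : ∑ i ∈ range (r + 1 - n + 1), (-1 : K) ^ i * (LambdaOps.lam i e *
          f (if n ≤ r + 1 - i then (AdjoinRoot.root (KRR.extPoly P e)) ^ (r + 1 - i - n) else linv ^ (n - (r + 1 - i)))) = 0 := by
        refine Eq.trans (sum_congr rfl fun i hi => ?_) hsum
        rw [mem_range] at hi
        rw [if_pos (by omega), functional_pow he r hr f hf,
          show r + 1 - i - n = r + 1 - n - i by omega, mul_assoc]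
      rw [h3, zero_add] at hrel
      have hu := P.isUnit_lam e he
      rw [hm] at hu
      exact hu.mul_right_eq_zero.1 (((isUnit_one.neg).pow (r + 1)).mul_right_eq_zero.1 hrel)
    · intro i hi hi'
      rw [mem_range] at hi hi'
      rw [if_neg (by omega), ih _ (by omega) (by omega) (by omega), mul_zero, mul_zero]

variable (inst : LambdaOps (AdjoinRoot (KRR.extPoly P e)))
  (hext : ∀ (i : ℕ) (x : K), inst.lam i ((AdjoinRoot.of (KRR.extPoly P e)) x) = (AdjoinRoot.of (KRR.extPoly P e)) (LambdaOps.lam i x))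
  (hroot : ∀ i : ℕ, 2 ≤ i → inst.lam i (AdjoinRoot.root (KRR.extPoly P e)) = 0)

include hext hroot in
lemma lam_sub_root (i : ℕ) :
    inst.lam i ((AdjoinRoot.of (KRR.extPoly P e)) e - (AdjoinRoot.root (KRR.extPoly P e))) = ∑ k ∈ range (i + 1), (-(AdjoinRoot.root (KRR.extPoly P e))) ^ k * (AdjoinRoot.of (KRR.extPoly P e)) (LambdaOps.lam (i - k) e) := by
  induction i with
  | zero => simp [inst.lam_zero, LambdaOps.lam_zero]
  | succ i ih =>
    let _ := inst
    have h := congrArg (PowerSeries.coeff (i + 1)) (lamSeries_add ((AdjoinRoot.of (KRR.extPoly P e)) e - (AdjoinRoot.root (KRR.extPoly P e))) (AdjoinRoot.root (KRR.extPoly P e)))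
    rw [sub_add_cancel, lamSeries_of_lam_eq_zero hroot, mul_add, mul_one, map_add, ← mul_assoc,
      PowerSeries.coeff_succ_mul_X, PowerSeries.coeff_mul_C, coeff_lamSeries, coeff_lamSeries,
      coeff_lamSeries, hext] at h
    rw [sum_range_succ']
    simp only [pow_succ', Nat.reduceSubDiff, pow_zero, one_mul, Nat.sub_zero, mul_assoc, ← mul_sum,
      ← ih]
    linear_combination -h

include hext hroot in
theorem functional_lam_sub_root (he : e ∈ P.pos) (r : ℕ) (hr : P.aug e = r + 1)
    (f : AdjoinRoot (KRR.extPoly P e) →ₗ[K] K) (hf : ∀ i : ℕ, i ≤ r → f ((AdjoinRoot.root (KRR.extPoly P e)) ^ i) = KRR.sigma i e)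
    (i : ℕ) : f (inst.lam i ((AdjoinRoot.of (KRR.extPoly P e)) e - (AdjoinRoot.root (KRR.extPoly P e)))) = if i = 0 then 1 else 0 := by
  rw [lam_sub_root inst hext hroot, map_sum]
  have h : (-1 : K) ^ i * (if i = 0 then 1 else 0) = if i = 0 then 1 else 0 := by
    split_ifs with h <;> simp [h]
  rw [← h, ← sum_lam_mul_sigma e i, mul_sum, ← sum_range_reflect]
  refine sum_congr rfl fun k hk => ?_
  rw [mem_range] at hk
  rw [show i + 1 - 1 - k = i - k by omega, show i - (i - k) = k by omega,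
    show (-(AdjoinRoot.root (KRR.extPoly P e))) ^ (i - k) * (AdjoinRoot.of (KRR.extPoly P e)) (LambdaOps.lam k e) =
      (AdjoinRoot.of (KRR.extPoly P e)) ((-1 : K) ^ (i - k) * LambdaOps.lam k e) * (AdjoinRoot.root (KRR.extPoly P e)) ^ (i - k) by rw [neg_pow]; simp; ring,
    of_mul_eq_smul, map_smul, smul_eq_mul, functional_pow he r hr f hf]
  have : (-1 : K) ^ (i - k) = (-1) ^ i * (-1) ^ k := by
    rw [← pow_add, show i + k = (i - k) + 2 * k by omega, pow_add, pow_mul]; simp
  rw [this]; ring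

include hext hroot in
theorem eq_functional_mul_lamAlt (he : e ∈ P.pos) (r : ℕ) (hr : P.aug e = r + 1)
    (Pe : @PosStructure _ _ inst) (haug : Pe.aug ((AdjoinRoot.of (KRR.extPoly P e)) e - (AdjoinRoot.root (KRR.extPoly P e))) = (r : ℤ))
    (f : AdjoinRoot (KRR.extPoly P e) →ₗ[K] K) (hf : ∀ i : ℕ, i ≤ r → f ((AdjoinRoot.root (KRR.extPoly P e)) ^ i) = KRR.sigma i e)
    (z : AdjoinRoot (KRR.extPoly P e)) (hz : z * (1 - (AdjoinRoot.root (KRR.extPoly P e))) = 0) :
    z = (AdjoinRoot.of (KRR.extPoly P e)) (f z) * @KRR.lamAlt _ _ inst Pe ((AdjoinRoot.of (KRR.extPoly P e)) e - (AdjoinRoot.root (KRR.extPoly P e))) := by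
  have hm : (P.aug e).toNat = r + 1 := by omega
  let c : ℕ → K := fun i => (-1 : K) ^ i * LambdaOps.lam i e
  have hp : KRR.extPoly P e = ∑ i ∈ range (r + 2), Polynomial.C (c i) * Polynomial.X ^ (r + 1 - i) := by
    rw [KRR.extPoly, hm]
  have hp1 : (KRR.extPoly P e).Monic := by
    rw [hp, sum_range_succ']
    simp only [c, pow_zero, LambdaOps.lam_zero, one_mul, map_one, Nat.sub_zero, add_comm]
    refine Polynomial.monic_X_pow_add ((Polynomial.degree_sum_le _ _).trans_lt
      ((Finset.sup_lt_iff (WithBot.bot_lt_coe _)).2 fun i hi => ?_))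
    refine (Polynomial.degree_C_mul_X_pow_le _ _).trans_lt ?_
    exact_mod_cast (show r + 1 - (i + 1) < r + 1 by omega)
  have hq : @KRR.lamAlt _ _ inst Pe ((AdjoinRoot.of (KRR.extPoly P e)) e - (AdjoinRoot.root (KRR.extPoly P e))) = ∑ j ∈ range (r + 1), (AdjoinRoot.of (KRR.extPoly P e)) (c j) * ∑ k ∈ range (r + 1 - j), (AdjoinRoot.root (KRR.extPoly P e)) ^ k := by
    rw [KRR.lamAlt, haug, Int.toNat_natCast]
    simp only [lam_sub_root inst hext hroot, mul_sum]
    refine Eq.trans ?_ (sum_range_diag_flip (r + 1) fun j k => (AdjoinRoot.of (KRR.extPoly P e)) (c j) * (AdjoinRoot.root (KRR.extPoly P e)) ^ k)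
    refine sum_congr rfl fun i _ => ?_
    rw [← sum_range_reflect]
    refine sum_congr rfl fun k hk => ?_
    rw [mem_range] at hk
    rw [show i + 1 - 1 - k = i - k by omega, show i - (i - k) = k by omega, neg_pow]
    simp only [c, map_mul, map_pow, map_neg, map_one]
    have : (-1 : AdjoinRoot (KRR.extPoly P e)) ^ i = (-1) ^ k * (-1) ^ (i - k) := by
      rw [← pow_add]; congr 1; omega
    rw [this]
    have hsq : ((-1 : AdjoinRoot (KRR.extPoly P e)) ^ (i - k)) * (-1) ^ (i - k) = 1 := by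
      rw [← mul_pow]; simp
    linear_combination ((-1) ^ k * (AdjoinRoot.of (KRR.extPoly P e)) (LambdaOps.lam k e) * (AdjoinRoot.root (KRR.extPoly P e)) ^ (i - k)) * hsq
  let V : Polynomial K := ∑ j ∈ range (r + 1), Polynomial.C (c j) * ∑ k ∈ range (r + 1 - j), Polynomial.X ^ k
  let s : K := ∑ j ∈ range (r + 2), c j
  have hV : V * (1 - Polynomial.X) = Polynomial.C s - KRR.extPoly P e := by
    rw [hp, map_sum, ← sum_sub_distrib, sum_range_succ _ (r + 1), Nat.sub_self, pow_zero, mul_one,
      sub_self, add_zero, sum_mul]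
    refine sum_congr rfl fun j _ => ?_
    rw [mul_assoc, geom_sum_mul_neg, mul_sub, mul_one]
  have hdeg : ∀ [Nontrivial K], (KRR.extPoly P e).natDegree = r + 1 := by
    intro _
    rw [hp, sum_range_succ']
    simp only [c, pow_zero, LambdaOps.lam_zero, one_mul, map_one, Nat.sub_zero]
    rw [Polynomial.natDegree_add_eq_right_of_degree_lt, Polynomial.natDegree_X_pow]
    rw [Polynomial.degree_X_pow]
    refine (Polynomial.degree_sum_le _ _).trans_lt
      ((Finset.sup_lt_iff (WithBot.bot_lt_coe _)).2 fun i hi => ?_)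
    refine (Polynomial.degree_C_mul_X_pow_le _ _).trans_lt ?_
    exact_mod_cast (show r + 1 - (i + 1) < r + 1 by omega)
  obtain ⟨Z, hZd, rfl⟩ : ∃ Z : Polynomial K, Z.natDegree ≤ r ∧ AdjoinRoot.mk _ Z = z := by
    refine ⟨AdjoinRoot.modByMonicHom hp1 z, ?_, AdjoinRoot.mk_leftInverse hp1 z⟩
    induction z using AdjoinRoot.induction_on with
    | ih Z =>
      rw [AdjoinRoot.modByMonicHom_mk]
      nontriviality K
      have hne : KRR.extPoly P e ≠ 1 := by
        intro h
        have := hdeg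
        rw [h, Polynomial.natDegree_one] at this
        omega
      have hd := Polynomial.natDegree_modByMonic_lt Z hp1 hne
      rw [hdeg] at hd
      omega
  rw [show (1 : AdjoinRoot (KRR.extPoly P e)) - (AdjoinRoot.root (KRR.extPoly P e)) = AdjoinRoot.mk _ (1 - Polynomial.X) by simp,
    ← map_mul, AdjoinRoot.mk_eq_zero] at hz
  obtain ⟨T, hT⟩ := hz
  obtain ⟨t, rfl⟩ : ∃ t : K, T = Polynomial.C t := by
    refine ⟨T.coeff 0, Polynomial.eq_C_of_natDegree_eq_zero ?_⟩
    nontriviality K
    rcases eq_or_ne T 0 with rfl | hT0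
    · simp
    have h1 := congrArg Polynomial.natDegree hT
    have h3 : (Z * (1 - Polynomial.X)).natDegree ≤ r + 1 := by
      refine Polynomial.natDegree_mul_le.trans (add_le_add hZd ?_)
      refine (Polynomial.natDegree_sub_le _ _).trans ?_
      simp
    rw [hp1.natDegree_mul' hT0, hdeg] at h1
    omega
  have hs : t * s = 0 := by
    have := congrArg (Polynomial.eval 1) hT
    simp only [Polynomial.eval_mul, Polynomial.eval_sub, Polynomial.eval_one, Polynomial.eval_X,
      sub_self, mul_zero, hp, Polynomial.eval_finset_sum, Polynomial.eval_C, Polynomial.eval_pow,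
      one_pow, mul_one] at this
    rw [mul_comm]; exact this.symm
  have hZ : Z + Polynomial.C t * V = 0 := by
    have h : (Z + Polynomial.C t * V) * (Polynomial.X - 1) = 0 := by
      have hs' : Polynomial.C t * Polynomial.C s = 0 := by rw [← map_mul, hs, map_zero]
      linear_combination -hT - Polynomial.C t * hV - hs'
    exact ((Polynomial.monic_X_sub_C (1 : K)).mul_left_eq_zero_iff).1 (by simpa using h)
  have hVq : AdjoinRoot.mk (KRR.extPoly P e) V = @KRR.lamAlt _ _ inst Pe ((AdjoinRoot.of (KRR.extPoly P e)) e - (AdjoinRoot.root (KRR.extPoly P e))) := by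
    simp [hq, V]
  have hzq : AdjoinRoot.mk (KRR.extPoly P e) Z = (AdjoinRoot.of (KRR.extPoly P e)) (-t) * @KRR.lamAlt _ _ inst Pe ((AdjoinRoot.of (KRR.extPoly P e)) e - (AdjoinRoot.root (KRR.extPoly P e))) := by
    rw [eq_neg_of_add_eq_zero_left hZ, map_neg, map_mul, hVq, AdjoinRoot.mk_C, map_neg, neg_mul]
  have hfq : f (@KRR.lamAlt _ _ inst Pe ((AdjoinRoot.of (KRR.extPoly P e)) e - (AdjoinRoot.root (KRR.extPoly P e)))) = 1 := by
    rw [KRR.lamAlt, map_sum, sum_eq_single 0]
    · rw [pow_zero, one_mul, functional_lam_sub_root inst hext hroot he r hr f hf, if_pos rfl]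
    · intro i _ hi
      rw [show (-1 : AdjoinRoot (KRR.extPoly P e)) ^ i = (AdjoinRoot.of (KRR.extPoly P e)) ((-1 : K) ^ i) by simp, of_mul_eq_smul,
        map_smul, functional_lam_sub_root inst hext hroot he r hr f hf, if_neg hi, smul_zero]
    · simp
  rw [hzq]
  congr 2
  rw [of_mul_eq_smul, map_smul, hfq, smul_eq_mul, mul_one]

end Extension

end Groth.Agent.Lambda
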