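import Groth.Agent.Lib.Lambda.Universal

/-!
λ^n, γ^n and ψ^n of a polynomial expression in γ-operations are again such expressions.
-/

universe v

open Finset MvPolynomial

namespace Groth.Agent.Lambda

open LambdaRing (LambdaOps adamsOp gamma IsSpecial)

/-- Polynomial expressions in the γ-operations of one element. -/
abbrev GCoef : Type := MvPolynomial ℕ ℤ

/-- Polynomial expressions in the γ-operations of `q` elements, with coefficients expressions in
one further element. -/
abbrev GPoly (q : ℕ) : Type := MvPolynomial (Fin q × ℕ) GCoef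

variable {K : Type v} [CommRing K] [LambdaOps K] {q : ℕ}

/-- Evaluation of coefficient expressions. -/
noncomputable def evC (b : K) : GCoef →+* K :=
  eval₂Hom (Int.castRingHom K) fun j => gamma (j + 1) b

/-- Evaluation of expressions. -/
noncomputable def ev (b : K) (x : Fin q → K) : GPoly q →+* K :=
  eval₂Hom (evC b) fun p => gamma (p.2 + 1) (x p.1)

@[simp] lemma evC_X (b : K) (j : ℕ) : evC b (X j) = gamma (j + 1) b := by simp [evC]

@[simp] lemma ev_X (b : K) (x : Fin q → K) (p : Fin q × ℕ) :
    ev b x (X p) = gamma (p.2 + 1) (x p.1) := by simp [ev]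

@[simp] lemma ev_C (b : K) (x : Fin q → K) (c : GCoef) : ev b x (C c) = evC b c := by simp [ev]

/-- λ^n of the expression is an expression, uniformly in the special λ-ring. -/
def LamRep (f : GPoly q) : Prop :=
  ∀ n, ∃ g : GPoly q, ∀ (K : Type v) [CommRing K] [LambdaOps K], IsSpecial K →
    ∀ (b : K) (x : Fin q → K), LambdaOps.lam n (ev b x f) = ev b x g

lemma LamRep.of_eq {f f' : GPoly q} (h : LamRep.{v} f)
    (he : ∀ (K : Type v) [CommRing K] [LambdaOps K] (b : K) (x : Fin q → K),
      ev b x f' = ev b x f) : LamRep.{v} f' := by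
  intro n
  obtain ⟨g, hg⟩ := h n
  exact ⟨g, fun K _ _ hK b x => by rw [he]; exact hg K hK b x⟩

lemma LamRep.one : LamRep.{v} (1 : GPoly q) := fun n =>
  ⟨if n ≤ 1 then 1 else 0, fun K _ _ hK b x => by
    match n with
    | 0 => simp [LambdaOps.lam_zero]
    | 1 => simp [LambdaOps.lam_one]
    | n + 2 => simp [hK.lam_one_eq_zero (n + 2) (by omega)]⟩

lemma LamRep.zero : LamRep.{v} (0 : GPoly q) := fun n =>
  ⟨if n = 0 then 1 else 0, fun K _ _ hK b x => by
    rw [map_zero, lam_zero_right]; split_ifs <;> simp⟩

lemma LamRep.add {f f' : GPoly q} (h : LamRep.{v} f) (h' : LamRep.{v} f') :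
    LamRep.{v} (f + f') := by
  intro n
  choose g hg using h
  choose g' hg' using h'
  exact ⟨∑ i ∈ range (n + 1), g i * g' (n - i), fun K _ _ hK b x => by
    rw [map_add, LambdaOps.lam_add, map_sum]
    exact Finset.sum_congr rfl fun i _ => by rw [map_mul, hg i K hK, hg' (n - i) K hK]⟩

lemma LamRep.sum {ι : Type*} (s : Finset ι) {f : ι → GPoly q} (h : ∀ i ∈ s, LamRep.{v} (f i)) :
    LamRep.{v} (∑ i ∈ s, f i) := by
  classical
  induction s using Finset.induction with
  | empty => simpa using LamRep.zero
  | insert a s ha ih =>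
    rw [Finset.sum_insert ha]
    exact (h a (Finset.mem_insert_self a s)).add (ih fun i hi => h i (Finset.mem_insert_of_mem hi))

lemma LamRep.neg {f : GPoly q} (h : LamRep.{v} f) : LamRep.{v} (-f) := by
  intro n
  choose g hg using h
  induction n using Nat.strong_induction_on with
  | _ n ih =>
    cases n with
    | zero => exact ⟨1, fun K _ _ hK b x => by simp [LambdaOps.lam_zero]⟩
    | succ n =>
      choose g' hg' using fun (i : Fin (n + 1)) => ih i i.2
      refine ⟨- ∑ i : Fin (n + 1), g' i * g (n + 1 - i), fun K _ _ hK b x => ?_⟩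
      have h0 := LambdaOps.lam_add (n + 1) (-(ev b x f)) (ev b x f)
      rw [neg_add_cancel, lam_zero_right, if_neg (by omega), Finset.sum_range_succ,
        Nat.sub_self, LambdaOps.lam_zero, mul_one] at h0
      rw [map_neg, map_neg, map_sum, eq_neg_iff_add_eq_zero]
      rw [eq_comm, add_comm] at h0
      refine Eq.trans ?_ h0
      congr 1
      rw [← Fin.sum_univ_eq_sum_range]
      exact Finset.sum_congr rfl fun i _ => by rw [map_mul, ← hg' i K hK, map_neg, hg _ K hK]

lemma LamRep.mul {f f' : GPoly q} (h : LamRep.{v} f) (h' : LamRep.{v} f') :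
    LamRep.{v} (f * f') := by
  intro n
  choose g hg using h
  choose g' hg' using h'
  obtain ⟨P, hP⟩ := exists_isMulPoly n
  refine ⟨aeval (Sum.elim (fun k : Fin n => g (k + 1)) (fun k : Fin n => g' (k + 1))) P,
    fun K _ _ hK b x => ?_⟩
  rw [aeval_int_comm, map_mul, hK.lam_mul n P hP]
  refine aeval_int_congr (fun k => ?_) P
  rcases k with k | k <;> simp [← hg _ K hK, ← hg' _ K hK]

lemma LamRep.intCast (m : ℤ) : LamRep.{v} (m : GPoly q) := by
  induction m using Int.induction_on with
  | zero => simpa using LamRep.zero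
  | succ i ih => push_cast at ih ⊢; exact ih.add LamRep.one
  | pred i ih => push_cast at ih ⊢; rw [sub_eq_add_neg]; exact ih.add LamRep.one.neg

/-- A choice of one of the generators. -/
abbrev Gen (q : ℕ) := Option (Fin q)

/-- The element belonging to a generator. -/
def genElem (b : K) (x : Fin q → K) : Gen q → K
  | none => b
  | some s => x s

/-- The expression of γ^(j+1) of a generator. -/
noncomputable def genVar : Gen q → ℕ → GPoly q
  | none, j => C (X j)
  | some s, j => X (s, j)

lemma ev_genVar (b : K) (x : Fin q → K) (s : Gen q) (j : ℕ) :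
    ev b x (genVar s j) = gamma (j + 1) (genElem b x s) := by
  cases s <;> simp [genVar, genElem]

lemma exists_lam_gen (s : Gen q) (n : ℕ) :
    ∃ g : GPoly q, ∀ (K : Type v) [CommRing K] [LambdaOps K] (b : K) (x : Fin q → K),
      LambdaOps.lam n (genElem b x s) = ev b x g := by
  induction n using Nat.strong_induction_on with
  | _ n ih =>
    cases n with
    | zero => exact ⟨1, fun K _ _ b x => by simp [LambdaOps.lam_zero]⟩
    | succ n =>
      choose g hg using fun (i : Fin (n + 1)) => ih i i.2
      refine ⟨genVar s n - ∑ i : Fin (n + 1),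
        (n.choose ((i : ℕ) - 1) : GPoly q) * if (i : ℕ) = 0 then 0 else g i, fun K _ _ b x => ?_⟩
      rw [map_sub, ev_genVar, map_sum, LambdaRing.gamma, if_neg (by omega),
        Finset.sum_range_succ, Nat.add_sub_cancel, Nat.choose_self, Nat.cast_one, one_mul,
        if_neg (by omega), ← Fin.sum_univ_eq_sum_range, eq_sub_iff_add_eq, add_comm]
      congr 1
      exact Finset.sum_congr rfl fun i _ => by
        rw [map_mul, map_natCast, apply_ite (ev b x), map_zero, ← hg]

lemma lamRep_genVar (s : Gen q) (j : ℕ) : LamRep.{v} (genVar s j) := by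
  choose g hg using exists_lam_gen.{v} s
  have hl : ∀ i, LamRep.{v} (g i) := by
    intro i n
    obtain ⟨Q, hQ⟩ := exists_isCompPoly i n
    refine ⟨aeval (fun k : Fin (i * n) => g (k + 1)) Q, fun K _ _ hK b x => ?_⟩
    rw [← hg, aeval_int_comm, hK.lam_lam i n Q hQ]
    exact aeval_int_congr (fun k => hg _ K b x) Q
  refine LamRep.of_eq
    (f := ∑ i ∈ range (j + 1 + 1), (((j.choose (i - 1) : ℕ) : ℤ) : GPoly q) * if i = 0 then 0 else g i)
    (LamRep.sum _ fun i _ => (LamRep.intCast _).mul ?_) (fun K _ _ b x => ?_)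
  · split_ifs
    · exact LamRep.zero
    · exact hl i
  · rw [ev_genVar, map_sum, LambdaRing.gamma, if_neg (by omega)]
    refine Finset.sum_congr rfl fun i _ => ?_
    simp [apply_ite (ev b x), ← hg]

lemma lamRep (f : GPoly q) : LamRep.{v} f := by
  induction f using MvPolynomial.induction_on with
  | C c =>
    induction c using MvPolynomial.induction_on with
    | C m =>
      rw [show (C (C m : GCoef) : GPoly q) = (m : GPoly q) by simp]
      exact LamRep.intCast m
    | add a b ha hb => rw [map_add]; exact ha.add hb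
    | mul_X a j ha => rw [map_mul]; exact ha.mul (lamRep_genVar none j)
  | add a b ha hb => exact ha.add hb
  | mul_X a p ha => exact ha.mul (lamRep_genVar (some p.1) p.2)

lemma exists_lam_op (f : GPoly q) (n : ℕ) :
    ∃ g : GPoly q, ∀ (K : Type v) [CommRing K] [LambdaOps K], IsSpecial K →
      ∀ (b : K) (x : Fin q → K), LambdaOps.lam n (ev b x f) = ev b x g :=
  lamRep f n

lemma exists_gamma_op (f : GPoly q) (n : ℕ) :
    ∃ g : GPoly q, ∀ (K : Type v) [CommRing K] [LambdaOps K], IsSpecial K →
      ∀ (b : K) (x : Fin q → K), gamma n (ev b x f) = ev b x g := by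
  choose g hg using exists_lam_op.{v} f
  rcases Nat.eq_zero_or_pos n with rfl | hn
  · exact ⟨1, fun K _ _ hK b x => by simp [gamma_zero]⟩
  refine ⟨∑ i ∈ range (n + 1), ((n - 1).choose (i - 1) : GPoly q) * if i = 0 then 0 else g i,
    fun K _ _ hK b x => ?_⟩
  rw [LambdaRing.gamma, if_neg hn.ne', map_sum]
  exact Finset.sum_congr rfl fun i _ => by simp [apply_ite (ev b x), hg i K hK]

lemma exists_adams_op (f : GPoly q) (n : ℕ) :
    ∃ g : GPoly q, ∀ (K : Type v) [CommRing K] [LambdaOps K], IsSpecial K →
      ∀ (b : K) (x : Fin q → K), adamsOp (n + 1) (ev b x f) = ev b x g := by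
  choose l hl using exists_lam_op.{v} f
  induction n using Nat.strong_induction_on with
  | _ n ih =>
    choose g hg using fun (i : Fin n) => ih i i.2
    refine ⟨(-1) ^ n * (((n + 1 : ℕ) : GPoly q) * l (n + 1) -
      ∑ a : Fin n, (-1) ^ (a : ℕ) * g a * l (n - a)), fun K _ _ hK b x => ?_⟩
    have h := lam_succ_newton n (ev b x f)
    rw [Finset.sum_range_succ, Nat.sub_self, LambdaOps.lam_zero, mul_one] at h
    have h2 : ∑ a ∈ range n, (-1) ^ a * adamsOp (a + 1) (ev b x f) * LambdaOps.lam (n - a) (ev b x f) =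
        ev b x (∑ a : Fin n, (-1) ^ (a : ℕ) * g a * l (n - a)) := by
      rw [← Fin.sum_univ_eq_sum_range, map_sum]
      exact Finset.sum_congr rfl fun a _ => by simp [hg a K hK, hl _ K hK]
    rw [h2, hl (n + 1) K hK] at h
    rw [map_mul, map_sub, map_mul, map_natCast, h, add_sub_cancel_left, map_pow, map_neg, map_one,
      ← mul_assoc, ← mul_pow, neg_mul_neg, one_mul, one_pow, one_mul]

end Groth.Agent.Lambda
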