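import Groth.Agent.Lib.Lambda.Model
import Groth.Agent.Lib.Lambda.Op
import Mathlib.RingTheory.Localization.FractionRing

/-!
Reading off an expression in γ-operations from its values on the models.
-/

universe u v

open Finset

namespace Groth.Agent.Lambda

open LambdaRing (LambdaOps adamsOp gamma IsSpecial IsBinomial IsLambdaAlg)
open MvPolynomial

section Sigma

variable {σ σ' τ τ' : Type}

lemma StInj.reindex {k : Type} [CommRing k] {f : σ → MvPolynomial σ' k} (h : StInj f)
    (e : τ ≃ σ) (e' : σ' ≃ τ') : StInj (fun t => rename e' (f (e t))) := by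
  intro R _ _
  have key : (aeval (fun t => MvPolynomial.map (algebraMap k R) (rename e' (f (e t)))) :
      MvPolynomial τ R →ₐ[R] MvPolynomial τ' R) =
    ((rename e').comp (aeval (fun i => MvPolynomial.map (algebraMap k R) (f i)))).comp (rename e) := by
    refine MvPolynomial.algHom_ext fun t => ?_
    simp [map_rename]
  rw [key]
  simp only [AlgHom.coe_comp]
  exact ((rename_injective _ e'.injective).comp (h R)).comp (rename_injective _ e.injective)

/-- The elementary symmetric functions in several families of variables. -/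
noncomputable def fam {q : ℕ} (r : Fin q → ℕ) (p : Σ s, Fin (r s)) :
    MvPolynomial (Σ s, Fin (r s)) ℚ :=
  rename (Sigma.mk p.1) (esymm (Fin (r p.1)) ℚ ((p.2 : ℕ) + 1))

lemma stInj_fam : ∀ (q : ℕ) (r : Fin q → ℕ), StInj (fam r) := by
  intro q
  induction q with
  | zero =>
    intro r R _ _ a b hab
    obtain ⟨a', rfl⟩ := MvPolynomial.C_surjective (R := R) (Σ s, Fin (r s)) a
    obtain ⟨b', rfl⟩ := MvPolynomial.C_surjective (R := R) (Σ s, Fin (r s)) b
    simpa using hab
  | succ q ih =>
    intro r
    let e : (Σ s, Fin (r s)) ≃ Fin (r 0) ⊕ Σ s : Fin q, Fin (r s.succ) :=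
      { toFun := fun p => Fin.cases (motive := fun s => Fin (r s) → Fin (r 0) ⊕ Σ s : Fin q, Fin (r s.succ))
          (fun j => Sum.inl j) (fun s j => Sum.inr ⟨s, j⟩) p.1 p.2
        invFun := Sum.elim (fun j => ⟨0, j⟩) (fun p => ⟨p.1.succ, p.2⟩)
        left_inv := by
          rintro ⟨s, j⟩
          induction s using Fin.cases <;> simp
        right_inv := by rintro (j | ⟨s, j⟩) <;> simp }
    have h := ((stInj_esymm ℚ (Fin (r 0)) (r 0) (by simp)).sum (ih fun s => r s.succ)).reindex e e.symm
    have : fam r = fun p => rename e.symm (Sum.elim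
        (fun i : Fin (r 0) => rename Sum.inl (esymm (Fin (r 0)) ℚ ((i : ℕ) + 1)))
        (fun i => rename Sum.inr (fam (fun s => r s.succ) i)) (e p)) := by
      funext ⟨s, j⟩
      induction s using Fin.cases <;> simp [fam, e, rename_rename] <;> rfl
    rw [this]
    exact h

end Sigma

section Models

variable {q : ℕ}

/-- The weight of a monomial: the generator in γ^(j+1) has weight j+1. -/
noncomputable def wt (d : Fin q × ℕ →₀ ℕ) : ℕ := d.sum fun p k => k * (p.2 + 1)

lemma wt_add (d d' : Fin q × ℕ →₀ ℕ) : wt (d + d') = wt d + wt d' :=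
  Finsupp.sum_add_index' (fun _ => by simp) (fun _ _ _ => by ring)

lemma wt_single (p : Fin q × ℕ) (k : ℕ) : wt (Finsupp.single p k) = k * (p.2 + 1) := by
  simp [wt]

/-- The coefficient map of the models. -/
noncomputable def binHom : GCoef →+* Polynomial ℚ :=
  eval₂Hom (Int.castRingHom _) fun j => binGamma (Polynomial.X : Polynomial ℚ) (j + 1)

/-- The coefficient ring of the model with given ranks, in an arbitrary universe. -/
abbrev ModelRing.{w} (r : Fin q → ℕ) : Type w :=
  ULift.{w} (MvPolynomial (Σ s, Fin (r s)) (Polynomial ℚ))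

/-- The embedding into the coefficient ring of a model. -/
noncomputable def upHom (r : Fin q → ℕ) :
    MvPolynomial (Σ s, Fin (r s)) (Polynomial ℚ) →+* ModelRing.{v} r :=
  (ULift.ringEquiv.symm : _ ≃+* ModelRing.{v} r).toRingHom

attribute [local instance] modelOps

/-- The value of an expression in the model with given ranks. -/
noncomputable def mev (r : Fin q → ℕ) : GPoly q →+* PowerSeries (ModelRing.{v} r) :=
  ev (PowerSeries.C (upHom r (C Polynomial.X)))
    fun s => rankElem fun a => upHom r (X ⟨s, a⟩)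

/-- The restriction of an expression to the generators within the given ranks. -/
noncomputable def restrictHom (r : Fin q → ℕ) :
    GPoly q →+* MvPolynomial (Σ s, Fin (r s)) (Polynomial ℚ) :=
  eval₂Hom (C.comp binHom) fun p => if h : p.2 < r p.1 then X ⟨p.1, ⟨p.2, h⟩⟩ else 0

/-- All variables of the monomial lie within the given ranks. -/
def InRange (r : Fin q → ℕ) (d : Fin q × ℕ →₀ ℕ) : Prop := ∀ p ∈ d.support, p.2 < r p.1

lemma coeff_rename_restrict (r : Fin q → ℕ) (f : GPoly q) (d : Fin q × ℕ →₀ ℕ)
    (hd : InRange r d) :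
    coeff d (rename (fun p : Σ s, Fin (r s) => (p.1, (p.2 : ℕ))) (restrictHom r f)) =
      binHom (coeff d f) := by
  classical
  induction f using MvPolynomial.induction_on' with
  | monomial e c =>
    rw [restrictHom, eval₂Hom_monomial, map_mul, RingHom.comp_apply, rename_C, coeff_C_mul,
      Finsupp.prod, map_prod, coeff_monomial]
    by_cases he : InRange r e
    · rw [Finset.prod_congr rfl (g := fun p => (X p : MvPolynomial (Fin q × ℕ) (Polynomial ℚ)) ^ e p)
        (fun p hp => by rw [map_pow, dif_pos (he p hp), rename_X])]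
      rw [show ∏ p ∈ e.support, (X p : MvPolynomial (Fin q × ℕ) (Polynomial ℚ)) ^ e p = monomial e 1 by
        rw [monomial_eq, C_1, one_mul, Finsupp.prod], coeff_monomial]
      split_ifs <;> simp
    · rw [if_neg (fun h => he (by rw [h]; exact hd)), map_zero]
      simp only [InRange, not_forall] at he
      obtain ⟨p, hp, hp'⟩ := he
      rw [Finset.prod_eq_zero hp]
      · simp
      · rw [map_pow, dif_neg hp', map_zero, zero_pow (Finsupp.mem_support_iff.1 hp)]
  | add a b ha hb => simp only [map_add, coeff_add, ha, hb]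

lemma mev_C (r : Fin q → ℕ) (c : GCoef) :
    mev.{v} r (C c) = PowerSeries.C (upHom.{v} r (C (binHom c))) := by
  rw [mev, ev_C]
  have : (evC (PowerSeries.C (upHom r (C Polynomial.X)) : PowerSeries (ModelRing.{v} r))) =
      (PowerSeries.C.comp ((upHom.{v} r).comp (C.comp binHom))) := by
    refine MvPolynomial.ringHom_ext (fun m => by simp) fun j => ?_
    have hnat : ∀ (φ : Polynomial ℚ →+* ModelRing.{v} r) (n : ℕ),
        φ (binGamma Polynomial.X n) = binGamma (φ Polynomial.X) n := by
      intro φ n
      unfold binGamma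
      split_ifs
      · simp
      · simp [map_sum, apply_ite φ, map_E]
    simp only [evC_X, gamma_C, RingHom.comp_apply, binHom, eval₂Hom_X']
    exact congrArg _ (hnat ((upHom r).comp C) (j + 1)).symm
  rw [this]; rfl

/-- The leading values. -/
noncomputable def leadHom (r : Fin q → ℕ) : GPoly q →+* ModelRing.{v} r :=
  eval₂Hom ((upHom r).comp (C.comp binHom))
    fun p => ((univ : Finset (Fin (r p.1))).val.map fun a => upHom r (X ⟨p.1, a⟩)).esymm (p.2 + 1)

lemma leadHom_eq (r : Fin q → ℕ) (f : GPoly q) :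
    leadHom.{v} r f = upHom r
      (aeval (fun i => MvPolynomial.map (algebraMap ℚ (Polynomial ℚ)) (fam r i)) (restrictHom r f)) := by
  induction f using MvPolynomial.induction_on with
  | C c => simp [leadHom, restrictHom]
  | add a b ha hb => simp only [map_add, ha, hb]
  | mul_X a p ha =>
    rw [map_mul, map_mul, map_mul, map_mul, ha]
    congr 1
    simp only [leadHom, restrictHom, eval₂Hom_X']
    split_ifs with h
    · rw [aeval_X, fam, map_rename, map_esymm, esymm_eq_multiset_esymm,
        ← RingHom.coe_coe (rename (R := Polynomial ℚ) (Sigma.mk p.1)), esymm_map_hom, esymm_map_hom]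
      simp
    · rw [Finset.esymm_map_val, Finset.powersetCard_eq_empty.2 (by simp; omega)]
      simp

lemma mev_monomial (r : Fin q → ℕ) (d : Fin q × ℕ →₀ ℕ) (c : GCoef) :
    PowerSeries.X ^ wt d ∣ mev.{v} r (monomial d c) ∧
      PowerSeries.coeff (wt d) (mev.{v} r (monomial d c)) = leadHom.{v} r (monomial d c) := by
  classical
  induction d using Finsupp.induction with
  | zero =>
    rw [← C_apply, mev_C, show wt (0 : Fin q × ℕ →₀ ℕ) = 0 by simp [wt]]
    simp [leadHom]
  | single_add p k d hp hk ih =>
    rw [monomial_single_add, map_mul (mev.{v} r), map_mul (leadHom.{v} r), map_pow (mev.{v} r),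
      map_pow (leadHom.{v} r), wt_add, wt_single]
    have h1 : PowerSeries.X ^ (p.2 + 1) ∣ mev.{v} r (X p) ∧
        PowerSeries.coeff (p.2 + 1) (mev.{v} r (X p)) = leadHom.{v} r (X p) := by
      simp only [mev, ev_X, leadHom, eval₂Hom_X']
      exact gamma_rankElem _ _
    obtain ⟨⟨a, ha⟩, h1'⟩ := h1
    obtain ⟨⟨b, hb⟩, ih'⟩ := ih
    rw [ha] at h1' ⊢
    rw [hb] at ih' ⊢
    rw [PowerSeries.coeff_X_pow_mul', if_pos le_rfl, Nat.sub_self] at h1' ih'
    rw [← h1', ← ih', mul_pow, ← pow_mul, mul_comm (p.2 + 1) k,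
      show ∀ i j : ℕ, (PowerSeries.X ^ i * a ^ k * (PowerSeries.X ^ j * b) :
        PowerSeries (ModelRing.{v} r)) = PowerSeries.X ^ (i + j) * (a ^ k * b) from
        fun i j => by rw [pow_add]; ring]
    refine ⟨Dvd.intro _ rfl, ?_⟩
    rw [PowerSeries.coeff_X_pow_mul', if_pos le_rfl, Nat.sub_self]
    simp

lemma mev_monomial_eq_zero (r : Fin q → ℕ) (d : Fin q × ℕ →₀ ℕ) (c : GCoef)
    (h : binHom c = 0 ∨ ¬ InRange r d) : mev.{v} r (monomial d c) = 0 := by
  classical
  rw [MvPolynomial.monomial_eq, map_mul, mev_C]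
  rcases h with h | h
  · simp [h]
  · simp only [InRange, not_forall] at h
    obtain ⟨p, hp, hp'⟩ := h
    rw [Finsupp.prod, map_prod, Finset.prod_eq_zero hp, mul_zero]
    rw [map_pow, mev, ev_X, gamma_rankElem_eq_zero _ _ (by simp; omega),
      zero_pow (Finsupp.mem_support_iff.1 hp)]

/-- The key lemma: low-weight monomials of an expression of high order in the model vanish. -/
lemma binHom_coeff_eq_zero (r : Fin q → ℕ) (f : GPoly q) (M : ℕ)
    (hf : PowerSeries.X ^ M ∣ mev.{v} r f) (d : Fin q × ℕ →₀ ℕ) (hd : InRange r d) (hw : wt d < M) :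
    binHom (coeff d f) = 0 := by
  classical
  suffices h : ∀ w, w < M → ∀ d, InRange r d → wt d = w → binHom (coeff d f) = 0 from
    h _ hw d hd rfl
  clear hd hw d
  intro w
  induction w using Nat.strong_induction_on with
  | _ w ih =>
    intro hw
    set fw := ∑ d ∈ f.support.filter (fun d => wt d = w), monomial d (coeff d f) with hfw
    have h0 : PowerSeries.coeff w (mev.{v} r f) = 0 := PowerSeries.X_pow_dvd_iff.1 hf w hw
    have h1 : PowerSeries.coeff w (mev.{v} r f) = leadHom.{v} r fw := by
      conv_lhs => rw [f.as_sum]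
      rw [hfw, map_sum, map_sum, map_sum, Finset.sum_filter]
      refine Finset.sum_congr rfl fun d hd => ?_
      split_ifs with h
      · subst h; exact (mev_monomial r d _).2
      · rcases Nat.lt_or_ge (wt d) w with h' | h'
        · rw [mev_monomial_eq_zero r d _, map_zero]
          by_cases hr : InRange r d
          · exact Or.inl (ih (wt d) h' (by omega) d hr rfl)
          · exact Or.inr hr
        · exact PowerSeries.X_pow_dvd_iff.1 (mev_monomial r d _).1 w (by omega)
    rw [h1, leadHom_eq] at h0
    have h2 : restrictHom r fw = 0 := by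
      refine (stInj_fam q r (Polynomial ℚ)) ?_
      rw [map_zero]
      exact (ULift.ringEquiv.symm : _ ≃+* ModelRing.{v} r).injective (h0.trans (map_zero _).symm)
    intro d hd hdw
    have h3 := coeff_rename_restrict r fw d hd
    rw [h2, map_zero, coeff_zero] at h3
    rw [h3, hfw, coeff_sum]
    congr 1
    simp only [coeff_monomial, Finset.sum_ite_eq', Finset.mem_filter, hdw, and_true]
    split_ifs with hs
    · rfl
    · exact notMem_support_iff.1 hs

/-- Every model value of the expression is divisible by `h ^ M`. -/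
def ModelDvd (f : GPoly q) (M : ℕ) : Prop := ∀ r : Fin q → ℕ, PowerSeries.X ^ M ∣ mev.{v} r f

lemma modelDvd_monomial (d : Fin q × ℕ →₀ ℕ) (c : GCoef) (M : ℕ) (h : M ≤ wt d) :
    ModelDvd.{v} (monomial d c) M := fun r => (pow_dvd_pow _ h).trans (mev_monomial r d c).1

lemma ModelDvd.binHom_eq_zero {f : GPoly q} {M : ℕ} (h : ModelDvd.{v} f M)
    (d : Fin q × ℕ →₀ ℕ) (hw : wt d < M) : binHom (coeff d f) = 0 := by
  refine binHom_coeff_eq_zero (fun s => d.support.sup (fun p => p.2 + 1)) f M (h _) d (fun p hp => ?_) hw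
  exact Nat.lt_of_succ_le (Finset.le_sup (f := fun p => p.2 + 1) hp)

lemma killed_coeff_eq_zero {f : GPoly q} (s₀ : Fin q) (k : ℕ)
    (h : ∀ r : Fin q → ℕ, r s₀ = k → mev.{v} r f = 0) (d : Fin q × ℕ →₀ ℕ)
    (hd : ∀ p ∈ d.support, p.1 = s₀ → p.2 < k) : binHom (coeff d f) = 0 := by
  classical
  refine binHom_coeff_eq_zero
    (Function.update (fun _ => d.support.sup fun p => p.2 + 1) s₀ k) f (wt d + 1) ?_ d
    (fun p hp => ?_) (by omega)
  · rw [h _ (Function.update_self ..)]; exact dvd_zero _
  · by_cases hs : p.1 = s₀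
    · rw [hs, Function.update_self]; exact hd p hp hs
    · rw [Function.update_of_ne hs]
      exact Nat.lt_of_succ_le (Finset.le_sup (f := fun p => p.2 + 1) hp)

lemma gamma_op_mev {f g : GPoly q} {n : ℕ}
    (hg : ∀ (K : Type v) [CommRing K] [LambdaOps K], IsSpecial K →
      ∀ (b : K) (x : Fin q → K), gamma n (ev b x f) = ev b x g) (r : Fin q → ℕ) :
    gamma n (mev.{v} r f) = mev.{v} r g :=
  hg (PowerSeries (ModelRing.{v} r)) isSpecial_model _ _

lemma ModelDvd.gamma_op {f g : GPoly q} {m n : ℕ} (hf : ModelDvd.{v} f m) (hm : 1 ≤ m) (hn : 1 ≤ n)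
    (hg : ∀ (K : Type v) [CommRing K] [LambdaOps K], IsSpecial K →
      ∀ (b : K) (x : Fin q → K), gamma n (ev b x f) = ev b x g) :
    ModelDvd.{v} g (max n m) := by
  intro r
  rw [← gamma_op_mev hg]
  exact gamma_ord _ m hm (hf r) n hn

lemma ModelDvd.gamma_op_sub {f g : GPoly q} {m : ℕ} (hf : ModelDvd.{v} f m) (hm : 1 ≤ m)
    (hg : ∀ (K : Type v) [CommRing K] [LambdaOps K], IsSpecial K →
      ∀ (b : K) (x : Fin q → K), gamma m (ev b x f) = ev b x g) :
    ModelDvd.{v} (g - (-1) ^ (m - 1) * ((m - 1).factorial : GPoly q) * f) (m + 1) := by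
  intro r
  rw [map_sub, ← gamma_op_mev hg, map_mul, map_mul, map_pow, map_neg, map_one, map_natCast,
    PowerSeries.X_pow_dvd_iff]
  intro j hj
  rw [map_sub, show ((-1) ^ (m - 1) * ((m - 1).factorial : PowerSeries (ModelRing.{v} r))) =
    PowerSeries.C ((-1) ^ (m - 1) * ((m - 1).factorial : ModelRing.{v} r)) by simp,
    PowerSeries.coeff_C_mul]
  rcases Nat.lt_or_ge j m with h | h
  · have h1 := gamma_ord _ m hm (hf r) m hm
    rw [max_self] at h1
    rw [PowerSeries.X_pow_dvd_iff.1 h1 j h, PowerSeries.X_pow_dvd_iff.1 (hf r) j h]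
    simp
  · rw [show j = m by omega, gamma_lead _ m hm (hf r), sub_self]

end Models

section BinElt

variable {A : Type v} [CommRing A] [LambdaOps A]

/-- An element all whose integral γ-relations hold for an element fixed by all Adams operations. -/
def BinElt (b : A) : Prop := ∀ c : GCoef, binHom c = 0 → evC b c = 0

lemma exists_binomial_embedding (K : Type u) [CommRing K] [BinomialRing K] :
    ∃ (L : Type u) (_ : CommRing L) (_ : Algebra ℚ L) (φ : K →+* L), Function.Injective φ ∧
      ∀ (c : K) (j : ℕ), φ (Ring.choose c j) = E (fun _ => φ c) j := by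
  classical
  let L := Localization (Algebra.algebraMapSubmonoid K (nonZeroDivisors ℤ))
  have hle : Algebra.algebraMapSubmonoid K (nonZeroDivisors ℤ) ≤ nonZeroDivisors K := by
    rintro _ ⟨m, hm, rfl⟩
    have hm0 : m ≠ 0 := nonZeroDivisors.ne_zero hm
    have : IsAddTorsionFree K := BinomialRing.toIsAddTorsionFree
    rw [mem_nonZeroDivisors_iff_right]
    intro x hx
    rw [eq_intCast, mul_comm, ← zsmul_eq_mul] at hx
    exact (smul_eq_zero.1 hx).resolve_left hm0
  let _ : Algebra ℚ L := RingHom.toAlgebra (IsLocalization.lift (M := nonZeroDivisors ℤ) (S := ℚ)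
    (g := algebraMap ℤ L) fun y => by
      rw [IsScalarTower.algebraMap_apply ℤ K L]
      exact IsLocalization.map_units L (⟨algebraMap ℤ K y.1,
        Algebra.mem_algebraMapSubmonoid_of_mem y⟩ : Algebra.algebraMapSubmonoid K (nonZeroDivisors ℤ)))
  have hinj : Function.Injective (algebraMap K L) := IsLocalization.injective L hle
  refine ⟨L, inferInstance, inferInstance, algebraMap K L, hinj, fun c => ?_⟩
  have hch : ∀ j, algebraMap K L (Ring.choose c j) = E (fun _ => algebraMap K L c) j := by
    intro j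
    refine eq_E (fun _ => algebraMap K L c) (fun j => algebraMap K L (Ring.choose c j)) j
      (by simp) (fun m hm => ?_) j le_rfl
    clear hm
    rw [← map_natCast (algebraMap K L) (m + 1), ← map_mul,
      Finset.sum_congr rfl (g := fun a => algebraMap K L ((-1) ^ a * c * Ring.choose c (m - a)))
        (fun a _ => by simp), ← map_sum]
    congr 1
    have step : ∀ j, ((j + 1 : ℕ) : K) * Ring.choose c (j + 1) = (c - (j : K)) * Ring.choose c j := by
      intro j
      have := Ring.choose_smul_choose c (Nat.le_succ j)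
      rw [Nat.choose_succ_self_right, Nat.succ_sub (le_refl j), Nat.sub_self, Ring.choose_one_right,
        nsmul_eq_mul] at this
      rw [this, mul_comm]
    induction m with
    | zero => simp [Ring.choose_zero_right, Ring.choose_one_right]
    | succ m ih =>
      rw [step, Finset.sum_range_succ']
      simp only [Nat.add_sub_add_right, pow_succ', neg_mul, one_mul, Finset.sum_neg_distrib, pow_zero,
        Nat.sub_zero]
      rw [← ih]
      push_cast
      ring
  exact hch

lemma binElt_algebraMap {K : Type u} [CommRing K] [LambdaOps K] [BinomialRing K]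
    [Algebra K A] (hKb : IsBinomial K) (hA : IsLambdaAlg K A) (c : K) :
    BinElt (algebraMap K A c) := by
  classical
  intro Φ hΦ
  have hg : ∀ n, gamma n (algebraMap K A c) = algebraMap K A (gamma n c) := by
    intro n
    unfold LambdaRing.gamma
    split_ifs
    · simp
    · simp [map_sum, apply_ite (algebraMap K A), fun n x => (hA n x).symm]
  have hev : evC (algebraMap K A c) = (algebraMap K A).comp (evC c) :=
    MvPolynomial.ringHom_ext (fun m => by simp) fun j => by simp [hg]
  rw [hev, RingHom.comp_apply]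
  suffices evC c Φ = 0 by rw [this, map_zero]
  obtain ⟨L, _, _, φ, hinj, hch⟩ := exists_binomial_embedding K
  apply hinj
  rw [map_zero]
  let ev1 : Polynomial ℚ →+* L := (Polynomial.aeval (φ c)).toRingHom
  have key : (φ).comp (evC c) = ev1.comp binHom := by
    refine MvPolynomial.ringHom_ext (fun m => by simp) fun j => ?_
    simp only [RingHom.comp_apply, evC_X, binHom, eval₂Hom_X']
    rw [LambdaRing.gamma, binGamma, if_neg (by omega), if_neg (by omega), map_sum, map_sum]
    refine Finset.sum_congr rfl fun i _ => ?_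
    simp only [map_mul, map_natCast, apply_ite (φ), apply_ite ev1, map_zero, map_E]
    rw [hKb, hch]
    simp [ev1]
  have := congrArg (fun φ : GCoef →+* L => φ Φ) key
  simp only [RingHom.comp_apply] at this
  rw [this, hΦ, map_zero]

attribute [local instance] modelOps in
lemma binElt_one (hA : IsSpecial A) : BinElt (1 : A) := by
  intro Φ hΦ
  have h1 : ∀ {S : Type v} [CommRing S] [LambdaOps S], IsSpecial S → ∀ n, gamma n (1 : S) = 1 := by
    intro S _ _ hS n
    have h2 := gammaSeries_natCast hS.lam_one_eq_zero 1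
    rw [Nat.cast_one, pow_one] at h2
    rw [← coeff_gammaSeries, h2]
    simp [geo]
  let ε : GCoef →+* ℤ := eval₂Hom (RingHom.id ℤ) fun _ => 1
  have hev : evC (1 : A) = (Int.castRingHom A).comp ε :=
    MvPolynomial.ringHom_ext (fun m => by simp [ε]) fun j => by simp [ε, h1 hA]
  have hq : ((Int.castRingHom ℚ).comp ε) = (Polynomial.evalRingHom (1 : ℚ)).comp binHom := by
    refine MvPolynomial.ringHom_ext (fun m => by simp [ε]) fun j => ?_
    have hb : binGamma (1 : ℚ) (j + 1) = 1 := by
      have := gamma_C (1 : ℚ) (j + 1)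
      have h2 := gammaSeries_natCast (isSpecial_model (R := ℚ)).lam_one_eq_zero 1
      rw [Nat.cast_one, pow_one] at h2
      rw [map_one, ← coeff_gammaSeries, h2] at this
      have h := congrArg PowerSeries.constantCoeff this
      simpa [geo] using h.symm
    simp only [RingHom.comp_apply, binHom, eval₂Hom_X', ε, map_one]
    refine Eq.trans hb.symm ?_
    rw [binGamma, binGamma, if_neg (by omega), if_neg (by omega), map_sum]
    refine Finset.sum_congr rfl fun i _ => ?_
    simp only [apply_ite (Polynomial.evalRingHom (1 : ℚ)), map_mul, map_natCast, map_zero, map_E]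
    simp [Polynomial.coe_evalRingHom]
  have h := congrArg (fun φ : GCoef →+* ℚ => φ Φ) hq
  simp only [RingHom.comp_apply, hΦ, map_zero] at h
  rw [hev, RingHom.comp_apply, show ε Φ = 0 from (Int.cast_eq_zero (α := ℚ)).1 (by simpa using h), map_zero]

end BinElt

section Filt

/-- A multiplicative decreasing filtration by ideals. -/
structure Filt (A : Type v) [CommRing A] where
  /-- its terms -/
  F : ℕ → Ideal A
  top : F 0 = ⊤
  anti : ∀ {m n}, m ≤ n → F n ≤ F m
  mul : ∀ {m n} {a b : A}, a ∈ F m → b ∈ F n → a * b ∈ F (m + n)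

variable {A : Type v} [CommRing A] [LambdaOps A] {q : ℕ} (W : Filt A)

lemma Filt.pow_mem {m : ℕ} {a : A} (h : a ∈ W.F m) : ∀ k, a ^ k ∈ W.F (k * m)
  | 0 => by simp [W.top]
  | k + 1 => by rw [pow_succ, Nat.succ_mul]; exact W.mul (Filt.pow_mem h k) h

lemma ev_monomial_mem {x : Fin q → A} (hx : ∀ s j, gamma (j + 1) (x s) ∈ W.F (j + 1)) (b : A)
    (d : Fin q × ℕ →₀ ℕ) (c : GCoef) : ev b x (monomial d c) ∈ W.F (wt d) := by
  classical
  induction d using Finsupp.induction with
  | zero => simp [wt, W.top]
  | single_add p k d hp hk ih =>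
    rw [monomial_single_add, map_mul, map_pow, ev_X, wt_add, wt_single]
    exact W.mul (W.pow_mem (hx p.1 p.2) k) ih

lemma ModelDvd.ev_mem {f : GPoly q} {M : ℕ} (h : ModelDvd.{v} f M) {b : A} (hb : BinElt b)
    {x : Fin q → A} (hx : ∀ s j, gamma (j + 1) (x s) ∈ W.F (j + 1)) :
    ev b x f ∈ W.F M := by
  rw [f.as_sum, map_sum]
  refine sum_mem fun d _ => ?_
  rcases Nat.lt_or_ge (wt d) M with hw | hw
  · rw [MvPolynomial.monomial_eq, map_mul, ev_C, hb _ (h.binHom_eq_zero d hw), zero_mul]
    exact zero_mem _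
  · exact W.anti hw (ev_monomial_mem W hx b d _)

lemma killed_ev_mem {f : GPoly q} {M : ℕ} (h : ModelDvd.{v} f M) (s₀ : Fin q) (k : ℕ)
    (hk : ∀ r : Fin q → ℕ, r s₀ = k → mev.{v} r f = 0) {b : A} (hb : BinElt b)
    {x : Fin q → A} (hx : ∀ s j, gamma (j + 1) (x s) ∈ W.F (j + 1))
    (hv : ∀ j, k + 1 < j → gamma j (x s₀) = 0) :
    ∃ w ∈ W.F (M - (k + 1)), ev b x f = gamma (k + 1) (x s₀) * w := by
  classical
  have key : ev b x f ∈ Ideal.span {gamma (k + 1) (x s₀)} * W.F (M - (k + 1)) := by
    rw [f.as_sum, map_sum]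
    refine sum_mem fun d _ => ?_
    by_cases hbc : binHom (coeff d f) = 0
    · rw [MvPolynomial.monomial_eq, map_mul, ev_C, hb _ hbc, zero_mul]; exact zero_mem _
    have hw : M ≤ wt d := by
      by_contra hc
      exact hbc (h.binHom_eq_zero d (by omega))
    obtain ⟨p, hp, hps, hpk⟩ : ∃ p ∈ d.support, p.1 = s₀ ∧ k ≤ p.2 := by
      by_contra hc
      refine hbc (killed_coeff_eq_zero s₀ k hk d fun p hp hps => ?_)
      by_contra hpk
      exact hc ⟨p, hp, hps, by omega⟩
    have hle : Finsupp.single p 1 ≤ d := by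
      rw [Finsupp.single_le_iff]
      exact Nat.one_le_iff_ne_zero.2 (Finsupp.mem_support_iff.1 hp)
    have hd : d = Finsupp.single p 1 + (d - Finsupp.single p 1) := (add_tsub_cancel_of_le hle).symm
    have hmon : monomial d (coeff d f) =
        X p * monomial (d - Finsupp.single p 1) (coeff d f) := by
      rw [← pow_one (X p : GPoly q), ← monomial_single_add, ← hd]
    rw [hmon, map_mul, ev_X, hps]
    rcases Nat.eq_or_lt_of_le hpk with he | hlt
    · rw [← he]
      refine Ideal.mul_mem_mul (Ideal.mem_span_singleton_self _) (W.anti ?_ (ev_monomial_mem W hx b _ _))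
      rw [hd, wt_add, wt_single, one_mul] at hw
      omega
    · rw [hv (p.2 + 1) (by omega), zero_mul]
      exact zero_mem _
  obtain ⟨w, hw, he⟩ := Ideal.mem_span_singleton_mul.1 key
  exact ⟨w, hw, he.symm⟩

end Filt

end Groth.Agent.Lambda
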