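import Groth.Agent.Lib.Lambda.Universal
import Mathlib.RingTheory.PowerSeries.Exp
import Mathlib.Algebra.Group.ForwardDiff

/-!
The λ-ring of power series in which the Adams operation ψ^k multiplies the degree j part by k^j.
-/

universe u v

open Finset PowerSeries

namespace Groth.Agent.Lambda

open LambdaRing (LambdaOps adamsOp gamma IsSpecial)

lemma alternating_choose_pow (i j : ℕ) (hj : 1 ≤ j) (hji : j ≤ i) :
    ∑ k ∈ range i, (-1 : ℤ) ^ k * (i.choose (k + 1) : ℤ) * ((k + 1 : ℕ) : ℤ) ^ j =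
      if j = i then (-1) ^ (i - 1) * (i.factorial : ℤ) else 0 := by
  have h := fwdDiff_iter_eq_sum_shift (1 : ℤ) (fun r : ℤ => r ^ j) i 0
  have hval : (fwdDiff (1 : ℤ))^[i] (fun r : ℤ => r ^ j) 0 =
      if j = i then (i.factorial : ℤ) else 0 := by
    split_ifs with h1
    · subst h1; rw [fwdDiff_iter_eq_factorial]; rfl
    · rw [fwdDiff_iter_pow_eq_zero_of_lt (by omega)]; rfl
  rw [hval, Finset.sum_range_succ'] at h
  simp only [zero_add, nsmul_eq_mul, mul_one, Nat.cast_zero, zero_pow (show j ≠ 0 by omega),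
    smul_eq_mul, mul_zero, add_zero] at h
  have hi : ∀ k ∈ range i, (-1 : ℤ) ^ k * (i.choose (k + 1) : ℤ) * ((k + 1 : ℕ) : ℤ) ^ j =
      (-1) ^ (i - 1) * ((-1) ^ (i - (k + 1)) * (i.choose (k + 1) : ℤ) * ((k + 1 : ℕ) : ℤ) ^ j) := by
    intro k hk
    rw [mem_range] at hk
    rw [← mul_assoc, ← mul_assoc, ← pow_add,
      show i - 1 + (i - (k + 1)) = k + 2 * (i - (k + 1)) by omega, pow_add, pow_mul]
    simp
  rw [Finset.sum_congr rfl hi, ← Finset.mul_sum, ← h]
  split_ifs <;> simp

variable (R : Type u) [CommRing R] [Algebra ℚ R]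

/-- ψ^k on R⟦h⟧. -/
noncomputable def psiModel (k : ℕ) : R⟦X⟧ →+ R⟦X⟧ := (rescale (k : R)).toAddMonoidHom

lemma psiModel_one : psiModel R 1 = AddMonoidHom.id R⟦X⟧ := by
  refine AddMonoidHom.ext fun x => ?_
  show rescale ((1 : ℕ) : R) x = x
  rw [Nat.cast_one, rescale_one]; rfl

/-- The λ-structure of the model. -/
@[reducible] noncomputable def modelOps : LambdaOps R⟦X⟧ :=
  lambdaOpsOfAdams R⟦X⟧ (psiModel R) (psiModel_one R)

section

attribute [local instance] modelOps

variable {R}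

lemma adamsOp_model (k : ℕ) (hk : 1 ≤ k) (z : R⟦X⟧) : adamsOp k z = rescale (k : R) z :=
  adamsOp_lambdaOpsOfAdams R⟦X⟧ (psiModel R) (psiModel_one R) k hk z

lemma isSpecial_model : IsSpecial R⟦X⟧ := by
  refine isSpecial_of_adamsOp (fun k hk => ?_) (fun k hk x y => ?_) fun k k' hk hk' x => ?_
  · rw [adamsOp_model k hk, map_one]
  · rw [adamsOp_model k hk, adamsOp_model k hk, adamsOp_model k hk, map_mul]
  · rw [adamsOp_model k hk, adamsOp_model k' hk', adamsOp_model _ (Nat.mul_pos hk hk'),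
      rescale_rescale, ← Nat.cast_mul, mul_comm]

lemma lam_model_one (j : ℕ) (hj : 2 ≤ j) : LambdaOps.lam j (1 : R⟦X⟧) = 0 :=
  isSpecial_model.lam_one_eq_zero j hj

/-- The line element `exp (r h)`. -/
noncomputable def expLine (r : R) : R⟦X⟧ := rescale r (PowerSeries.exp R)

lemma lam_expLine (r : R) (j : ℕ) (hj : 2 ≤ j) : LambdaOps.lam j (expLine r) = 0 := by
  rw [lam_eq_E, E_congr j (u' := fun k => ∑ _i : Fin 1, expLine r ^ k),
    ← esymm_map_eq_E (fun _ : Fin 1 => expLine r), Finset.esymm_map_val,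
    Finset.powersetCard_eq_empty.2 (by simp only [Finset.card_univ, Fintype.card_fin]; omega)]
  · simp
  · intro k hk _
    rw [adamsOp_model k hk, expLine, rescale_rescale, Fin.sum_const, one_smul, ← map_pow,
      exp_pow_eq_rescale_exp, rescale_rescale, mul_comm r]

lemma expLine_sub_one (r : R) :
    ∃ s : R⟦X⟧, expLine r - 1 = X * s ∧ constantCoeff s = r := by
  refine ⟨PowerSeries.mk fun n => coeff (n + 1) (expLine r - 1), ?_, ?_⟩
  · ext n
    cases n with
    | zero => rw [coeff_zero_X_mul, map_sub, expLine, coeff_rescale, pow_zero, one_mul, coeff_exp]; simp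
    | succ n => rw [coeff_succ_X_mul, coeff_mk]
  · rw [← coeff_zero_eq_constantCoeff_apply, coeff_mk, map_sub, expLine, coeff_rescale, coeff_exp]; simp

/-- A model element of rank `card ι`. -/
noncomputable def rankElem {ι : Type v} [Fintype ι] (r : ι → R) : R⟦X⟧ := ∑ a, (expLine (r a) - 1)

lemma gamma_rankElem {ι : Type v} [Fintype ι] (r : ι → R) (n : ℕ) :
    X ^ n ∣ gamma n (rankElem r) ∧
      coeff n (gamma n (rankElem r)) = ((univ : Finset ι).val.map r).esymm n := by
  rw [rankElem, gamma_sum_sub_card lam_model_one univ (fun a => expLine (r a))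
    (fun a _ j hj => lam_expLine (r a) j hj)]
  choose s hs hs0 using fun a => expLine_sub_one (r a)
  have h : ∀ t ∈ (univ : Finset ι).powersetCard n, ∏ a ∈ t, (expLine (r a) - 1) =
      X ^ n * ∏ a ∈ t, s a := by
    intro t ht
    rw [Finset.mem_powersetCard] at ht
    simp_rw [hs]
    rw [Finset.prod_mul_distrib, Finset.prod_const, ht.2]
  rw [Finset.sum_congr rfl h, ← Finset.mul_sum]
  refine ⟨Dvd.intro _ rfl, ?_⟩
  rw [coeff_X_pow_mul', if_pos le_rfl, Nat.sub_self, coeff_zero_eq_constantCoeff_apply, map_sum,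
    Finset.esymm_map_val]
  simp [map_prod, hs0]

lemma gamma_rankElem_eq_zero {ι : Type v} [Fintype ι] (r : ι → R) (n : ℕ)
    (hn : Fintype.card ι < n) : gamma n (rankElem r) = 0 := by
  rw [rankElem, gamma_sum_sub_card lam_model_one univ (fun a => expLine (r a))
    (fun a _ j hj => lam_expLine (r a) j hj), Finset.powersetCard_eq_empty.2 (by simpa using hn),
    Finset.sum_empty]

/-- The values of γ^n on an element fixed by all Adams operations. -/
noncomputable def binGamma (y : R) (n : ℕ) : R :=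
  if n = 0 then 1 else
    ∑ j ∈ range (n + 1), ((n - 1).choose (j - 1) : R) * (if j = 0 then 0 else E (fun _ => y) j)

lemma gamma_C (y : R) (n : ℕ) : gamma n (C y : R⟦X⟧) = C (binGamma y n) := by
  have h : ∀ j, LambdaOps.lam j (C y : R⟦X⟧) = C (E (fun _ => y) j) := by
    intro j
    rw [lam_eq_E, map_E]
    refine E_congr j fun k hk _ => ?_
    rw [adamsOp_model k hk]
    ext i
    rw [coeff_rescale, coeff_C]
    split_ifs with hi
    · simp [hi]
    · simp
  rw [LambdaRing.gamma, binGamma]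
  split_ifs
  · simp
  · simp [h, map_sum, apply_ite (C (R := R))]

lemma gamma_ord (z : R⟦X⟧) (M : ℕ) (hM : 1 ≤ M) (hz : X ^ M ∣ z) (n : ℕ) (hn : 1 ≤ n) :
    X ^ (max n M) ∣ gamma n z := by
  have hMi : ∀ i, 1 ≤ i → X ^ (max i M) ∣ ∑ k ∈ range i,
      (-1) ^ k * (i.choose (k + 1) : R⟦X⟧) * adamsOp (k + 1) z := by
    intro i hi
    rw [X_pow_dvd_iff]
    intro j hj
    rw [map_sum]
    rcases Nat.lt_or_ge j M with h | h
    · refine Finset.sum_eq_zero fun k _ => ?_
      rw [adamsOp_model _ (by omega), show ((-1) ^ k * (i.choose (k + 1) : R⟦X⟧)) =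
        C ((-1) ^ k * (i.choose (k + 1) : R)) by simp, coeff_C_mul, coeff_rescale,
        (X_pow_dvd_iff.1 hz) j h, mul_zero, mul_zero]
    · have e := congrArg (Int.cast : ℤ → R) (alternating_choose_pow i j (by omega) (by omega))
      rw [if_neg (show j ≠ i by omega)] at e
      push_cast at e
      trans (∑ k ∈ range i, (-1 : R) ^ k * (i.choose (k + 1) : R) * ((k + 1 : ℕ) : R) ^ j) * coeff j z
      · rw [Finset.sum_mul]
        refine Finset.sum_congr rfl fun k _ => ?_
        rw [adamsOp_model _ (by omega), show ((-1) ^ k * (i.choose (k + 1) : R⟦X⟧)) =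
          C ((-1) ^ k * (i.choose (k + 1) : R)) by simp, coeff_C_mul, coeff_rescale]
        ring
      · push_cast
        rw [e, zero_mul]
  induction n using Nat.strong_induction_on with
  | _ n ih =>
    obtain ⟨m, rfl⟩ : ∃ m, n = m + 1 := ⟨n - 1, by omega⟩
    have h := gamma_succ_newton m z
    have hdvd : X ^ (max (m + 1) M) ∣ ((m + 1 : ℕ) : R⟦X⟧) * gamma (m + 1) z := by
      rw [h]
      refine Finset.dvd_sum fun a ha => ?_
      rw [mem_range] at ha
      rcases Nat.eq_zero_or_pos (m - a) with h0 | h0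
      · rw [h0, gamma_zero, mul_one, show m = a by omega]
        exact hMi (a + 1) (by omega)
      · refine (pow_dvd_pow X (show max (m + 1) M ≤ max (a + 1) M + max (m - a) M by omega)).trans ?_
        rw [pow_add]
        exact mul_dvd_mul (hMi (a + 1) (by omega)) (ih (m - a) (by omega) h0)
    have := dvd_mul_of_dvd_right hdvd (algebraMap ℚ R⟦X⟧ (((m + 1 : ℕ) : ℚ)⁻¹))
    rwa [← map_natCast (algebraMap ℚ R⟦X⟧) (m + 1), ← mul_assoc, ← map_mul,
      inv_mul_cancel₀ (by positivity), map_one, one_mul] at this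

lemma gamma_lead (z : R⟦X⟧) (M : ℕ) (hM : 1 ≤ M) (hz : X ^ M ∣ z) :
    coeff M (gamma M z) = (-1) ^ (M - 1) * ((M - 1).factorial : R) * coeff M z := by
  obtain ⟨m, rfl⟩ : ∃ m, M = m + 1 := ⟨M - 1, by omega⟩
  rw [Nat.add_sub_cancel]
  have h := congrArg (coeff (m + 1)) (gamma_succ_newton m z)
  rw [map_sum, Finset.sum_eq_single m ?_ (fun hm => absurd (self_mem_range_succ m) hm),
    Nat.sub_self, gamma_zero, mul_one, map_sum] at h
  · have e := congrArg (Int.cast : ℤ → R) (alternating_choose_pow (m + 1) (m + 1) (by omega) le_rfl)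
    rw [if_pos rfl, Nat.add_sub_cancel] at e
    push_cast at e
    apply natCast_succ_mul_cancel (n := m)
    rw [show ((m + 1 : ℕ) : R⟦X⟧) = C ((m + 1 : ℕ) : R) by simp, coeff_C_mul] at h
    rw [h]
    trans (∑ k ∈ range (m + 1), (-1 : R) ^ k * ((m + 1).choose (k + 1) : R) *
      ((k + 1 : ℕ) : R) ^ (m + 1)) * coeff (m + 1) z
    · rw [Finset.sum_mul]
      refine Finset.sum_congr rfl fun k _ => ?_
      rw [adamsOp_model _ (by omega), show ((-1) ^ k * ((m + 1).choose (k + 1) : R⟦X⟧)) =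
        C ((-1) ^ k * ((m + 1).choose (k + 1) : R)) by simp, coeff_C_mul, coeff_rescale]
      ring
    · push_cast
      rw [e, Nat.factorial_succ]
      push_cast
      ring
  · intro a ha hne
    rw [mem_range] at ha
    have h2 : X ^ (m + 1 + 1) ∣ (∑ k ∈ range (a + 1),
        (-1) ^ k * ((a + 1).choose (k + 1) : R⟦X⟧) * adamsOp (k + 1) z) * gamma (m - a) z := by
      rw [pow_succ]
      refine mul_dvd_mul (Finset.dvd_sum fun k _ => dvd_mul_of_dvd_right ?_ _) ?_
      · rw [adamsOp_model _ (by omega), X_pow_dvd_iff]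
        intro j hj
        rw [coeff_rescale, (X_pow_dvd_iff.1 hz) j hj, mul_zero]
      · refine (dvd_pow_self X ?_).trans (gamma_ord z (m + 1) hM hz (m - a) (by omega))
        omega
    exact (X_pow_dvd_iff.1 h2) (m + 1) (by omega)

end

end Groth.Agent.Lambda
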