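import Groth.Agent.Lib.Lambda.Series
import Mathlib.RingTheory.MvPolynomial.Symmetric.FundamentalTheorem
import Mathlib.RingTheory.MvPolynomial.Symmetric.NewtonIdentities

/-!
The universal polynomial in the power sums giving the elementary symmetric functions, independence
of elementary symmetric functions and of power sums.
-/

universe u v w

open Finset

namespace Groth.Agent.Lambda

open LambdaRing (LambdaOps adamsOp)

section E

variable {R : Type u} [CommRing R] [Algebra ℚ R]

/-- The elementary symmetric functions in terms of the power sums `u`. -/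
noncomputable def E (u : ℕ → R) : ℕ → R
  | 0 => 1
  | n + 1 => ((n + 1 : ℕ) : ℚ)⁻¹ • ∑ a : Fin (n + 1), (-1) ^ (a : ℕ) * u (a + 1) * E u (n - a)

lemma E_zero (u : ℕ → R) : E u 0 = 1 := by rw [E]

lemma natCast_mul_smul_inv (n : ℕ) (x : R) :
    ((n + 1 : ℕ) : R) * (((n + 1 : ℕ) : ℚ)⁻¹ • x) = x := by
  rw [← nsmul_eq_mul, ← Nat.cast_smul_eq_nsmul ℚ, smul_smul, mul_inv_cancel₀ (by positivity),
    one_smul]

lemma E_succ (u : ℕ → R) (n : ℕ) :
    ((n + 1 : ℕ) : R) * E u (n + 1) =
      ∑ a ∈ range (n + 1), (-1) ^ a * u (a + 1) * E u (n - a) := by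
  rw [E, natCast_mul_smul_inv]
  exact Fin.sum_univ_eq_sum_range (fun a => (-1) ^ a * u (a + 1) * E u (n - a)) (n + 1)

lemma natCast_succ_mul_cancel {n : ℕ} {x y : R}
    (h : ((n + 1 : ℕ) : R) * x = ((n + 1 : ℕ) : R) * y) : x = y := by
  have := congrArg (((n + 1 : ℕ) : ℚ)⁻¹ • ·) h
  simp only [← mul_smul_comm, natCast_mul_smul_inv] at this
  exact this

lemma eq_E (u f : ℕ → R) (N : ℕ) (h0 : f 0 = 1)
    (hf : ∀ n < N, ((n + 1 : ℕ) : R) * f (n + 1) =
      ∑ a ∈ range (n + 1), (-1) ^ a * u (a + 1) * f (n - a)) :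
    ∀ n ≤ N, f n = E u n := by
  intro n
  induction n using Nat.strong_induction_on with
  | _ n ih =>
    intro hn
    cases n with
    | zero => rw [h0, E_zero]
    | succ m =>
      apply natCast_succ_mul_cancel
      rw [hf m (by omega), E_succ]
      refine Finset.sum_congr rfl fun a _ => ?_
      rw [ih (m - a) (by omega) (by omega)]

lemma map_E {S : Type v} [CommRing S] [Algebra ℚ S] (φ : R →+* S) (u : ℕ → R) (n : ℕ) :
    φ (E u n) = E (fun k => φ (u k)) n := by
  refine eq_E (fun k => φ (u k)) (fun n => φ (E u n)) n ?_ (fun m _ => ?_) n le_rfl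
  · simp [E_zero]
  · rw [← map_natCast φ, ← map_mul, E_succ, map_sum]
    simp

lemma E_congr {u u' : ℕ → R} (n : ℕ) (h : ∀ k, 1 ≤ k → k ≤ n → u k = u' k) :
    E u n = E u' n := by
  refine eq_E u' (E u) n (E_zero u) (fun m hm => ?_) n le_rfl
  rw [E_succ]
  refine Finset.sum_congr rfl fun a ha => ?_
  rw [mem_range] at ha
  rw [h (a + 1) (by omega) (by omega)]

lemma lam_eq_E [LambdaOps R] (n : ℕ) (x : R) :
    LambdaOps.lam n x = E (fun k => adamsOp k x) n :=
  eq_E _ (fun n => LambdaOps.lam n x) n (LambdaOps.lam_zero x)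
    (fun m _ => lam_succ_newton m x) n le_rfl

lemma esymm_eq_E (σ : Type w) [Fintype σ] (n : ℕ) :
    MvPolynomial.esymm σ ℚ n = E (MvPolynomial.psum σ ℚ) n := by
  refine eq_E (MvPolynomial.psum σ ℚ) (MvPolynomial.esymm σ ℚ) n
    (MvPolynomial.esymm_zero σ ℚ) (fun m _ => ?_) n le_rfl
  rw [MvPolynomial.mul_esymm_eq_sum σ ℚ (m + 1), Finset.mul_sum]
  refine Finset.sum_bij' (fun a _ => m - a.1) (fun b _ => (m - b, b + 1)) ?_ ?_ ?_ ?_ ?_
  · intro a ha
    simp only [mem_filter, Finset.mem_antidiagonal] at ha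
    simp only [mem_range]; omega
  · intro b hb
    rw [mem_range] at hb
    simp only [mem_filter, Finset.mem_antidiagonal]
    omega
  · intro a ha
    simp only [mem_filter, Finset.mem_antidiagonal] at ha
    refine Prod.ext ?_ ?_ <;> (dsimp only; omega)
  · intro b hb
    rw [mem_range] at hb
    dsimp only
    omega
  · intro a ha
    simp only [mem_filter, Finset.mem_antidiagonal] at ha
    obtain ⟨ha, ha'⟩ := ha
    rw [show m - (m - a.1) = a.1 by omega, show m - a.1 + 1 = a.2 by omega]
    have hp : ((-1 : MvPolynomial σ ℚ)) ^ (m + 1 + 1) * (-1) ^ a.1 = (-1) ^ (m - a.1) := by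
      rw [← pow_add]
      exact neg_one_pow_congr (by simp only [Nat.even_add_one, Nat.even_add, Nat.even_sub
        (show a.1 ≤ m by omega)]; tauto)
    rw [← hp]
    ring

lemma esymm_map_eq_E {ι : Type w} [Fintype ι] (f : ι → R) (n : ℕ) :
    ((univ : Finset ι).val.map f).esymm n = E (fun k => ∑ i, f i ^ k) n := by
  rw [← MvPolynomial.aeval_esymm_eq_multiset_esymm ι ℚ, esymm_eq_E]
  refine (map_E (R := MvPolynomial ι ℚ) (MvPolynomial.aeval f).toRingHom _ n).trans (E_congr n fun k _ _ => ?_)
  simp [MvPolynomial.psum]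

end E

section StInj

open MvPolynomial

variable {k : Type u} [CommRing k]

/-- A family of polynomials stays algebraically independent over every k-algebra. -/
def StInj {σ : Type v} {σ' : Type w} (f : σ → MvPolynomial σ' k) : Prop :=
  ∀ (R : Type max u v w) [CommRing R] [Algebra k R],
    Function.Injective
      (aeval (fun i => MvPolynomial.map (algebraMap k R) (f i)) :
        MvPolynomial σ R →ₐ[R] MvPolynomial σ' R)

variable {σ σ' τ τ' : Type}

lemma StInj.injective {k : Type} [CommRing k] {f : σ → MvPolynomial σ' k} (h : StInj f) :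
    Function.Injective (aeval f : MvPolynomial σ k →ₐ[k] MvPolynomial σ' k) := by
  have := h k
  simpa [Algebra.algebraMap_self, MvPolynomial.map_id] using this

lemma aeval_sum_elim {k : Type} [CommRing k] (R : Type) [CommRing R] [Algebra k R]
    (f : σ → MvPolynomial σ' k) (g : τ → MvPolynomial τ' k) (p : MvPolynomial (σ ⊕ τ) R) :
    sumAlgEquiv R σ' τ'
      (aeval (fun i => MvPolynomial.map (algebraMap k R)
        (Sum.elim (fun i => rename Sum.inl (f i)) (fun i => rename Sum.inr (g i)) i)) p) =
    aeval (fun i => MvPolynomial.map (algebraMap k (MvPolynomial τ' R)) (f i))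
      (MvPolynomial.map (aeval (fun i => MvPolynomial.map (algebraMap k R) (g i)) :
        MvPolynomial τ R →ₐ[R] MvPolynomial τ' R).toRingHom (sumAlgEquiv R σ τ p)) := by
  induction p using MvPolynomial.induction_on with
  | C r =>
    simp only [aeval_C, sumAlgEquiv_C_inl, MvPolynomial.map_C, algebraMap_eq,
      AlgHom.toRingHom_eq_coe, RingHom.coe_coe]
  | add p q hp hq => simp only [map_add, hp, hq]
  | mul_X p i hp =>
    rw [map_mul, map_mul, hp, map_mul, map_mul, map_mul]
    congr 1
    rcases i with i | i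
    · simp only [aeval_X, Sum.elim_inl, sumAlgEquiv_X_inl, MvPolynomial.map_X]
      generalize f i = q
      induction q using MvPolynomial.induction_on with
      | C c => simp [rename_C, sumAlgEquiv_C_inl, MvPolynomial.algebraMap_eq,
          IsScalarTower.algebraMap_apply k R (MvPolynomial τ' R)]
      | add a b ha hb => simp only [map_add, ha, hb]
      | mul_X a j ha => simp only [map_mul, ha, rename_X, MvPolynomial.map_X, sumAlgEquiv_X_inl]
    · simp only [aeval_X, Sum.elim_inr, sumAlgEquiv_X_inr, MvPolynomial.map_C, aeval_C,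
        AlgHom.toRingHom_eq_coe, RingHom.coe_coe, algebraMap_eq]
      generalize g i = q
      induction q using MvPolynomial.induction_on with
      | C c => simp [rename_C, sumAlgEquiv_C_inl]
      | add a b ha hb => simp only [map_add, ha, hb]
      | mul_X a j ha => simp only [map_mul, ha, rename_X, MvPolynomial.map_X, sumAlgEquiv_X_inr]

lemma StInj.sum {k : Type} [CommRing k] {f : σ → MvPolynomial σ' k} {g : τ → MvPolynomial τ' k}
    (hf : StInj f) (hg : StInj g) :
    StInj (Sum.elim (fun i => rename Sum.inl (f i)) (fun i => rename Sum.inr (g i)) :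
      σ ⊕ τ → MvPolynomial (σ' ⊕ τ') k) := by
  intro R _ _
  intro p q hpq
  have := congrArg (sumAlgEquiv R σ' τ') hpq
  rw [aeval_sum_elim R f g p, aeval_sum_elim R f g q] at this
  exact (sumAlgEquiv R σ τ).injective
    ((MvPolynomial.map_injective _ (hg R)) ((hf (MvPolynomial τ' R)) this))

lemma stInj_esymm (k : Type) [CommRing k] (σ' : Type) [Fintype σ'] (n : ℕ)
    (h : n ≤ Fintype.card σ') :
    StInj (fun i : Fin n => MvPolynomial.esymm σ' k (i + 1)) := by
  intro R _ _ p q hpq
  simp only [map_esymm] at hpq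
  apply MvPolynomial.esymmAlgHom_injective (σ := σ') R h
  apply Subtype.ext
  rwa [esymmAlgHom_apply, esymmAlgHom_apply]

lemma stInj_psum (n : ℕ) :
    StInj (fun i : Fin n => MvPolynomial.psum (Fin n) ℚ (i + 1)) := by
  intro R _ _
  let u : ℕ → MvPolynomial (Fin n) R := fun k => if h : k - 1 < n then X ⟨k - 1, h⟩ else 0
  let h : MvPolynomial (Fin n) R →ₐ[R] MvPolynomial (Fin n) R :=
    aeval fun i : Fin n => E u (i + 1)
  have hE : ∀ m ≤ n, E u m ∈ h.range := by
    intro m hm
    cases m with
    | zero => rw [E_zero]; exact h.range.one_mem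
    | succ m => exact ⟨X ⟨m, by omega⟩, by simp [h]⟩
  have hu : ∀ a, (ha : a < n) → (X ⟨a, ha⟩ : MvPolynomial (Fin n) R) ∈ h.range := by
    intro a
    induction a using Nat.strong_induction_on with
    | _ a ih =>
      intro ha
      have e := E_succ u a
      rw [Finset.sum_range_succ, Nat.sub_self, E_zero, mul_one] at e
      have hua : u (a + 1) = X ⟨a, ha⟩ := by simp [u, ha]
      rw [hua] at e
      have h1 : (-1 : MvPolynomial (Fin n) R) ^ a * X ⟨a, ha⟩ ∈ h.range := by
        rw [show (-1 : MvPolynomial (Fin n) R) ^ a * X ⟨a, ha⟩ =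
          ((a + 1 : ℕ) : MvPolynomial (Fin n) R) * E u (a + 1) -
            ∑ x ∈ range a, (-1) ^ x * u (x + 1) * E u (a - x) by rw [e]; ring]
        refine sub_mem (mul_mem (natCast_mem _ _) (hE _ (by omega))) (sum_mem fun b hb => ?_)
        rw [mem_range] at hb
        refine mul_mem (mul_mem (pow_mem (neg_mem (one_mem _)) _) ?_) (hE _ (by omega))
        have : u (b + 1) = X ⟨b, by omega⟩ := by simp [u, show b < n by omega]
        rw [this]
        exact ih b hb _
      have := h.range.mul_mem (h.range.pow_mem (h.range.neg_mem h.range.one_mem) a) h1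
      rwa [← mul_assoc, ← mul_pow, neg_mul_neg, one_mul, one_pow, one_mul] at this
  have hsurj : h.range = ⊤ := by
    rw [eq_top_iff, ← MvPolynomial.adjoin_range_X, Algebra.adjoin_le_iff]
    rintro _ ⟨⟨a, ha⟩, rfl⟩
    exact hu a ha
  let g := (aeval fun i : Fin n => MvPolynomial.map (algebraMap ℚ R) (psum (Fin n) ℚ (i + 1)) :
    MvPolynomial (Fin n) R →ₐ[R] MvPolynomial (Fin n) R)
  have hgh : g.comp h = aeval fun i : Fin n => esymm (Fin n) R (i + 1) := by
    refine MvPolynomial.algHom_ext fun i => ?_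
    simp only [AlgHom.comp_apply, h, aeval_X]
    rw [← MvPolynomial.map_esymm (Fin n) ℚ (i + 1 : ℕ) (algebraMap ℚ R), esymm_eq_E, map_E]
    refine (map_E g.toRingHom u _).trans (E_congr _ fun k h1 h2 => ?_)
    have hk : k - 1 < n := by omega
    simp [u, hk, g, show k - 1 + 1 = k by omega]
  have hinj : Function.Injective (g.comp h) := by
    rw [hgh]
    intro a b hab
    apply MvPolynomial.esymmAlgHom_injective (σ := Fin n) R (by simp)
    apply Subtype.ext
    rwa [esymmAlgHom_apply, esymmAlgHom_apply]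
  rw [injective_iff_map_eq_zero]
  intro a ha
  obtain ⟨b, rfl⟩ : a ∈ h.range := by rw [hsurj]; trivial
  have : g.comp h b = g.comp h 0 := by rw [map_zero]; exact ha
  rw [hinj this, map_zero]

end StInj

end Groth.Agent.Lambda
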