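import Groth.Prelude.Def_LambdaSp
import Mathlib.RingTheory.PowerSeries.Substitution
import Mathlib.RingTheory.PowerSeries.WellKnown
import Mathlib.RingTheory.PowerSeries.Derivative

/-!
Generating series of pre-λ-rings: λ_t, γ_t, logarithmic derivatives.
-/

universe u v

open PowerSeries Finset

namespace Groth.Agent.Lambda

open LambdaRing (LambdaOps lamSeries gamma adamsOp logDerivSeries)

variable {K : Type u} [CommRing K] [LambdaOps K]

lemma coeff_lamSeries (n : ℕ) (x : K) :
    coeff n (lamSeries x) = LambdaOps.lam n x := by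
  simp [lamSeries]

lemma constantCoeff_lamSeries (x : K) : constantCoeff (lamSeries x) = 1 := by
  rw [← coeff_zero_eq_constantCoeff_apply, coeff_lamSeries, LambdaOps.lam_zero]

lemma isUnit_lamSeries (x : K) : IsUnit (lamSeries x) :=
  isUnit_iff_constantCoeff.2 (by rw [constantCoeff_lamSeries]; exact isUnit_one)

lemma lamSeries_add (x y : K) : lamSeries (x + y) = lamSeries x * lamSeries y := by
  ext n
  rw [coeff_mul, coeff_lamSeries, LambdaOps.lam_add,
    Finset.Nat.sum_antidiagonal_eq_sum_range_succ_mk]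
  simp [coeff_lamSeries]

lemma lamSeries_zero : lamSeries (0 : K) = 1 := by
  have h := lamSeries_add (0 : K) 0
  rw [add_zero] at h
  exact ((isUnit_lamSeries (0 : K)).mul_eq_left).1 h.symm

lemma lam_zero_right (n : ℕ) : LambdaOps.lam n (0 : K) = if n = 0 then 1 else 0 := by
  rw [← coeff_lamSeries, lamSeries_zero, coeff_one]

lemma lamSeries_neg_mul (x : K) : lamSeries (-x) * lamSeries x = 1 := by
  rw [← lamSeries_add, neg_add_cancel, lamSeries_zero]

lemma lamSeries_sum {ι : Type*} (s : Finset ι) (f : ι → K) :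
    lamSeries (∑ i ∈ s, f i) = ∏ i ∈ s, lamSeries (f i) := by
  classical
  induction s using Finset.induction with
  | empty => simp [lamSeries_zero]
  | insert a s ha ih => simp [ha, lamSeries_add, ih]

lemma lamSeries_natCast_mul (m : ℕ) (x : K) : lamSeries ((m : K) * x) = lamSeries x ^ m := by
  induction m with
  | zero => simp [lamSeries_zero]
  | succ m ih => rw [Nat.cast_succ, add_mul, one_mul, lamSeries_add, ih, pow_succ]

lemma lamSeries_of_lam_eq_zero {y : K} (hy : ∀ j, 2 ≤ j → LambdaOps.lam j y = 0) :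
    lamSeries y = 1 + C y * X := by
  ext n
  rw [coeff_lamSeries, map_add, coeff_one, coeff_C_mul, coeff_X]
  match n with
  | 0 => simp [LambdaOps.lam_zero]
  | 1 => simp [LambdaOps.lam_one]
  | n + 2 => simp [hy (n + 2) (by omega)]

lemma lamSeries_natCast (h1 : ∀ j, 2 ≤ j → LambdaOps.lam j (1 : K) = 0) (m : ℕ) :
    lamSeries (m : K) = (1 + X) ^ m := by
  rw [← mul_one (m : K), lamSeries_natCast_mul, lamSeries_of_lam_eq_zero h1]
  simp

/-- The series `1 + t + t^2 + …`. -/
noncomputable abbrev geo (K : Type u) [CommRing K] : K⟦X⟧ := mk 1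

lemma geo_mul (K : Type u) [CommRing K] : geo K * (1 - X) = 1 := mk_one_mul_one_sub_eq_one K

/-- The series `t / (1 - t)`. -/
noncomputable abbrev uSeries (K : Type u) [CommRing K] : K⟦X⟧ := X * geo K

lemma hasSubst_u (K : Type u) [CommRing K] : HasSubst (uSeries K) :=
  HasSubst.of_constantCoeff_zero' (by simp [uSeries])

lemma coeff_uSeries_pow (K : Type u) [CommRing K] (d n : ℕ) :
    coeff n (uSeries K ^ d) =
      if d = 0 then (if n = 0 then 1 else 0) else if d ≤ n then ((n - 1).choose (d - 1) : K) else 0 := by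
  cases d with
  | zero => simp [coeff_one]
  | succ e =>
    rw [if_neg (Nat.succ_ne_zero e), uSeries, mul_pow, coeff_X_pow_mul', geo,
      mk_one_pow_eq_mk_choose_add]
    split_ifs with h
    · rw [coeff_mk, show e + (n - (e + 1)) = n - 1 by omega, Nat.add_sub_cancel]
    · rfl

/-- The series γ_t(x). -/
noncomputable def gammaSeries (x : K) : K⟦X⟧ := mk fun n => gamma n x

lemma coeff_gammaSeries (n : ℕ) (x : K) : coeff n (gammaSeries x) = gamma n x := by
  simp [gammaSeries]

lemma gamma_zero (x : K) : gamma 0 x = 1 := by simp [LambdaRing.gamma]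

lemma gammaSeries_eq_subst (x : K) :
    gammaSeries x = subst (uSeries K) (lamSeries x) := by
  ext n
  rw [coeff_gammaSeries, coeff_subst' (hasSubst_u K),
    finsum_eq_sum_of_support_subset (s := range (n + 1))]
  · rcases Nat.eq_zero_or_pos n with rfl | hn
    · simp [gamma_zero, coeff_lamSeries, LambdaOps.lam_zero]
    · rw [LambdaRing.gamma, if_neg hn.ne']
      refine Finset.sum_congr rfl fun j hj => ?_
      rw [mem_range] at hj
      rw [coeff_lamSeries, coeff_uSeries_pow]
      by_cases h0 : j = 0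
      · simp [h0, hn.ne']
      · simp [h0, mul_comm, show j ≤ n by omega]
  · intro d hd
    simp only [Function.mem_support, smul_eq_mul] at hd
    simp only [coe_range, Set.mem_Iio]
    by_contra h
    apply hd
    rw [coeff_uSeries_pow, if_neg (by omega), if_neg (by omega), mul_zero]

lemma constantCoeff_gammaSeries (x : K) : constantCoeff (gammaSeries x) = 1 := by
  rw [← coeff_zero_eq_constantCoeff_apply, coeff_gammaSeries, gamma_zero]

lemma gammaSeries_add (x y : K) : gammaSeries (x + y) = gammaSeries x * gammaSeries y := by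
  simp only [gammaSeries_eq_subst, lamSeries_add, subst_mul (hasSubst_u K)]

lemma gammaSeries_zero : gammaSeries (0 : K) = 1 := by
  rw [gammaSeries_eq_subst, lamSeries_zero, ← coe_substAlgHom (hasSubst_u K), map_one]

lemma gamma_add (k : ℕ) (x y : K) :
    gamma k (x + y) = ∑ i ∈ range (k + 1), gamma i x * gamma (k - i) y := by
  rw [← coeff_gammaSeries, gammaSeries_add, coeff_mul,
    Finset.Nat.sum_antidiagonal_eq_sum_range_succ_mk]
  simp [coeff_gammaSeries]

lemma gamma_zero_right (n : ℕ) : gamma n (0 : K) = if n = 0 then 1 else 0 := by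
  rw [← coeff_gammaSeries, gammaSeries_zero, coeff_one]

lemma gamma_one (x : K) : gamma 1 x = x := by
  simp [LambdaRing.gamma, Finset.sum_range_succ, LambdaOps.lam_one]

lemma gammaSeries_sum {ι : Type*} (s : Finset ι) (f : ι → K) :
    gammaSeries (∑ i ∈ s, f i) = ∏ i ∈ s, gammaSeries (f i) := by
  classical
  induction s using Finset.induction with
  | empty => simp [gammaSeries_zero]
  | insert a s ha ih => simp [ha, gammaSeries_add, ih]

lemma gammaSeries_natCast_mul (m : ℕ) (x : K) :
    gammaSeries ((m : K) * x) = gammaSeries x ^ m := by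
  rw [gammaSeries_eq_subst, lamSeries_natCast_mul, subst_pow (hasSubst_u K), gammaSeries_eq_subst]

lemma gammaSeries_natCast (h1 : ∀ j, 2 ≤ j → LambdaOps.lam j (1 : K) = 0) (m : ℕ) :
    gammaSeries (m : K) = geo K ^ m := by
  rw [gammaSeries_eq_subst, lamSeries_natCast h1, subst_pow (hasSubst_u K),
    subst_add (hasSubst_u K), subst_X (hasSubst_u K), ← coe_substAlgHom (hasSubst_u K), map_one]
  congr 1
  have h := geo_mul K
  simp only [uSeries]
  linear_combination -h

lemma gammaSeries_sub_natCast (h1 : ∀ j, 2 ≤ j → LambdaOps.lam j (1 : K) = 0) (m : ℕ) (x : K) :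
    gammaSeries (x - (m : K)) = gammaSeries x * (1 - X) ^ m := by
  have h : gammaSeries (x - (m : K)) * geo K ^ m = gammaSeries x := by
    rw [← gammaSeries_natCast h1, ← gammaSeries_add, sub_add_cancel]
  rw [← h, mul_assoc, ← mul_pow, geo_mul, one_pow, mul_one]

lemma gammaSeries_line_sub_one (h1 : ∀ j, 2 ≤ j → LambdaOps.lam j (1 : K) = 0) {y : K}
    (hy : ∀ j, 2 ≤ j → LambdaOps.lam j y = 0) :
    gammaSeries (y - 1) = 1 + C (y - 1) * X := by
  have := gammaSeries_sub_natCast h1 1 y
  rw [Nat.cast_one, pow_one, gammaSeries_eq_subst y, lamSeries_of_lam_eq_zero hy,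
    subst_add (hasSubst_u K), subst_mul (hasSubst_u K), subst_X (hasSubst_u K), subst_C,
    ← coe_substAlgHom (hasSubst_u K), map_one] at this
  rw [this]
  have h := geo_mul K
  show (1 + C y * (X * geo K)) * (1 - X) = _
  rw [map_sub, map_one]
  linear_combination (C y * X) * h

lemma coeff_prod_one_add_C_mul_X {R : Type*} [CommRing R] {ι : Type*} (s : Finset ι) (a : ι → R)
    (k : ℕ) :
    coeff k (∏ i ∈ s, ((1 : R⟦X⟧) + C (a i) * X)) = ∑ t ∈ s.powersetCard k, ∏ i ∈ t, a i := by
  classical
  rw [Finset.prod_one_add, map_sum,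
    Finset.sum_congr rfl (g := fun t => if t.card = k then ∏ i ∈ t, a i else 0),
    ← Finset.sum_filter]
  · rw [powersetCard_eq_filter]
  · intro t _
    rw [prod_mul_distrib, prod_const, ← map_prod, coeff_C_mul, coeff_X_pow]
    by_cases h : t.card = k
    · simp [h]
    · simp [h, Ne.symm h]

lemma gamma_sum_sub_card (h1 : ∀ j, 2 ≤ j → LambdaOps.lam j (1 : K) = 0) {ι : Type*}
    (s : Finset ι) (y : ι → K) (hy : ∀ i ∈ s, ∀ j, 2 ≤ j → LambdaOps.lam j (y i) = 0) (k : ℕ) :
    gamma k (∑ i ∈ s, (y i - 1)) = ∑ t ∈ s.powersetCard k, ∏ i ∈ t, (y i - 1) := by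
  rw [← coeff_gammaSeries, gammaSeries_sum,
    Finset.prod_congr rfl fun i hi => gammaSeries_line_sub_one h1 (hy i hi)]
  exact coeff_prod_one_add_C_mul_X s _ k

lemma gamma_eq_lam_add (h1 : ∀ j, 2 ≤ j → LambdaOps.lam j (1 : K) = 0) (n : ℕ) (x : K) :
    gamma n x = LambdaOps.lam n (x + (n : K) - 1) := by
  cases n with
  | zero => simp [gamma_zero, LambdaOps.lam_zero]
  | succ m =>
    rw [Nat.cast_succ, add_sub_assoc, add_sub_cancel_right, ← coeff_lamSeries, lamSeries_add,
      lamSeries_natCast h1, coeff_mul, Finset.Nat.sum_antidiagonal_eq_sum_range_succ_mk,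
      LambdaRing.gamma, if_neg (by omega)]
    refine Finset.sum_congr rfl fun j hj => ?_
    rw [mem_range] at hj
    dsimp only
    rw [coeff_lamSeries, add_comm (1 : K⟦X⟧) X,
      show ((X + 1 : K⟦X⟧)) = ((Polynomial.X + 1 : Polynomial K) : K⟦X⟧) by simp,
      ← Polynomial.coe_pow, Polynomial.coeff_coe, Polynomial.coeff_X_add_one_pow]
    by_cases h0 : j = 0
    · subst h0; simp [Nat.choose_eq_zero_of_lt]
    · rw [if_neg h0, mul_comm, Nat.add_sub_cancel,
        ← Nat.choose_symm (show j - 1 ≤ m by omega), show m - (j - 1) = m + 1 - j by omega]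

lemma lamSeries_mul_logDeriv (x : K) :
    d⁄dX K (lamSeries x) = logDerivSeries x * lamSeries x := by
  rw [LambdaRing.logDerivSeries, mul_assoc,
    invOfUnit_mul _ _ (by rw [constantCoeff_lamSeries]; rfl), mul_one]

lemma coeff_logDeriv (k : ℕ) (x : K) :
    coeff k (logDerivSeries x) = (-1) ^ k * adamsOp (k + 1) x := by
  rw [LambdaRing.adamsOp, ← mul_assoc, ← mul_pow]; simp

lemma logDeriv_add (x y : K) :
    logDerivSeries (x + y) = logDerivSeries x + logDerivSeries y := by
  refine (isUnit_lamSeries (x + y)).mul_right_cancel ?_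
  rw [← lamSeries_mul_logDeriv, lamSeries_add, Derivation.leibniz, smul_eq_mul, smul_eq_mul,
    lamSeries_mul_logDeriv, lamSeries_mul_logDeriv]
  ring

lemma adamsOp_add (k : ℕ) (x y : K) : adamsOp k (x + y) = adamsOp k x + adamsOp k y := by
  cases k with
  | zero => simp [LambdaRing.adamsOp]
  | succ k => simp [LambdaRing.adamsOp, logDeriv_add, mul_add]

/-- ψ^k as an additive map. -/
noncomputable def adamsHom (k : ℕ) : K →+ K := AddMonoidHom.mk' (adamsOp k) (adamsOp_add k)

lemma adamsOp_zero_right (k : ℕ) : adamsOp k (0 : K) = 0 := (adamsHom (K := K) k).map_zero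

lemma adamsOp_neg (k : ℕ) (x : K) : adamsOp k (-x) = -adamsOp k x := (adamsHom k).map_neg x

lemma adamsOp_sum (k : ℕ) {ι : Type*} (s : Finset ι) (f : ι → K) :
    adamsOp k (∑ i ∈ s, f i) = ∑ i ∈ s, adamsOp k (f i) := map_sum (adamsHom (K := K) k) f s

/-- Newton's recursion. -/
lemma lam_succ_newton (n : ℕ) (x : K) :
    ((n + 1 : ℕ) : K) * LambdaOps.lam (n + 1) x =
      ∑ a ∈ range (n + 1), (-1) ^ a * adamsOp (a + 1) x * LambdaOps.lam (n - a) x := by
  have h := congrArg (coeff n) (lamSeries_mul_logDeriv x)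
  rw [coeff_derivative, coeff_lamSeries, coeff_mul,
    Finset.Nat.sum_antidiagonal_eq_sum_range_succ_mk] at h
  rw [mul_comm, Nat.cast_succ]
  rw [h]
  exact Finset.sum_congr rfl fun a _ => by rw [coeff_logDeriv, coeff_lamSeries]

lemma adamsOp_one_op (x : K) : adamsOp 1 x = x := by
  have h := lam_succ_newton 0 x
  simpa [LambdaOps.lam_zero, LambdaOps.lam_one] using h.symm

lemma adamsOp_of_line {y : K} (hy : ∀ j, 2 ≤ j → LambdaOps.lam j y = 0) (k : ℕ) (hk : 1 ≤ k) :
    adamsOp k y = y ^ k := by
  induction k using Nat.strong_induction_on with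
  | _ k ih =>
    obtain ⟨m, rfl⟩ : ∃ m, k = m + 1 := ⟨k - 1, by omega⟩
    rcases Nat.eq_zero_or_pos m with rfl | hm
    · simp [adamsOp_one_op]
    obtain ⟨l, rfl⟩ : ∃ l, m = l + 1 := ⟨m - 1, by omega⟩
    have h := lam_succ_newton (l + 1) y
    rw [hy (l + 1 + 1) (by omega), mul_zero, Finset.sum_range_succ, Finset.sum_range_succ,
      Nat.sub_self, LambdaOps.lam_zero, mul_one, show l + 1 - l = 1 by omega, LambdaOps.lam_one,
      Finset.sum_eq_zero (fun a ha => by
        rw [mem_range] at ha; rw [hy (l + 1 - a) (by omega), mul_zero]),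
      zero_add, ih (l + 1) (by omega) (by omega)] at h
    have hu : IsUnit ((-1 : K) ^ (l + 1)) := (isUnit_one.neg).pow _
    refine hu.mul_left_cancel ?_
    rw [pow_succ] at h ⊢
    linear_combination -h

lemma adamsOp_apply_one (h1 : ∀ j, 2 ≤ j → LambdaOps.lam j (1 : K) = 0) (k : ℕ) (hk : 1 ≤ k) :
    adamsOp k (1 : K) = 1 := by
  rw [adamsOp_of_line h1 k hk, one_pow]

lemma derivative_uSeries {K : Type u} [CommRing K] : d⁄dX K (uSeries K) = geo K ^ 2 := by
  have h : geo K * (1 - X) = 1 := geo_mul K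
  have h' := congrArg (d⁄dX K) h
  rw [Derivation.leibniz, Derivation.map_one_eq_zero, map_sub, derivative_X,
    Derivation.map_one_eq_zero, smul_eq_mul, smul_eq_mul] at h'
  rw [uSeries, Derivation.leibniz, derivative_X, smul_eq_mul, smul_eq_mul]
  linear_combination (X * geo K) * h' - (geo K + X * d⁄dX K (geo K)) * h

/-- Newton's recursion for the γ-operations. -/
lemma gamma_succ_newton (n : ℕ) (x : K) :
    ((n + 1 : ℕ) : K) * gamma (n + 1) x =
      ∑ a ∈ range (n + 1), (∑ k ∈ range (a + 1),
        (-1) ^ k * ((a + 1).choose (k + 1) : K) * adamsOp (k + 1) x) * gamma (n - a) x := by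
  have hd : d⁄dX K (gammaSeries x) =
      (geo K ^ 2 * subst (uSeries K) (logDerivSeries x)) * gammaSeries x := by
    rw [gammaSeries_eq_subst, derivative_subst (hasSubst_u K), lamSeries_mul_logDeriv,
      subst_mul (hasSubst_u K), derivative_uSeries]
    ring
  have h := congrArg (coeff n) hd
  rw [coeff_derivative, coeff_gammaSeries, coeff_mul (φ := geo K ^ 2 * _),
    Finset.Nat.sum_antidiagonal_eq_sum_range_succ_mk] at h
  rw [mul_comm, Nat.cast_succ, h]
  refine Finset.sum_congr rfl fun a _ => ?_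
  rw [coeff_gammaSeries]
  congr 1
  -- compare with the finite expansion
  have key : ∀ k, coeff a (geo K ^ 2 * uSeries K ^ k) =
      if k ≤ a then ((a + 1).choose (k + 1) : K) else 0 := by
    intro k
    rw [uSeries, mul_pow, show geo K ^ 2 * (X ^ k * geo K ^ k) = X ^ k * geo K ^ (k + 1 + 1) by ring,
      coeff_X_pow_mul', geo, mk_one_pow_eq_mk_choose_add]
    split_ifs with hk
    · rw [coeff_mk, show k + 1 + (a - k) = a + 1 by omega]
    · rfl
  have hsub : ∀ b ≤ a, coeff b (subst (uSeries K) (logDerivSeries x)) =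
      coeff b (∑ k ∈ range (a + 1), C (coeff k (logDerivSeries x)) * uSeries K ^ k) := by
    intro b hb
    rw [coeff_subst' (hasSubst_u K), map_sum, finsum_eq_sum_of_support_subset (s := range (a + 1))]
    · simp [coeff_C_mul]
    · intro d hd
      simp only [Function.mem_support, smul_eq_mul] at hd
      simp only [coe_range, Set.mem_Iio]
      by_contra h'
      apply hd
      rw [coeff_uSeries_pow, if_neg (by omega), if_neg (by omega), mul_zero]
  have : coeff a (geo K ^ 2 * subst (uSeries K) (logDerivSeries x)) =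
      coeff a (geo K ^ 2 * ∑ k ∈ range (a + 1), C (coeff k (logDerivSeries x)) * uSeries K ^ k) := by
    rw [coeff_mul, coeff_mul]
    refine Finset.sum_congr rfl fun q hq => ?_
    rw [hsub q.2 (by rw [Finset.mem_antidiagonal] at hq; omega)]
  rw [this, Finset.mul_sum, map_sum]
  refine Finset.sum_congr rfl fun k hk => ?_
  rw [mem_range] at hk
  rw [mul_left_comm, coeff_C_mul, key, if_pos (by omega), coeff_logDeriv]
  ring

end Groth.Agent.Lambda
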