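import Groth.Agent.Lib.Lambda.Apps
import Groth.Agent.Lib.Lambda.Positive
import Mathlib.Algebra.MvPolynomial.Expand

/-!
λ-rings with the splitting property.
-/

universe u

open Finset

namespace Groth.Agent.Lambda

open LambdaRing (LambdaOps adamsOp lamSeries gamma IsSpecial PosStructure HasSplitting IsExtension
  IsLambdaHom gammaFiltration gammaFil)
open MvPolynomial

lemma adamsOp_map {A B : Type*} [CommRing A] [CommRing B] [LambdaOps A] [LambdaOps B] (f : A →+* B)
    (hf : ∀ n x, f (LambdaOps.lam n x) = LambdaOps.lam n (f x)) (k : ℕ) (x : A) :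
    f (adamsOp k x) = adamsOp k (f x) := by
  cases k with
  | zero => simp [LambdaRing.adamsOp]
  | succ m =>
    have h1 : PowerSeries.map f (lamSeries x) = lamSeries (f x) := by
      ext n; simp [LambdaRing.lamSeries, hf n x]
    have h2 : PowerSeries.map f (LambdaRing.logDerivSeries x) = LambdaRing.logDerivSeries (f x) := by
      refine (isUnit_lamSeries (f x)).mul_right_cancel ?_
      rw [← lamSeries_mul_logDeriv, ← h1, ← map_mul, ← lamSeries_mul_logDeriv]
      ext n
      simp [PowerSeries.coeff_derivative]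
    rw [LambdaRing.adamsOp, LambdaRing.adamsOp, ← h2, PowerSeries.coeff_map]
    simp

section Lines

variable {σ : Type u}

/-- ψ^k on ℚ[σ]. -/
noncomputable def psiExpand (k : ℕ) : MvPolynomial σ ℚ →+ MvPolynomial σ ℚ :=
  (MvPolynomial.expand (σ := σ) (R := ℚ) k).toRingHom.toAddMonoidHom

lemma psiExpand_one : psiExpand (σ := σ) 1 = AddMonoidHom.id _ := by
  ext x : 1
  simp [psiExpand, MvPolynomial.expand_one]

/-- The λ-structure on ℚ[σ] with the variables as line elements. -/
@[reducible] noncomputable def varOps (σ : Type u) : LambdaOps (MvPolynomial σ ℚ) :=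
  lambdaOpsOfAdams (MvPolynomial σ ℚ) psiExpand psiExpand_one

attribute [local instance] varOps

lemma adamsOp_var (k : ℕ) (hk : 1 ≤ k) (x : MvPolynomial σ ℚ) :
    adamsOp k x = MvPolynomial.expand k x :=
  adamsOp_lambdaOpsOfAdams _ psiExpand psiExpand_one k hk x

lemma isSpecial_var : IsSpecial (MvPolynomial σ ℚ) := by
  refine isSpecial_of_adamsOp (fun k hk => ?_) (fun k hk x y => ?_) fun k k' hk hk' x => ?_
  · rw [adamsOp_var k hk, map_one]
  · rw [adamsOp_var k hk, adamsOp_var k hk, adamsOp_var k hk, map_mul]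
  · rw [adamsOp_var k hk, adamsOp_var k' hk', adamsOp_var _ (Nat.mul_pos hk hk'),
      MvPolynomial.expand_mul]

lemma lam_monomial (d : σ →₀ ℕ) (j : ℕ) (hj : 2 ≤ j) :
    LambdaOps.lam j (monomial d (1 : ℚ)) = 0 := by
  rw [lam_eq_E, E_congr j (u' := fun k => ∑ _i : Fin 1, monomial d (1 : ℚ) ^ k),
    ← esymm_map_eq_E (fun _ : Fin 1 => monomial d (1 : ℚ)), Finset.esymm_map_val,
    Finset.powersetCard_eq_empty.2 (by simp only [Finset.card_univ, Fintype.card_fin]; omega)]
  · simp
  · intro k hk _
    rw [adamsOp_var k hk, Fin.sum_const, one_smul]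
    simp [MvPolynomial.expand_monomial, monomial_pow]

variable {L : Type u} [CommRing L] [LambdaOps L] (θ : MvPolynomial σ ℤ →+* L)

lemma exists_lam_lift (h1 : ∀ j, 2 ≤ j → LambdaOps.lam j (1 : L) = 0)
    (hθ : ∀ (d : σ →₀ ℕ) (j : ℕ), 2 ≤ j → LambdaOps.lam j (θ (monomial d 1)) = 0)
    (z : MvPolynomial σ ℤ) :
    ∀ n, ∃ w : MvPolynomial σ ℤ, LambdaOps.lam n (MvPolynomial.map (Int.castRingHom ℚ) z) =
      MvPolynomial.map (Int.castRingHom ℚ) w ∧ LambdaOps.lam n (θ z) = θ w := by
  let φ : MvPolynomial σ ℤ →+* MvPolynomial σ ℚ := MvPolynomial.map (Int.castRingHom ℚ)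
  let S : MvPolynomial σ ℤ → Prop := fun z => ∀ n, ∃ w : MvPolynomial σ ℤ,
    LambdaOps.lam n (φ z) = φ w ∧ LambdaOps.lam n (θ z) = θ w
  show S z
  have hzero : S 0 := fun n => ⟨if n = 0 then 1 else 0, by
    simp only [map_zero, lam_zero_right]; split_ifs <;> simp⟩
  have hadd : ∀ a b, S a → S b → S (a + b) := by
    intro a b ha hb n
    choose f hf hf' using ha
    choose g hg hg' using hb
    refine ⟨∑ i ∈ range (n + 1), f i * g (n - i), ?_, ?_⟩ <;>
      rw [map_add, LambdaOps.lam_add, map_sum] <;>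
      exact Finset.sum_congr rfl fun i _ => by simp [hf, hf', hg, hg']
  have hneg : ∀ a, S a → S (-a) := by
    intro a ha n
    induction n using Nat.strong_induction_on with
    | _ n ih =>
      cases n with
      | zero => exact ⟨1, by simp [LambdaOps.lam_zero]⟩
      | succ n =>
        choose f hf hf' using ha
        choose g hg hg' using fun (i : Fin (n + 1)) => ih i i.2
        refine ⟨- ∑ i : Fin (n + 1), g i * f (n + 1 - i), ?_, ?_⟩
        · have h0 := LambdaOps.lam_add (n + 1) (-(φ a)) (φ a)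
          rw [neg_add_cancel, lam_zero_right, if_neg (by omega), Finset.sum_range_succ,
            Nat.sub_self, LambdaOps.lam_zero, mul_one, ← Fin.sum_univ_eq_sum_range] at h0
          rw [map_neg φ, map_neg φ, map_sum, eq_neg_of_add_eq_zero_right h0.symm]
          congr 1
          exact Finset.sum_congr rfl fun i _ => by
            rw [← map_neg φ, hg, hf, map_mul]
        · have h0 := LambdaOps.lam_add (n + 1) (-(θ a)) (θ a)
          rw [neg_add_cancel, lam_zero_right, if_neg (by omega), Finset.sum_range_succ,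
            Nat.sub_self, LambdaOps.lam_zero, mul_one, ← Fin.sum_univ_eq_sum_range] at h0
          rw [map_neg θ, map_neg θ, map_sum, eq_neg_of_add_eq_zero_right h0.symm]
          congr 1
          exact Finset.sum_congr rfl fun i _ => by
            rw [← map_neg θ, hg', hf', map_mul]
  have hmon : ∀ d, S (monomial d 1) := by
    intro d n
    match n with
    | 0 => exact ⟨1, by simp [LambdaOps.lam_zero]⟩
    | 1 => exact ⟨monomial d 1, by simp [LambdaOps.lam_one]⟩
    | n + 2 => exact ⟨0, by simp [φ, lam_monomial, hθ d (n + 2) (by omega)]⟩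
  induction z using MvPolynomial.induction_on' with
  | monomial d c =>
    induction c using Int.induction_on with
    | zero => simpa using hzero
    | succ i ih => rw [map_add]; exact hadd _ _ ih (hmon d)
    | pred i ih =>
      rw [sub_eq_add_neg, map_add, show monomial d (-1 : ℤ) = -monomial d 1 by simp]
      exact hadd _ _ ih (hneg _ (hmon d))
  | add a b ha hb => exact hadd a b ha hb

variable (h1 : ∀ j, 2 ≤ j → LambdaOps.lam j (1 : L) = 0)
  (hθ : ∀ (d : σ →₀ ℕ) (j : ℕ), 2 ≤ j → LambdaOps.lam j (θ (monomial d 1)) = 0)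

include h1 hθ in
lemma lam_mul_lines {n : ℕ} {P : MvPolynomial (Fin n ⊕ Fin n) ℤ} (hP : LambdaRing.IsMulPoly n P)
    (z z' : MvPolynomial σ ℤ) :
    LambdaOps.lam n (θ z * θ z') = aeval (Sum.elim (fun k : Fin n => LambdaOps.lam (k + 1) (θ z))
      (fun k : Fin n => LambdaOps.lam (k + 1) (θ z'))) P := by
  obtain ⟨w, hw, hw'⟩ := exists_lam_lift θ h1 hθ (z * z') n
  choose f hf hf' using exists_lam_lift θ h1 hθ z
  choose g hg hg' using exists_lam_lift θ h1 hθ z'
  rw [← map_mul, hw']
  have : w = aeval (Sum.elim (fun k : Fin n => f (k + 1)) (fun k : Fin n => g (k + 1))) P := by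
    apply MvPolynomial.map_injective (Int.castRingHom ℚ) Int.cast_injective
    rw [← hw, map_mul, isSpecial_var.lam_mul n P hP, aeval_int_comm]
    refine aeval_int_congr (fun k => ?_) P
    rcases k with k | k <;> simp [hf, hg]
  rw [this, aeval_int_comm]
  refine aeval_int_congr (fun k => ?_) P
  rcases k with k | k <;> simp [hf', hg']

include h1 hθ in
lemma lam_lam_lines {i j : ℕ} {Q : MvPolynomial (Fin (i * j)) ℤ}
    (hQ : LambdaRing.IsCompPoly i j Q) (z : MvPolynomial σ ℤ) :
    LambdaOps.lam j (LambdaOps.lam i (θ z)) =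
      aeval (fun k : Fin (i * j) => LambdaOps.lam (k + 1) (θ z)) Q := by
  choose f hf hf' using exists_lam_lift θ h1 hθ z
  obtain ⟨w, hw, hw'⟩ := exists_lam_lift θ h1 hθ (f i) j
  rw [hf', hw']
  have : w = aeval (fun k : Fin (i * j) => f (k + 1)) Q := by
    apply MvPolynomial.map_injective (Int.castRingHom ℚ) Int.cast_injective
    rw [← hw, ← hf, isSpecial_var.lam_lam i j Q hQ, aeval_int_comm]
    exact aeval_int_congr (fun k => by simp [hf]) Q
  rw [this, aeval_int_comm]
  exact aeval_int_congr (fun k => by simp [hf']) Q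

end Lines

section Splitting

variable {K : Type u} [CommRing K] [LambdaOps K] {P : PosStructure K}

lemma isExtension_id (P : PosStructure K) : IsExtension P P (RingHom.id K) :=
  ⟨fun _ _ => rfl, fun _ _ h => h, fun _ => rfl, fun _ h => h⟩

lemma IsExtension.comp' {L M : Type u} [CommRing L] [LambdaOps L] [CommRing M] [LambdaOps M]
    {PL : PosStructure L} {PM : PosStructure M} {f : K →+* L} {g : L →+* M}
    (hf : IsExtension P PL f) (hg : IsExtension PL PM g) : IsExtension P PM (g.comp f) where
  isLambdaHom i x := by simp [hf.isLambdaHom i x, hg.isLambdaHom i (f x)]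
  injective := hg.injective.comp hf.injective
  aug_comp x := by simp [hg.aug_comp, hf.aug_comp]
  pos_subset e he := hg.pos_subset _ (hf.pos_subset e he)

lemma split_many (hK : HasSplitting K P) (es : List K) (he : ∀ e ∈ es, e ∈ P.pos) :
    ∃ (L : LambdaRing.PosLambdaRing.{u}) (f : K →+* L.carrier), IsExtension P L.posStr f ∧
      ∀ e ∈ es, ∃ s : Multiset L.carrier, (∀ u ∈ s, L.posStr.IsLine u) ∧ s.sum = f e := by
  obtain ⟨C, hC, hsplit⟩ := hK
  suffices h : ∃ L ∈ C, ∃ f : K →+* L.carrier, IsExtension P L.posStr f ∧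
      ∀ e ∈ es, ∃ s : Multiset L.carrier, (∀ u ∈ s, L.posStr.IsLine u) ∧ s.sum = f e by
    obtain ⟨L, -, f, h⟩ := h
    exact ⟨L, f, h⟩
  induction es with
  | nil => exact ⟨_, hC, RingHom.id K, isExtension_id P, by simp⟩
  | cons e es ih =>
    obtain ⟨L, hL, f, hf, hs⟩ := ih fun a ha => he a (List.mem_cons_of_mem e ha)
    obtain ⟨L', hL', g, hg, s, hs', hse⟩ :=
      hsplit L hL (f e) (hf.pos_subset e (he e (List.mem_cons_self ..)))
    refine ⟨L', hL', g.comp f, IsExtension.comp' hf hg, fun a ha => ?_⟩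
    rcases List.mem_cons.1 ha with rfl | ha
    · exact ⟨s, hs', hse⟩
    · obtain ⟨t, ht, hte⟩ := hs a ha
      refine ⟨t.map g, fun u hu => ?_, ?_⟩
      · obtain ⟨v, hv, rfl⟩ := Multiset.mem_map.1 hu
        exact ⟨hg.pos_subset _ (ht v hv).1, by rw [hg.aug_comp]; exact (ht v hv).2⟩
      · rw [Multiset.sum_hom, hte]; rfl

lemma isLine_one (P : PosStructure K) : P.IsLine (1 : K) :=
  ⟨by simpa using P.natCast_mem 1 one_pos, map_one _⟩

lemma IsLine.mul' {u v : K} (hu : P.IsLine u) (hv : P.IsLine v) : P.IsLine (u * v) :=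
  ⟨P.mul_mem u v hu.1 hv.1, by rw [map_mul, hu.2, hv.2, mul_one]⟩

lemma exists_lines_rep (hK : HasSplitting K P) (xs : List K) :
    ∃ (L : LambdaRing.PosLambdaRing.{u}) (f : K →+* L.carrier) (σ : Type u)
      (θ : MvPolynomial σ ℤ →+* L.carrier), IsExtension P L.posStr f ∧
      (∀ d, L.posStr.IsLine (θ (monomial d 1))) ∧ ∀ x ∈ xs, ∃ z, θ z = f x := by
  choose p q hp hq hpq using P.exists_sub
  obtain ⟨L, f, hf, hs⟩ := split_many hK (xs.map p ++ xs.map q) (by
    intro e he
    simp only [List.mem_append, List.mem_map] at he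
    rcases he with ⟨x, -, rfl⟩ | ⟨x, -, rfl⟩
    exacts [hp x, hq x])
  let θ : MvPolynomial {u : L.carrier // L.posStr.IsLine u} ℤ →+* L.carrier :=
    eval₂Hom (Int.castRingHom _) Subtype.val
  refine ⟨L, f, _, θ, hf, fun d => ?_, fun x hx => ?_⟩
  · induction d using Finsupp.induction with
    | zero => simpa using isLine_one L.posStr
    | single_add a k d hp hk ih =>
      rw [monomial_single_add, map_mul, map_pow]
      refine IsLine.mul' ?_ ih
      clear ih hk
      induction k with
      | zero => simpa using isLine_one L.posStr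
      | succ k ihk => rw [pow_succ]; exact IsLine.mul' ihk (by simpa [θ] using a.2)
  · have hsum : ∀ s : Multiset L.carrier, (∀ u ∈ s, L.posStr.IsLine u) → ∃ z, θ z = s.sum := by
      intro s
      induction s using Multiset.induction with
      | empty => exact fun _ => ⟨0, by simp⟩
      | cons a s ih =>
        intro h
        obtain ⟨z, hz⟩ := ih fun u hu => h u (Multiset.mem_cons_of_mem hu)
        exact ⟨X ⟨a, h a (Multiset.mem_cons_self a s)⟩ + z, by simp [θ, ← hz]⟩
    obtain ⟨s, hs1, hs2⟩ := hs (p x) (by simp only [List.mem_append, List.mem_map]; exact Or.inl ⟨x, hx, rfl⟩)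
    obtain ⟨t, ht1, ht2⟩ := hs (q x) (by simp only [List.mem_append, List.mem_map]; exact Or.inr ⟨x, hx, rfl⟩)
    obtain ⟨z, hz⟩ := hsum s hs1
    obtain ⟨w, hw⟩ := hsum t ht1
    exact ⟨z - w, by rw [map_sub, hz, hw, hs2, ht2, ← map_sub, ← hpq x]⟩

theorem isSpecial_of_hasSplitting (hK : HasSplitting K P) : IsSpecial K := by
  constructor
  · exact fun n hn => pos_lam_one P n hn
  · intro n Q hQ x y
    obtain ⟨L, f, σ, θ, hf, hθ, hx⟩ := exists_lines_rep hK [x, y]
    obtain ⟨z, hz⟩ := hx x (by simp)
    obtain ⟨w, hw⟩ := hx y (by simp)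
    apply hf.injective
    rw [hf.isLambdaHom, map_mul, ← hz, ← hw,
      lam_mul_lines θ (pos_lam_one L.posStr) (fun d => line_lam L.posStr (hθ d)) hQ, aeval_int_comm]
    refine aeval_int_congr (fun k => ?_) Q
    rcases k with k | k <;> simp [hf.isLambdaHom _ _, hz, hw]
  · intro i j Q hQ x
    obtain ⟨L, f, σ, θ, hf, hθ, hx⟩ := exists_lines_rep hK [x]
    obtain ⟨z, hz⟩ := hx x (by simp)
    apply hf.injective
    rw [hf.isLambdaHom, hf.isLambdaHom, ← hz,
      lam_lam_lines θ (pos_lam_one L.posStr) (fun d => line_lam L.posStr (hθ d)) hQ, aeval_int_comm]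
    exact aeval_int_congr (fun k => by simp [hf.isLambdaHom _ _, hz]) Q

lemma aug_lam_pos (hK : HasSplitting K P) (e : K) (he : e ∈ P.pos) (i : ℕ) :
    P.aug (LambdaOps.lam i e) = ((P.aug e).toNat.choose i : ℤ) := by
  obtain ⟨L, f, hf, hs⟩ := split_many hK [e] (by simpa using he)
  obtain ⟨s, hs, hse⟩ := hs e (by simp)
  have hseries : ∀ s : Multiset L.carrier, (∀ u ∈ s, L.posStr.IsLine u) →
      PowerSeries.map L.posStr.aug (lamSeries s.sum) = (1 + PowerSeries.X) ^ s.card ∧
        L.posStr.aug s.sum = s.card := by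
    intro s
    induction s using Multiset.induction with
    | empty => intro _; simp [lamSeries_zero]
    | cons a s ih =>
      intro h
      obtain ⟨h1, h2⟩ := ih fun u hu => h u (Multiset.mem_cons_of_mem hu)
      have ha := h a (Multiset.mem_cons_self a s)
      simp only [Multiset.sum_cons, Multiset.card_cons]
      refine ⟨?_, ?_⟩
      · rw [lamSeries_add, map_mul, h1, lamSeries_of_lam_eq_zero (line_lam L.posStr ha), pow_succ']
        simp [ha.2]
      · rw [map_add, h2, ha.2]; push_cast; ring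
  obtain ⟨h1, h2⟩ := hseries s hs
  rw [hse, hf.aug_comp] at h2
  rw [← hf.aug_comp, hf.isLambdaHom, ← hse, ← coeff_lamSeries, ← PowerSeries.coeff_map, h1, h2,
    Int.toNat_natCast, add_comm (1 : PowerSeries ℤ),
    show ((PowerSeries.X + 1 : PowerSeries ℤ)) = ((Polynomial.X + 1 : Polynomial ℤ) : PowerSeries ℤ) by simp,
    ← Polynomial.coe_pow, Polynomial.coeff_coe, Polynomial.coeff_X_add_one_pow]

lemma adams_mul (hK : HasSplitting K P) (j : ℕ) (x y : K) :
    LambdaRing.adams P j (x * y) = LambdaRing.adams P j x * LambdaRing.adams P j y := by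
  cases j with
  | zero => simp [adams_zero]
  | succ k =>
    simp only [adams_succ]
    exact adamsOp_mul (isSpecial_of_hasSplitting hK) (k + 1) (by omega) x y

lemma aug_adamsOp (hK : HasSplitting K P) (k : ℕ) (hk : 1 ≤ k) (x : K) :
    P.aug (adamsOp k x) = P.aug x := by
  obtain ⟨L, f, σ, θ, hf, hθ, hx⟩ := exists_lines_rep hK [x]
  obtain ⟨z, hz⟩ := hx x (by simp)
  rw [← hf.aug_comp, adamsOp_map f hf.isLambdaHom, ← hz, ← hf.aug_comp x, ← hz]
  clear hz hx
  induction z using MvPolynomial.induction_on' with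
  | monomial d c =>
    have h : L.posStr.aug (adamsOp k (θ (monomial d 1))) = 1 := by
      rw [adamsOp_of_line (line_lam L.posStr (hθ d)) k hk, map_pow, (hθ d).2, one_pow]
    rw [show monomial d c = c • monomial d (1 : ℤ) by simp [smul_monomial], map_zsmul,
      show adamsOp k (c • θ (monomial d 1)) = c • adamsOp k (θ (monomial d 1)) from
        map_zsmul (adamsHom (K := L.carrier) k) c _, map_zsmul, map_zsmul, h, (hθ d).2]
  | add a b ha hb => simp only [map_add, adamsOp_add, ha, hb]

lemma adams_adams (hK : HasSplitting K P) (i j : ℕ) (x : K) :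
    LambdaRing.adams P i (LambdaRing.adams P j x) = LambdaRing.adams P (i * j) x := by
  rcases Nat.eq_zero_or_pos j with rfl | hj
  · simp only [mul_zero, adams_zero]
    rcases Nat.eq_zero_or_pos i with rfl | hi
    · simp [adams_zero]
    · rw [adams_eq_adamsOp P hi]
      have := map_zsmul (adamsHom (K := K) i) (P.aug x) (1 : K)
      rw [zsmul_one] at this
      exact this.trans (by
        show P.aug x • adamsOp i (1 : K) = _
        rw [adamsOp_apply_one (pos_lam_one P) i hi, zsmul_one])
  rcases Nat.eq_zero_or_pos i with rfl | hi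
  · rw [zero_mul, adams_zero, adams_zero, adams_eq_adamsOp P hj, aug_adamsOp hK j hj]
  rw [adams_eq_adamsOp P hi, adams_eq_adamsOp P hj, adams_eq_adamsOp P (Nat.mul_pos hi hj)]
  exact adamsOp_adamsOp (isSpecial_of_hasSplitting hK) i j hi hj x

/-- The γ-filtration of a positive structure is that of its augmentation. -/
lemma gammaFiltration_eq_gammaFil (P : PosStructure K) (n : ℕ) (x : K) :
    x ∈ gammaFiltration P n ↔ x ∈ gammaFil P.aug n := by
  rcases eq_or_ne n 0 with rfl | hn
  · simp [gammaFiltration_zero, mem_gammaFil_zero]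
  constructor
  · intro hx
    rw [gammaFiltration_eq P n hn] at hx
    exact AddSubgroup.closure_le (K := (gammaFil P.aug n).toAddSubgroup) |>.2
      (fun y hy => Ideal.subset_span hy) hx
  · intro hx
    refine Submodule.span_induction (p := fun y _ => y ∈ gammaFiltration P n) ?_ ?_ ?_ ?_ hx
    · intro y hy
      rw [gammaFiltration_eq P n hn]
      exact AddSubgroup.subset_closure hy
    · exact zero_mem _
    · exact fun a b _ _ => add_mem
    · exact fun a b _ hb => mul_left_mem_gammaFiltration P n a b hb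

lemma gammaFiltration_anti (P : PosStructure K) {m n : ℕ} (h : m ≤ n) :
    gammaFiltration P n ≤ gammaFiltration P m := fun x hx =>
  (gammaFiltration_eq_gammaFil P m x).2 ((gammaFilt P.aug).anti h
    ((gammaFiltration_eq_gammaFil P n x).1 hx))

lemma sub_aug_mem_one (P : PosStructure K) (x : K) :
    x - (P.aug x : K) ∈ gammaFiltration P 1 := by
  rw [gammaFiltration_eq P 1 one_ne_zero]
  apply AddSubgroup.subset_closure
  exact ⟨[(1, x - (P.aug x : K))], by simp, by simp, by simp [gamma_one]⟩

theorem adams_sub_mem (hK : HasSplitting K P) (j : ℕ) (hj : 1 ≤ j) (n : ℕ) (x : K)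
    (hx : x ∈ gammaFiltration P n) :
    LambdaRing.adams P j x - (j : K) ^ n * x ∈ gammaFiltration P (n + 1) := by
  have hS := isSpecial_of_hasSplitting hK
  rw [adams_eq_adamsOp P hj]
  have main : ∀ n, 1 ≤ n → ∀ x ∈ gammaFiltration P n,
      adamsOp j x - (j : K) ^ n * x ∈ gammaFiltration P (n + 1) := by
    intro n hn x hx
    rw [gammaFiltration_eq P n (by omega)] at hx
    refine AddSubgroup.closure_induction
      (p := fun x _ => adamsOp j x - (j : K) ^ n * x ∈ gammaFiltration P (n + 1)) ?_ ?_ ?_ ?_ hx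
    · rintro _ ⟨l, hl, hs, rfl⟩
      obtain ⟨k, rfl⟩ : ∃ k, j = k + 1 := ⟨j - 1, by omega⟩
      let y : Fin l.length → K := fun s => (l.get s).2
      let f : GPoly l.length := ∏ s, genPow s (l.get s).1
      have hev : ev (1 : K) y f = (l.map fun p => gamma p.1 p.2).prod := by
        simp only [f, map_prod, ev_genPow, list_prod_eq, y]
      have hf : ModelDvd.{u} f n := by
        refine ModelDvd.mono (modelDvd_prod univ _ _ fun s _ => modelDvd_genPow s _) ?_
        rw [← list_sum_eq]; exact hs
      obtain ⟨g, hg⟩ := exists_adams_op.{u} f k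
      have hd : ModelDvd.{u} (g - ((k + 1 : ℕ) : GPoly l.length) ^ n * f) (n + 1) := by
        intro r
        rw [map_sub, map_mul, map_pow, map_natCast, adams_op_mev hg, PowerSeries.X_pow_dvd_iff]
        intro i hi
        rw [map_sub, PowerSeries.coeff_rescale,
          show ((k + 1 : ℕ) : PowerSeries (ModelRing.{u} r)) ^ n =
            PowerSeries.C (((k + 1 : ℕ) : ModelRing.{u} r) ^ n) by simp, PowerSeries.coeff_C_mul]
        rcases Nat.lt_or_ge i n with h | h
        · rw [PowerSeries.X_pow_dvd_iff.1 (hf r) i h]; simp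
        · rw [show i = n by omega, sub_self]
      have := hd.ev_mem (gammaFilt P.aug) (binElt_one hS) (x := y) fun s =>
        (goodElt_gammaFilt P.aug (hl _ (List.get_mem l s))).gen
      rw [map_sub, map_mul, map_pow, map_natCast, ← hg K hS 1 y, hev] at this
      exact (gammaFiltration_eq_gammaFil P (n + 1) _).2 this
    · simp [adamsOp_zero_right]
    · intro a b _ _ ha hb
      rw [adamsOp_add, mul_add, add_sub_add_comm]
      exact add_mem ha hb
    · intro a _ ha
      rw [adamsOp_neg, mul_neg, show -adamsOp j a - -((j : K) ^ n * a) =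
        -(adamsOp j a - (j : K) ^ n * a) by ring]
      exact neg_mem ha
  rcases Nat.eq_zero_or_pos n with rfl | hn
  · have h := main 1 le_rfl _ (sub_aug_mem_one P x)
    have h1 := sub_aug_mem_one P x
    have hc : adamsOp j ((P.aug x : ℤ) : K) = ((P.aug x : ℤ) : K) := by
      have := map_zsmul (adamsHom (K := K) j) (P.aug x) (1 : K)
      rw [zsmul_one] at this
      refine this.trans ?_
      show P.aug x • adamsOp j (1 : K) = _
      rw [adamsOp_apply_one (pos_lam_one P) j hj, zsmul_one]
    rw [show x - (P.aug x : K) = x + -((P.aug x : ℤ) : K) by ring, adamsOp_add, adamsOp_neg, hc] at h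
    rw [pow_one] at h
    rw [pow_zero, one_mul, show adamsOp j x - x =
      (adamsOp j x + -((P.aug x : ℤ) : K) - (j : K) * (x + -((P.aug x : ℤ) : K))) +
        ((j : K) - 1) * (x - (P.aug x : K)) by ring]
    exact add_mem (gammaFiltration_anti P (by omega) h) (mul_left_mem_gammaFiltration P 1 _ _ h1)
  · exact main n hn x hx

lemma lamAlt_eq (e : K) (he : e ∈ P.pos) :
    ∑ i ∈ range ((P.aug e).toNat + 1), (-1 : K) ^ i * LambdaOps.lam i e =
      (-1) ^ (P.aug e).toNat * gamma (P.aug e).toNat (e - ((P.aug e).toNat : K)) :=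
  (gamma_sub_rank (pos_lam_one P) _ e fun k hk => lam_pos_eq_zero P he k hk).2

lemma lamAlt_mem (e : K) (he : e ∈ P.pos) :
    ∑ i ∈ range ((P.aug e).toNat + 1), (-1 : K) ^ i * LambdaOps.lam i e ∈
      gammaFiltration P (P.aug e).toNat := by
  rw [lamAlt_eq e he]
  refine mul_left_mem_gammaFiltration P _ _ _ ((gammaFiltration_eq_gammaFil P _ _).2 ?_)
  refine goodElt_gammaFilt P.aug ?_ _
  have := P.aug_pos e he
  simp [Int.toNat_of_nonneg this.le]

end Splitting

end Groth.Agent.Lambda
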