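import Groth.Agent.Lib.Lambda.Newton

/-!
The universal polynomials P_n, Q_{i,j}; special λ-rings from Adams operations in characteristic zero.
-/

universe u v w

open Finset MvPolynomial

namespace Groth.Agent.Lambda

open LambdaRing (LambdaOps adamsOp mulGen compGen IsMulPoly IsCompPoly IsSpecial)

lemma esymm_map_hom {R : Type u} {S : Type v} [CommSemiring R] [CommSemiring S] (φ : R →+* S)
    {ι : Type w} (s : Finset ι) (f : ι → R) (n : ℕ) :
    φ ((s.val.map f).esymm n) = (s.val.map (fun i => φ (f i))).esymm n := by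
  simp [Finset.esymm_map_val, map_sum, map_prod]

lemma esymm_reindex {R : Type u} [CommSemiring R] {ι : Type v} [Fintype ι] (e : ι ≃ ι)
    (f : ι → R) (n : ℕ) :
    ((univ : Finset ι).val.map (fun i => f (e i))).esymm n =
      ((univ : Finset ι).val.map f).esymm n := by
  congr 1
  conv_rhs => rw [← Finset.map_univ_equiv e, Finset.map_val, Multiset.map_map]
  rfl

lemma esymm_isWeightedHomogeneous_map {τ : Type} {R : Type} [CommRing R] {ι : Type} (s : Finset ι)
    {M : Type} [AddCommMonoid M] (W : τ → M) (f : ι → MvPolynomial τ R) (m : M)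
    (hf : ∀ i ∈ s, IsWeightedHomogeneous W (f i) m) (n : ℕ) :
    IsWeightedHomogeneous W ((s.val.map f).esymm n) (n • m) := by
  rw [Finset.esymm_map_val]
  refine IsWeightedHomogeneous.sum _ _ _ fun t ht => ?_
  rw [Finset.mem_powersetCard] at ht
  have := IsWeightedHomogeneous.prod t f (fun _ => m) fun i hi => hf i (ht.1 hi)
  simpa [ht.2] using this

lemma aeval_monomial_weight {σ τ M : Type} [AddCommMonoid M] {R : Type} [CommRing R]
    {w : σ → M} {W : τ → M} {g : σ → MvPolynomial τ R}
    (hg : ∀ i, IsWeightedHomogeneous W (g i) (w i)) (d : σ →₀ ℕ) (c : R) :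
    IsWeightedHomogeneous W (aeval g (monomial d c)) (Finsupp.weight w d) := by
  rw [aeval_monomial, MvPolynomial.algebraMap_eq]
  refine IsWeightedHomogeneous.C_mul ?_ c
  rw [Finsupp.prod, Finsupp.weight_apply, Finsupp.sum]
  exact IsWeightedHomogeneous.prod _ _ _ fun i _ => (hg i).pow _

lemma isWeightedHomogeneous_of_aeval {σ τ M : Type} [AddCommMonoid M] [DecidableEq M] {R : Type}
    [CommRing R] {w : σ → M} {W : τ → M} {g : σ → MvPolynomial τ R}
    (hg : ∀ i, IsWeightedHomogeneous W (g i) (w i))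
    (hinj : Function.Injective (aeval g : MvPolynomial σ R →ₐ[R] MvPolynomial τ R))
    {p : MvPolynomial σ R} {m : M} (hp : IsWeightedHomogeneous W (aeval g p) m) :
    IsWeightedHomogeneous w p m := by
  have key : ∀ q : MvPolynomial σ R, weightedHomogeneousComponent W m (aeval g q) =
      aeval g (weightedHomogeneousComponent w m q) := by
    intro q
    induction q using MvPolynomial.induction_on' with
    | monomial d c =>
      have h1 := aeval_monomial_weight hg d c
      have h2 : IsWeightedHomogeneous w (monomial d c) (Finsupp.weight w d) :=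
        isWeightedHomogeneous_monomial w d c rfl
      by_cases h : Finsupp.weight w d = m
      · subst h
        rw [h1.weightedHomogeneousComponent_same, h2.weightedHomogeneousComponent_same]
      · rw [h1.weightedHomogeneousComponent_ne _ (Ne.symm h),
          h2.weightedHomogeneousComponent_ne _ (Ne.symm h), map_zero]
    | add a b ha hb => simp only [map_add, ha, hb]
  have := key p
  rw [hp.weightedHomogeneousComponent_same] at this
  rw [hinj this]
  exact weightedHomogeneousComponent_isWeightedHomogeneous _ _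

lemma exists_isMulPoly (n : ℕ) : ∃ P : MvPolynomial (Fin n ⊕ Fin n) ℤ, IsMulPoly n P := by
  let A := MvPolynomial (Fin n) ℤ
  let e1 := sumAlgEquiv ℤ (Fin n) (Fin n)
  let p' : MvPolynomial (Fin n) A :=
    ((univ : Finset (Fin n × Fin n)).val.map (fun ab => X ab.1 * C (X ab.2))).esymm n
  have hp' : e1 (mulGen n n) = p' := by
    refine (esymm_map_hom e1.toRingEquiv.toRingHom _ _ n).trans ?_
    simp [p', e1, sumAlgEquiv_X_inl, sumAlgEquiv_X_inr]
  have hsymm : p' ∈ symmetricSubalgebra (Fin n) A := by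
    intro e
    refine (esymm_map_hom (rename e).toRingHom _ _ n).trans ?_
    refine Eq.trans ?_ (esymm_reindex (e.prodCongr (Equiv.refl (Fin n)))
      (fun ab => X ab.1 * C (X ab.2)) n)
    simp
  obtain ⟨P', hP'⟩ := esymmAlgHom_surjective (σ := Fin n) A (n := n) (by simp) ⟨p', hsymm⟩
  replace hP' : aeval (fun i : Fin n => esymm (Fin n) A (i + 1)) P' = p' := by
    rw [← esymmAlgHom_apply, hP']
  let G : A →ₐ[ℤ] A := aeval fun i : Fin n => esymm (Fin n) ℤ (i + 1)
  have hco : ∀ d, coeff d P' ∈ G.range := by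
    intro d
    have hs : coeff d P' ∈ symmetricSubalgebra (Fin n) ℤ := by
      intro e
      have h : MvPolynomial.map (rename e : A →ₐ[ℤ] A).toRingHom p' = p' := by
        refine (esymm_map_hom _ _ _ n).trans ?_
        refine Eq.trans ?_ (esymm_reindex ((Equiv.refl (Fin n)).prodCongr e)
          (fun ab => X ab.1 * C (X ab.2)) n)
        simp
      rw [← hP'] at h
      have h2 : ∀ q : MvPolynomial (Fin n) A, MvPolynomial.map (rename e : A →ₐ[ℤ] A).toRingHom
          (aeval (fun i : Fin n => esymm (Fin n) A (i + 1)) q) =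
          aeval (fun i : Fin n => esymm (Fin n) A (i + 1))
            (MvPolynomial.map (rename e : A →ₐ[ℤ] A).toRingHom q) := by
        intro q
        induction q using MvPolynomial.induction_on with
        | C r => simp [MvPolynomial.algebraMap_eq]; rfl
        | add a b ha hb => simp only [map_add, ha, hb]
        | mul_X a i ha =>
          rw [map_mul, aeval_X, map_mul, map_mul, map_mul, ha, MvPolynomial.map_X, aeval_X,
            MvPolynomial.map_esymm]
      rw [h2] at h
      have h3 : MvPolynomial.map (rename e : A →ₐ[ℤ] A).toRingHom P' = P' := by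
        apply esymmAlgHom_injective (σ := Fin n) A (n := n) (by simp)
        apply Subtype.ext
        rwa [esymmAlgHom_apply, esymmAlgHom_apply]
      have := congrArg (coeff d) h3
      rwa [MvPolynomial.coeff_map] at this
    obtain ⟨q, hq⟩ := esymmAlgHom_surjective (σ := Fin n) ℤ (n := n) (by simp) ⟨_, hs⟩
    exact ⟨q, (esymmAlgHom_apply q).symm.trans (congrArg Subtype.val hq)⟩
  obtain ⟨P'', rfl⟩ : P' ∈ Set.range (MvPolynomial.map G.toRingHom) := by
    rw [MvPolynomial.mem_range_map_iff_coeffs_subset]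
    intro c hc
    obtain ⟨d, -, rfl⟩ := mem_coeffs_iff.1 hc
    exact hco d
  let g : Fin n ⊕ Fin n → MvPolynomial (Fin n ⊕ Fin n) ℤ :=
    Sum.elim (fun k => rename Sum.inl (esymm (Fin n) ℤ ((k : ℕ) + 1)))
      (fun k => rename Sum.inr (esymm (Fin n) ℤ ((k : ℕ) + 1)))
  have heq : aeval g (e1.symm P'') = mulGen n n := by
    apply e1.injective
    rw [hp', ← hP']
    have := aeval_sum_elim (k := ℤ) ℤ (fun i : Fin n => esymm (Fin n) ℤ (i + 1))
      (fun i : Fin n => esymm (Fin n) ℤ (i + 1)) (e1.symm P'')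
    simp only [e1, AlgEquiv.apply_symm_apply] at this
    simpa [g, e1, G, MvPolynomial.map_id, map_esymm] using this
  refine ⟨e1.symm P'', heq, ?_⟩
  let W : Fin n ⊕ Fin n → ℕ × ℕ := Sum.elim (fun _ => (1, 0)) (fun _ => (0, 1))
  have hb : ∀ (c : Fin n → Fin n ⊕ Fin n) (m : ℕ × ℕ), (∀ a, W (c a) = m) → ∀ k : ℕ,
      IsWeightedHomogeneous W (rename c (esymm (Fin n) ℤ k)) (k • m) := by
    intro c m hc k
    have h := esymm_map_hom (rename c : MvPolynomial (Fin n) ℤ →ₐ[ℤ] _).toRingHom
      (univ : Finset (Fin n)) X k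
    rw [esymm_eq_multiset_esymm]
    refine h.symm ▸ esymm_isWeightedHomogeneous_map (univ : Finset (Fin n)) W _ m (fun a _ => ?_) k
    simpa [hc] using isWeightedHomogeneous_X ℤ W (c a)
  have hg : ∀ i, IsWeightedHomogeneous W (g i)
      (Sum.elim (fun k : Fin n => (((k : ℕ) + 1, 0) : ℕ × ℕ))
        (fun k : Fin n => ((0, (k : ℕ) + 1) : ℕ × ℕ)) i) := by
    rintro (k | k)
    · simpa [g] using hb Sum.inl (1, 0) (fun _ => rfl) (k + 1)
    · simpa [g] using hb Sum.inr (0, 1) (fun _ => rfl) (k + 1)
  refine isWeightedHomogeneous_of_aeval hg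
    ((stInj_esymm ℤ (Fin n) n (by simp)).sum (stInj_esymm ℤ (Fin n) n (by simp))).injective ?_
  rw [heq, mulGen]
  have h11 : ((n, n) : ℕ × ℕ) = n • ((1, 1) : ℕ × ℕ) := by simp
  rw [h11]
  refine esymm_isWeightedHomogeneous_map _ W _ (1, 1) (fun ab _ => ?_) n
  simpa [W] using (isWeightedHomogeneous_X ℤ W (Sum.inl ab.1)).mul
    (isWeightedHomogeneous_X ℤ W (Sum.inr ab.2))

lemma exists_isCompPoly (i j : ℕ) :
    ∃ Q : MvPolynomial (Fin (i * j)) ℤ, IsCompPoly i j Q := by
  have hs : compGen (i * j) i j ∈ symmetricSubalgebra (Fin (i * j)) ℤ := by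
    intro e
    refine (esymm_map_hom (rename e).toRingHom _ _ j).trans ?_
    simp only [compGen]
    congr 1
    refine Multiset.map_congr rfl (fun s _ => rfl) |>.trans ?_
    have hmap : ((univ : Finset (Fin (i * j))).powersetCard i) =
        ((univ : Finset (Fin (i * j))).powersetCard i).map (mapEmbedding e.toEmbedding).toEmbedding := by
      rw [← Finset.powersetCard_map, Finset.map_univ_equiv]
    conv_rhs => rw [hmap, Finset.map_val, Multiset.map_map]
    refine Multiset.map_congr rfl fun s _ => ?_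
    simp [map_prod, Finset.prod_map, mapEmbedding_apply]
  obtain ⟨Q, hQ⟩ := esymmAlgHom_surjective (σ := Fin (i * j)) ℤ (n := i * j) (by simp) ⟨_, hs⟩
  have hQ' : aeval (fun k : Fin (i * j) => esymm (Fin (i * j)) ℤ (k + 1)) Q = compGen (i * j) i j := by
    rw [← esymmAlgHom_apply, hQ]
  refine ⟨Q, hQ', isWeightedHomogeneous_of_aeval (W := fun _ => 1)
    (g := fun k : Fin (i * j) => esymm (Fin (i * j)) ℤ (k + 1)) (fun k => ?_)
    (stInj_esymm ℤ (Fin (i * j)) _ (by simp)).injective ?_⟩
  · rw [esymm_eq_multiset_esymm]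
    simpa using esymm_isWeightedHomogeneous_map (univ : Finset (Fin (i * j))) (fun _ => 1) X 1
      (fun a _ => isWeightedHomogeneous_X ℤ (fun _ => (1 : ℕ)) a) (k + 1)
  · rw [hQ', compGen]
    have := esymm_isWeightedHomogeneous_map ((univ : Finset (Fin (i * j))).powersetCard i)
      (fun _ => (1 : ℕ)) (fun s => ∏ a ∈ s, (X a : MvPolynomial (Fin (i * j)) ℤ)) i
      (fun s hs => by
        have := IsWeightedHomogeneous.prod s (fun a => (X a : MvPolynomial (Fin (i * j)) ℤ))
          (fun _ => 1) fun a _ => isWeightedHomogeneous_X ℤ (fun _ => (1 : ℕ)) a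
        simpa [(Finset.mem_powersetCard.1 hs).2] using this) j
    simpa [mul_comm] using this

/-- Truncated variables. -/
noncomputable def uvar {σ : Type} {N : ℕ} (f : Fin N → σ) (k : ℕ) : MvPolynomial σ ℚ :=
  if h : k - 1 < N then X (f ⟨k - 1, h⟩) else 0

lemma aeval_int_comm {σ : Type w} {R : Type u} {S : Type v} [CommRing R] [CommRing S]
    [Algebra ℤ R] [Algebra ℤ S] (φ : R →+* S)
    (f : σ → R) (P : MvPolynomial σ ℤ) : φ (aeval f P) = aeval (fun i => φ (f i)) P := by
  induction P using MvPolynomial.induction_on with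
  | C r => simp
  | add a b ha hb => simp only [map_add, ha, hb]
  | mul_X a i ha => simp only [map_mul, ha, aeval_X]

lemma aeval_int_congr {σ : Type w} {R : Type u} [CommRing R] {i₁ i₂ : Algebra ℤ R} {f f' : σ → R}
    (h : ∀ i, f i = f' i) (P : MvPolynomial σ ℤ) :
    @aeval ℤ R σ _ _ i₁ f P = @aeval ℤ R σ _ _ i₂ f' P := by
  obtain rfl : f = f' := funext h
  obtain rfl : i₁ = i₂ := Subsingleton.elim _ _
  rfl

lemma mul_identity {n : ℕ} {P : MvPolynomial (Fin n ⊕ Fin n) ℤ} (hP : IsMulPoly n P)
    {R : Type u} [CommRing R] [Algebra ℚ R] (u v : ℕ → R) :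
    aeval (Sum.elim (fun k : Fin n => E u (k + 1)) (fun k : Fin n => E v (k + 1))) P =
      E (fun k => u k * v k) n := by
  let σ := Fin n ⊕ Fin n
  let U : ℕ → MvPolynomial σ ℚ := uvar Sum.inl
  let V : ℕ → MvPolynomial σ ℚ := uvar Sum.inr
  suffices h : aeval (Sum.elim (fun k : Fin n => E U (k + 1)) (fun k : Fin n => E V (k + 1))) P =
      E (fun k => U k * V k) n by
    let φ : MvPolynomial σ ℚ →+* R :=
      (aeval (Sum.elim (fun k : Fin n => u (k + 1)) (fun k : Fin n => v (k + 1)))).toRingHom
    have h' := congrArg φ h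
    rw [aeval_int_comm, map_E] at h'
    refine Eq.trans ?_ (h'.trans (E_congr n fun k h1 h2 => ?_))
    · refine aeval_int_congr (fun k => ?_) _
      rcases k with k | k <;>
      · simp only [Sum.elim_inl, Sum.elim_inr, map_E]
        refine E_congr _ fun l h1 h2 => ?_
        have : l - 1 < n := by omega
        simp [φ, U, V, uvar, this, show l - 1 + 1 = l by omega]
    · have : k - 1 < n := by omega
      simp [φ, U, V, uvar, this, show k - 1 + 1 = k by omega]
  let g : MvPolynomial σ ℚ →ₐ[ℚ] MvPolynomial σ ℚ :=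
    aeval (Sum.elim (fun k : Fin n => rename Sum.inl (psum (Fin n) ℚ (k + 1)))
      (fun k : Fin n => rename Sum.inr (psum (Fin n) ℚ (k + 1))))
  apply ((stInj_psum n).sum (stInj_psum n)).injective
  show g _ = g _
  have hmap := congrArg (MvPolynomial.map (Int.castRingHom ℚ)) hP.1
  rw [aeval_int_comm, LambdaRing.mulGen, esymm_map_hom, esymm_map_eq_E] at hmap
  rw [← RingHom.coe_coe g, aeval_int_comm, map_E]
  refine Eq.trans ?_ (hmap.trans (E_congr n fun k h1 h2 => ?_))
  · refine aeval_int_congr (fun k => ?_) _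
    rcases k with k | k <;>
    · simp only [Sum.elim_inl, Sum.elim_inr, map_rename, map_esymm, esymm_eq_E, map_E, RingHom.coe_coe]
      rw [← RingHom.coe_coe (rename (R := ℚ) _), map_E]
      refine E_congr _ fun l h1 h2 => ?_
      have : l - 1 < n := by omega
      simp [g, U, V, uvar, this, show l - 1 + 1 = l by omega]
  · have : k - 1 < n := by omega
    simp only [g, U, V, uvar, RingHom.coe_coe, dif_pos this, map_mul, aeval_X, Sum.elim_inl,
      Sum.elim_inr, show k - 1 + 1 = k by omega, psum, map_sum, map_pow, rename_X,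
      MvPolynomial.map_X, mul_pow, Fintype.sum_prod_type, Finset.sum_mul, Finset.mul_sum]
    exact Finset.sum_comm

lemma comp_identity {i j : ℕ} {Q : MvPolynomial (Fin (i * j)) ℤ} (hQ : IsCompPoly i j Q)
    {R : Type u} [CommRing R] [Algebra ℚ R] (u : ℕ → R) :
    aeval (fun k : Fin (i * j) => E u (k + 1)) Q =
      E (fun m => E (fun l => u (m * l)) i) j := by
  let N := i * j
  let U : ℕ → MvPolynomial (Fin N) ℚ := uvar id
  have hN : ∀ {m l : ℕ}, 1 ≤ m → m ≤ j → 1 ≤ l → l ≤ i → m * l - 1 < N := by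
    intro m l h1 h2 h3 h4
    have : m * l ≤ j * i := Nat.mul_le_mul h2 h4
    have : 1 ≤ m * l := Nat.mul_pos h1 h3
    simp only [N, Nat.mul_comm i j]; omega
  suffices h : aeval (fun k : Fin N => E U (k + 1)) Q = E (fun m => E (fun l => U (m * l)) i) j by
    let φ : MvPolynomial (Fin N) ℚ →+* R := (aeval (fun k : Fin N => u (k + 1))).toRingHom
    have h' := congrArg φ h
    rw [aeval_int_comm, map_E] at h'
    refine Eq.trans ?_ (h'.trans (E_congr j fun m h1 h2 => ?_))
    · refine aeval_int_congr (fun k => ?_) _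
      rw [map_E]
      refine E_congr _ fun l h1 h2 => ?_
      have : l - 1 < N := by omega
      simp [φ, U, uvar, this, show l - 1 + 1 = l by omega]
    · rw [map_E]
      refine E_congr _ fun l h3 h4 => ?_
      have : 1 ≤ m * l := Nat.mul_pos h1 h3
      simp [φ, U, uvar, hN h1 h2 h3 h4, show m * l - 1 + 1 = m * l by omega]
  let g : MvPolynomial (Fin N) ℚ →ₐ[ℚ] MvPolynomial (Fin N) ℚ :=
    aeval fun k : Fin N => psum (Fin N) ℚ (k + 1)
  apply (stInj_psum N).injective
  show g _ = g _
  have hmap := congrArg (MvPolynomial.map (Int.castRingHom ℚ)) hQ.1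
  rw [aeval_int_comm, LambdaRing.compGen, esymm_map_hom] at hmap
  have hs : ∀ f : Finset (Fin N) → MvPolynomial (Fin N) ℚ,
      (((univ : Finset (Fin N)).powersetCard i).val.map f).esymm j =
      E (fun k => ∑ s ∈ (univ : Finset (Fin N)).powersetCard i, f s ^ k) j := by
    intro f
    let S := (univ : Finset (Fin N)).powersetCard i
    have := esymm_map_eq_E (fun s : S => f s.1) j
    refine Eq.trans ?_ (this.trans (E_congr j fun k _ _ => Finset.sum_coe_sort S fun s => f s ^ k))
    congr 1
    rw [← Finset.attach_eq_univ, Finset.attach_val]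
    exact (Multiset.attach_map_val' _ f).symm
  rw [hs] at hmap
  rw [← RingHom.coe_coe g, aeval_int_comm, map_E]
  refine Eq.trans ?_ (hmap.trans (E_congr j fun m h1 h2 => ?_))
  · refine aeval_int_congr (fun k => ?_) _
    rw [map_esymm, esymm_eq_E, map_E]
    refine E_congr _ fun l h1 h2 => ?_
    have : l - 1 < N := by omega
    simp [g, U, uvar, this, show l - 1 + 1 = l by omega]
    rfl
  · rw [map_E]
    refine Eq.trans ?_ ((esymm_map_eq_E (fun a : Fin N => (X a : MvPolynomial (Fin N) ℚ) ^ m) i).trans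
      (E_congr i fun l h3 h4 => ?_))
    · rw [Finset.esymm_map_val]
      simp only [map_prod, MvPolynomial.map_X, Finset.prod_pow]
      rfl
    · have : 1 ≤ m * l := Nat.mul_pos h1 h3
      simp [g, U, uvar, hN h1 h2 h3 h4, show m * l - 1 + 1 = m * l by omega, psum, pow_mul]

theorem isSpecial_of_adamsOp {K : Type u} [CommRing K] [LambdaOps K] [Algebra ℚ K]
    (h1 : ∀ k : ℕ, 1 ≤ k → adamsOp k (1 : K) = 1)
    (hmul : ∀ k : ℕ, 1 ≤ k → ∀ x y : K, adamsOp k (x * y) = adamsOp k x * adamsOp k y)
    (hcomp : ∀ k k' : ℕ, 1 ≤ k → 1 ≤ k' → ∀ x : K, adamsOp k (adamsOp k' x) = adamsOp (k * k') x) :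
    IsSpecial K := by
  constructor
  · intro n hn
    rw [lam_eq_E, E_congr n (u' := fun _ => (1 : K)) fun k hk _ => h1 k hk]
    have h := eq_E (fun _ => (1 : K)) (fun m => if m ≤ 1 then 1 else 0) n (by simp) ?_ n le_rfl
    · rw [← h]; simp [show ¬ n ≤ 1 by omega]
    intro m _
    rcases m with _ | m
    · simp
    · rw [Finset.sum_range_succ, Finset.sum_range_succ, Finset.sum_eq_zero fun a ha => by
        rw [mem_range] at ha; simp [show ¬ m + 1 - a ≤ 1 by omega]]
      simp [pow_succ]
  · intro n P hP x y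
    rw [lam_eq_E, E_congr n (u' := fun k => adamsOp k x * adamsOp k y) fun k hk _ => hmul k hk x y,
      ← mul_identity hP]
    simp only [lam_eq_E]
  · intro i j Q hQ x
    simp only [lam_eq_E (R := K)]
    rw [comp_identity hQ (fun k => adamsOp k x)]
    refine E_congr j fun m hm _ => ?_
    let ψ : K →+* K :=
      { adamsHom m with
        map_one' := h1 m hm
        map_mul' := hmul m hm }
    refine (map_E ψ _ i).trans (E_congr i fun l hl _ => ?_)
    exact hcomp m l hm hl x

/-- The pre-λ-structure on a ℚ-algebra with given Adams operations. -/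
@[reducible] noncomputable def lambdaOpsOfAdams (K : Type u) [CommRing K] [Algebra ℚ K]
    (ψ : ℕ → K →+ K) (hψ : ψ 1 = AddMonoidHom.id K) : LambdaOps K where
  lam n x := E (fun k => ψ k x) n
  lam_zero x := E_zero _
  lam_one x := by
    have h := E_succ (fun k => ψ k x) 0
    simpa [E_zero, hψ] using h
  lam_add n x y := by
    refine (eq_E _ (fun n => ∑ i ∈ range (n + 1), E (fun k => ψ k x) i * E (fun k => ψ k y) (n - i))
      n (by simp [E_zero]) (fun m _ => ?_) n le_rfl).symm
    let S : (ℕ → K) → PowerSeries K := fun u => PowerSeries.mk (E u)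
    let L : (ℕ → K) → PowerSeries K := fun u => PowerSeries.mk fun a => (-1) ^ a * u (a + 1)
    have hS : ∀ u, PowerSeries.derivative K (S u) = L u * S u := by
      intro u
      ext a
      rw [PowerSeries.coeff_derivative, PowerSeries.coeff_mul,
        Finset.Nat.sum_antidiagonal_eq_sum_range_succ_mk]
      simp only [S, L, PowerSeries.coeff_mk]
      rw [← E_succ, Nat.cast_succ, mul_comm]
    have hco : ∀ a, PowerSeries.coeff a (S (fun k => ψ k x) * S (fun k => ψ k y)) =
        ∑ i ∈ range (a + 1), E (fun k => ψ k x) i * E (fun k => ψ k y) (a - i) := by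
      intro a
      rw [PowerSeries.coeff_mul, Finset.Nat.sum_antidiagonal_eq_sum_range_succ_mk]
      simp [S]
    have hprod : PowerSeries.derivative K (S (fun k => ψ k x) * S (fun k => ψ k y)) =
        L (fun k => ψ k (x + y)) * (S (fun k => ψ k x) * S (fun k => ψ k y)) := by
      rw [Derivation.leibniz, smul_eq_mul, smul_eq_mul, hS, hS,
        show L (fun k => ψ k (x + y)) = L (fun k => ψ k x) + L (fun k => ψ k y) by
          ext a; simp [L, mul_add]]
      ring
    have h := congrArg (PowerSeries.coeff m) hprod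
    rw [PowerSeries.coeff_derivative, PowerSeries.coeff_mul (φ := L (fun k => ψ k (x + y))),
      Finset.Nat.sum_antidiagonal_eq_sum_range_succ_mk] at h
    simp only [hco, L, PowerSeries.coeff_mk] at h
    rw [mul_comm, Nat.cast_succ]
    exact h

lemma adamsOp_lambdaOpsOfAdams (K : Type u) [CommRing K] [Algebra ℚ K]
    (ψ : ℕ → K →+ K) (hψ : ψ 1 = AddMonoidHom.id K) (k : ℕ) (hk : 1 ≤ k) (x : K) :
    @adamsOp K _ (lambdaOpsOfAdams K ψ hψ) k x = ψ k x := by
  let _ := lambdaOpsOfAdams K ψ hψ
  obtain ⟨m, rfl⟩ : ∃ m, k = m + 1 := ⟨k - 1, by omega⟩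
  induction m using Nat.strong_induction_on with
  | _ m ih =>
    have h := lam_succ_newton m x
    have h' := E_succ (fun k => ψ k x) m
    change ((m + 1 : ℕ) : K) * LambdaOps.lam (m + 1) x = _ at h'
    rw [h', Finset.sum_range_succ, Finset.sum_range_succ, Nat.sub_self, LambdaOps.lam_zero, E_zero,
      Finset.sum_congr rfl (g := fun a => (-1) ^ a * adamsOp (a + 1) x * LambdaOps.lam (m - a) x)
        (fun a ha => by rw [mem_range] at ha; rw [ih a ha (by omega)]; rfl)] at h
    have hu : IsUnit ((-1 : K) ^ m) := (isUnit_one.neg).pow _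
    exact (hu.mul_left_cancel (by simpa using h)).symm

lemma lambdaOps_ext {K : Type u} [CommRing K] [Algebra ℚ K] (L L' : LambdaOps K)
    (h : ∀ k : ℕ, 1 ≤ k → ∀ x : K, @adamsOp K _ L k x = @adamsOp K _ L' k x) : L = L' := by
  rcases L with ⟨lam, l0, l1, la⟩
  rcases L' with ⟨lam', l0', l1', la'⟩
  congr
  funext n x
  have e := @lam_eq_E K _ _ ⟨lam, l0, l1, la⟩ n x
  have e' := @lam_eq_E K _ _ ⟨lam', l0', l1', la'⟩ n x
  exact e.trans ((E_congr n fun k hk _ => h k hk x).trans e'.symm)

end Groth.Agent.Lambda
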